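import Cfsg.Agent.TAB.C2B.Fib

/-!
# The elements of `Q = 2^(1+24)` (helper47)
-/

set_option autoImplicit false
set_option maxRecDepth 100000

namespace Cfsg.Agent.TAB.C2B

open Cfsg Cfsg.Agent.Monster Cfsg.Agent.MonsterX
open Cfsg.Agent.Monster.PauliBasic Cfsg.Agent.Monster.PauliClif Cfsg.Agent.Monster.PauliRep
open Cfsg.Agent.Monster.PauliBits (bit bit_xor)
open Cfsg.Agent.H123.Cls
open Cfsg.Agent.Lib.BitNetSimple (force force_eq)
open Cfsg.Agent.Lib.BitNet (value)
open Cfsg.Agent.H155.TC.Pau (tr)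
open Cfsg.Agent.H155.TC.Val (ι_inj)
open Cfsg.Agent.BpSpor.MBigModel (MG zz pi chart)
open Cfsg.Agent.H264.TC.NoReal39 (CL)
open Cfsg.Agent.MonsterX.LaneLab (XL)
open Cfsg.Agent.MonsterX.LaneVec (lv sqNorm_lv card_XL)
open Cfsg.Agent.H68.CoGen (code code_eq_iff)
open Cfsg.Agent.H68.CoMdl (lf L L_mk L_lt L_zero L_mul L_one code_lf' code_lf_code val_live val_lt val_inj exists_img lenC)
open Cfsg.Agent.MonsterU.Lam2 (IsType cl cl_eq type_cases smul_cl)
open Finset

theorem ind_conj (p : Pauli 12) : Ind (MulAut.conj p) id := fun c => by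
  rw [MulAut.conj_apply, Pauli.conj_eq]
  rfl

theorem sS_conj (t : ZMod 2) {c : ℕ} (hc : c < 2 ^ 24) :
    sS (MulAut.conj (ps t c)) = 98280 - 2 * (cnt (xc CL (sw c) &&& XL) : ℚ) := by
  have h := sum_mask (xc CL (sw c)) XL
  rw [cnt_XL] at h
  rw [show (98280 : ℚ) = (98280 : ℕ) by norm_num, ← h]
  refine sum_congr rfl fun j _ => ?_
  have h1 := sv_mul_conj ind_one t hc (value CL j)
  rw [one_mul] at h1
  rw [(ind_conj _).phi_eq (val_lt j) (val_lt j), if_pos (id_eq _), h1, bit_xc_value lenC]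
  exact if_congr Iff.rfl (congrArg _ (add_zero _)) rfl

theorem tr_rho_ps (t : ZMod 2) {c : ℕ} (hc : c < 2 ^ 24) (h0 : c ≠ 0) : tr (rho ℚ (ps t c)) = 0 := by
  have h := tr_rho_ch (n := 12) 1 (ps t c)
  rw [inv_one, mul_one, ch, if_neg, if_neg, mul_zero] at h
  · exact h
  · rw [← ps_one_zero, ps_add, ← ps_zero_zero]
    exact fun h1 => h0 (ps_inj (by norm_num) hc h1).2.symm
  · rw [← ps_zero_zero]
    exact fun h1 => h0 (ps_inj (by norm_num) hc h1).2.symm

theorem tV_io (t : ZMod 2) {c : ℕ} (hc : c < 2 ^ 24) (h0 : c ≠ 0) :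
    tV (io (ps t c)) = 300 + sS (MulAut.conj (ps t c)) := by
  rw [(ac_io _).tV, mul_one, trace_mat_one, tr_rho_ps t hc h0]
  norm_num

/-- the number of the short vectors with the sign `-1` -/
noncomputable def nS (c : ℕ) : ℕ := cnt (xc CL (sw c) &&& XL)

theorem orbit_inv (g : Co0) {c : ℕ} (hc : c < 2 ^ 24) (h0 : c ≠ 0) :
    nS (L (QuotientGroup.mk g) c) = nS c ∧ bt (L (QuotientGroup.mk g) c) (L (QuotientGroup.mk g) c) = bt c c := by
  obtain ⟨x, hx⟩ := chart.pi_surj (QuotientGroup.mk g)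
  obtain ⟨α, T, h⟩ := exists_ac x hx
  have h1 := h.alpha (ps 0 c)
  rw [(ind_of_compat h.compat).eq'] at h1
  have h2 : L (QuotientGroup.mk g) c ≠ 0 := by
    intro h3
    have h4 := L_mul (QuotientGroup.mk g)⁻¹ (QuotientGroup.mk g) c
    rw [inv_mul_cancel, L_one c hc, h3, L_zero] at h4
    exact h0 h4
  constructor
  · have h3 := congrArg tV h1
    rw [tV_conj, tV_io _ (L_lt _ _) h2, tV_io _ hc h0, sS_conj _ (L_lt _ _), sS_conj _ hc] at h3
    have h4 : (nS (L (QuotientGroup.mk g) c) : ℚ) = nS c := by unfold nS; linarith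
    exact_mod_cast h4
  · have h3 := congrArg (· ^ 2) h1
    simp only [conj_pow, io_sq] at h3
    rw [← h.alpha, aut_ps] at h3
    exact (ps_inj (by norm_num) (by norm_num) (ι_inj h3)).1

theorem cl_eq_iff {v w : leechLattice} : cl v = cl w ↔ code v = code w := by rw [cl_eq, code_eq_iff, Psi.psi_eq_iff]

theorem exists_move {n : ℤ} (hn : n = 2 ∨ n = 3 ∨ n = 4) {a c : ℕ} (hc : c < 2 ^ 24) (h1 : IsType n (cl (lf a)))
    (h2 : IsType n (cl (lf c))) : ∃ g : Co0, L (QuotientGroup.mk g) a = c := by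
  obtain ⟨g, hg⟩ := IsType.trans hn h1 h2
  rw [smul_cl, cl_eq_iff, code_lf' hc] at hg
  exact ⟨g, by rw [L_mk, hg]⟩

theorem type_inv {n : ℤ} (hn : n = 2 ∨ n = 3 ∨ n = 4) {a c : ℕ} (ha : a < 2 ^ 24) (h0 : a ≠ 0) (hc : c < 2 ^ 24)
    (h1 : IsType n (cl (lf a))) (h2 : IsType n (cl (lf c))) : nS c = nS a ∧ bt c c = bt a a := by
  obtain ⟨g, rfl⟩ := exists_move hn hc h1 h2
  exact orbit_inv g ha h0

theorem type_cases' {c : ℕ} (hc : c < 2 ^ 24) (h0 : c ≠ 0) :
    IsType 2 (cl (lf c)) ∨ IsType 3 (cl (lf c)) ∨ IsType 4 (cl (lf c)) := by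
  refine (type_cases _).resolve_left fun h => h0 ?_
  rw [← map_zero cl, cl_eq_iff, code_lf' hc, H68.CoGen.code_zero] at h
  exact h

/-- the codes of the short vectors -/
def Short (c : ℕ) : Prop := ∃ j, XL.testBit j = true ∧ value CL j = c

theorem Short.type {c : ℕ} (h : Short c) : IsType 2 (cl (lf c)) := by
  obtain ⟨j, hj, rfl⟩ := h
  exact ⟨lv j, by rw [sqNorm_lv hj]; rfl, by rw [cl_eq_iff, val_live hj, code_lf_code]⟩

/-- test -/
noncomputable def chkP (c n q : ℕ) : Bool := force c fun c => force (sw c) fun e =>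
  band (Nat.beq (qcF c) q) (fB (cmb 18 13) fun M => fB (Nat.land (xF CL e 0) XL) fun y => Nat.beq (popS 18 M y) n)

theorem chkP_spec {c n q : ℕ} (h : chkP c n q = true) : qcF c = q ∧ nS c = n := by
  rw [chkP, force_eq, force_eq] at h
  obtain ⟨h1, h2⟩ := band_true h
  rw [fB_eq, fB_eq, xF_eq, Nat.zero_xor, popS_18 fun i hi => by
    have h3 : (xc CL (sw c) &&& XL).testBit i = true := hi
    rw [Nat.testBit_and, Bool.and_eq_true] at h3
    exact XL_lt h3.2] at h2
  exact ⟨Nat.eq_of_beq_eq_true h1, Nat.eq_of_beq_eq_true h2⟩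

theorem pS : chkP (cdF CL 62465) 47104 1 = true := by decide +kernel

theorem pA : chkP 4097 49152 2 = true := by decide +kernel

theorem pB : chkP 1 49152 1 = true := by decide +kernel

theorem XL_base : XL.testBit 62465 = true := by decide +kernel

theorem of_qc_one {c : ℕ} (h : qcF c = 1) : c ≠ 0 ∧ bt c c = 0 := by
  rcases qcF_spec c with ⟨-, a⟩ | ⟨a, b, -⟩ | ⟨-, -, a⟩
  · omega
  · exact ⟨a, b⟩
  · omega

theorem of_qc_two {c : ℕ} (h : qcF c = 2) : bt c c = 1 := by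
  rcases qcF_spec c with ⟨-, a⟩ | ⟨-, -, a⟩ | ⟨-, a, -⟩
  · omega
  · omega
  · exact a

theorem type_two {c : ℕ} (hc : c < 2 ^ 24) (h : IsType 2 (cl (lf c))) : Short c ∧ nS c = 47104 ∧ bt c c = 0 := by
  have hS : Short (value CL 62465) := ⟨_, XL_base, rfl⟩
  obtain ⟨h1, h2⟩ := chkP_spec pS
  rw [cdF_eq] at h1 h2
  obtain ⟨h3, h4⟩ := of_qc_one h1
  obtain ⟨h5, h6⟩ := type_inv (Or.inl rfl) (val_lt _) h3 hc hS.type h
  obtain ⟨g, hg⟩ := exists_move (Or.inl rfl) hc hS.type h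
  obtain ⟨j, hj, h7⟩ := exists_img (QuotientGroup.mk g) XL_base
  exact ⟨⟨j, hj, h7.trans hg⟩, h5.trans h2, h6.trans h4⟩

theorem Short.lt {c : ℕ} (h : Short c) : c < 2 ^ 24 := by
  obtain ⟨j, -, rfl⟩ := h
  exact val_lt j

theorem Short.facts {c : ℕ} (h : Short c) : c ≠ 0 ∧ nS c = 47104 ∧ bt c c = 0 := by
  obtain ⟨-, h1, h2⟩ := type_two h.lt h.type
  refine ⟨fun h0 => ?_, h1, h2⟩
  rw [h0, nS, sw_zero, xc_zero, Nat.zero_and, cnt_zero] at h1
  omega

theorem nS_other {c : ℕ} (hc : c < 2 ^ 24) (h0 : c ≠ 0) (hs : ¬ Short c) : nS c = 49152 := by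
  obtain ⟨a1, a2⟩ := chkP_spec pA
  obtain ⟨b1, b2⟩ := chkP_spec pB
  have a3 := of_qc_two a1
  have b3 := (of_qc_one b1).2
  have lA : 4097 < 2 ^ 24 := by norm_num
  have lB : 1 < 2 ^ 24 := by norm_num
  have tA := (type_cases' lA (by norm_num)).resolve_left fun h => by have := (type_two lA h).2.1; omega
  have tB := (type_cases' lB (by norm_num)).resolve_left fun h => by have := (type_two lB h).2.1; omega
  have hne : ∀ n : ℤ, n = 2 ∨ n = 3 ∨ n = 4 → IsType n (cl (lf 4097)) → IsType n (cl (lf 1)) → False := by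
    intro n hn h1 h2
    have := (type_inv hn lA (by norm_num) lB h1 h2).2
    rw [a3, b3] at this
    exact absurd this (by decide)
  have n3 : (3 : ℤ) = 2 ∨ (3 : ℤ) = 3 ∨ (3 : ℤ) = 4 := Or.inr (Or.inl rfl)
  have n4 : (4 : ℤ) = 2 ∨ (4 : ℤ) = 3 ∨ (4 : ℤ) = 4 := Or.inr (Or.inr rfl)
  rcases (type_cases' hc h0).resolve_left fun h => hs (type_two hc h).1 with h | h
  · rcases tA with tA | tA
    · rw [(type_inv n3 lA (by norm_num) hc tA h).1, a2]
    · rcases tB with tB | tB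
      · rw [(type_inv n3 lB (by norm_num) hc tB h).1, b2]
      · exact (hne 4 n4 tA tB).elim
  · rcases tA with tA | tA
    · rcases tB with tB | tB
      · exact (hne 3 n3 tA tB).elim
      · rw [(type_inv n4 lB (by norm_num) hc tB h).1, b2]
    · rw [(type_inv n4 lA (by norm_num) hc tA h).1, a2]

/-! ### counting -/

open Classical in
theorem card_short : ((range (2 ^ 24)).filter Short).card = 98280 := by
  rw [← card_XL]
  symm
  refine card_bij (fun j _ => value CL j) (fun j hj => mem_filter.2 ⟨mem_range.2 (val_lt j), j, (mem_filter.1 hj).2, rfl⟩)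
    (fun i hi j hj h => val_inj (mem_filter.1 hi).2 (mem_filter.1 hj).2 h) fun c hc => ?_
  obtain ⟨j, hj, h⟩ := (mem_filter.1 hc).2
  exact ⟨j, mem_filter.2 ⟨mem_range.2 (XL_lt hj), hj⟩, h⟩

theorem sum_sg_eq (S : Finset ℕ) (f : ℕ → ZMod 2) :
    ∑ c ∈ S, sg ℚ (f c) = S.card - 2 * ((S.filter fun c => f c = 1).card : ℚ) := by
  rw [card_filter, card_eq_sum_ones]
  push_cast
  rw [mul_sum, ← sum_sub_distrib]
  refine sum_congr rfl fun c _ => ?_
  rcases zmod2_cases (f c) with h | h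
  · rw [h, sg_zero, if_neg (by decide)]
    norm_num
  · rw [h, sg_one, if_pos rfl]
    norm_num

theorem card_odd : ((range (2 ^ 24)).filter fun c => bt c c = 1).card = 8386560 := by
  have h := (Cl.one (n := 12)).two24
  simp only [phi_one, one_mul] at h
  rw [tr_one, sum_sg_eq, card_range] at h
  generalize ((range (2 ^ 24)).filter fun c => bt c c = 1).card = m at h ⊢
  have h1 : (m : ℚ) = (8386560 : ℕ) := by
    push_cast at h ⊢
    linarith
  exact_mod_cast h1

/-- the five kinds of elements -/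
def Cat (p : Pauli 12) (j : ℕ) : Prop :=
  (j = 0 ∧ p = 1) ∨ (j = 1 ∧ p = Pauli.z 12) ∨ ∃ t c, c < 2 ^ 24 ∧ c ≠ 0 ∧ p = ps t c ∧
    ((j = 2 ∧ bt c c = 0 ∧ sS (MulAut.conj p) = 4072) ∨ (j = 3 ∧ bt c c = 1 ∧ sS (MulAut.conj p) = -24) ∨
      (j = 4 ∧ bt c c = 0 ∧ sS (MulAut.conj p) = -24))

open Classical in
/-- the kind -/
noncomputable def catN (t : ZMod 2) (c : ℕ) : ℕ :=
  if c = 0 then (if t = 0 then 0 else 1) else if Short c then 2 else if bt c c = 1 then 3 else 4

theorem cat_catN (t : ZMod 2) {c : ℕ} (hc : c < 2 ^ 24) : Cat (ps t c) (catN t c) := by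
  unfold catN
  split_ifs with h1 h2 h3 h4
  · exact Or.inl ⟨rfl, by rw [h1, h2, ps_zero_zero]⟩
  · exact Or.inr (Or.inl ⟨rfl, by rw [h1, (zmod2_cases t).resolve_left h2, ps_one_zero]⟩)
  · refine Or.inr (Or.inr ⟨t, c, hc, h1, rfl, Or.inl ⟨rfl, h3.facts.2.2, ?_⟩⟩)
    have h5 : cnt (xc CL (sw c) &&& XL) = 47104 := h3.facts.2.1
    rw [sS_conj t hc, h5]
    norm_num
  · refine Or.inr (Or.inr ⟨t, c, hc, h1, rfl, Or.inr (Or.inl ⟨rfl, h4, ?_⟩)⟩)
    have h5 : cnt (xc CL (sw c) &&& XL) = 49152 := nS_other hc h1 h3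
    rw [sS_conj t hc, h5]
    norm_num
  · refine Or.inr (Or.inr ⟨t, c, hc, h1, rfl, Or.inr (Or.inr ⟨rfl, (zmod2_cases _).resolve_right h4, ?_⟩)⟩)
    have h5 : cnt (xc CL (sw c) &&& XL) = 49152 := nS_other hc h1 h3
    rw [sS_conj t hc, h5]
    norm_num

theorem exists_cat (p : Pauli 12) : ∃ j < 5, Cat p j := by
  obtain ⟨c, hc, h⟩ := exists_ps p
  refine ⟨catN p.s c, ?_, by have := cat_catN p.s hc; rwa [← h] at this⟩
  unfold catN
  split_ifs <;> norm_num

open Classical in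
theorem sum_cat {N : ℕ} (hN : N = 16777216) (h2 : ((range N).filter Short).card = 98280)
    (h3 : ((range N).filter fun c => bt c c = 1).card = 8386560) (f : ℕ → ℕ) :
    ∑ c ∈ range N, ∑ t : ZMod 2, f (catN t c) = f 0 + f 1 + 196560 * f 2 + 16773120 * f 3 + 16584750 * f 4 := by
  have e : ∀ c, ∑ t : ZMod 2, f (catN t c) =
      if c = 0 then f 0 + f 1 else if Short c then 2 * f 2 else if bt c c = 1 then 2 * f 3 else 2 * f 4 := by
    intro c
    have e1 : ∑ t : ZMod 2, f (catN t c) = f (catN 0 c) + f (catN 1 c) := Fin.sum_univ_two _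
    rw [e1]
    unfold catN
    split_ifs <;> first | omega | contradiction
  have a1 : ((range N).filter fun c => c = 0).card = 1 := by
    rw [filter_eq', if_pos (mem_range.2 (by omega)), card_singleton]
  have a2 : (((range N).filter fun c => ¬ c = 0).filter Short).card = 98280 := by
    rw [← h2, filter_filter]
    exact congrArg card (filter_congr fun c _ => ⟨fun h => h.2, fun h => ⟨h.facts.1, h⟩⟩)
  have a3 : ((((range N).filter fun c => ¬ c = 0).filter fun c => ¬ Short c).filter fun c => bt c c = 1).card = 8386560 := by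
    rw [← h3, filter_filter, filter_filter]
    refine congrArg card (filter_congr fun c _ => ⟨fun h => h.2.2, fun h => ⟨fun h0 => ?_, fun h0 => ?_, h⟩⟩)
    · rw [h0, bt_zero_left] at h
      exact absurd h (by decide)
    · rw [h0.facts.2.2] at h
      exact absurd h (by decide)
  have b1 := card_filter_add_card_filter_not (s := range N) fun c => c = 0
  have b2 := card_filter_add_card_filter_not (s := (range N).filter fun c => ¬ c = 0) Short
  have b3 := card_filter_add_card_filter_not (s := ((range N).filter fun c => ¬ c = 0).filter fun c => ¬ Short c)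
    fun c => bt c c = 1
  rw [card_range] at b1
  rw [sum_congr rfl fun c _ => e c, sum_ite, sum_ite, sum_ite, sum_const, sum_const, sum_const, sum_const, a1, a2, a3]
  have a4 : ((((range N).filter fun c => ¬ c = 0).filter fun c => ¬ Short c).filter fun c => ¬ bt c c = 1).card =
    8292375 := by omega
  rw [a4]
  simp only [smul_eq_mul]
  ring

/-- **the count in `Q`** -/
theorem card_id (P : MG → Prop) (F : ℕ → Prop) [DecidablePred F] (hP : ∀ p j, Cat p j → (P (io p) ↔ F j)) :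
    Nat.card {x : Cz // pi x = 1 ∧ P x} = (if F 0 then 1 else 0) + (if F 1 then 1 else 0) +
      196560 * (if F 2 then 1 else 0) + 16773120 * (if F 3 then 1 else 0) + 16584750 * (if F 4 then 1 else 0) := by
  have e1 := sum_cat (N := 2 ^ 24) (by norm_num) card_short card_odd fun j => if F j then 1 else 0
  have e2 : ∀ p : Pauli 12, ∃ c < 2 ^ 24, p = ps p.s c := exists_ps
  have e3 : ∀ a < 2 ^ 24, ∀ b < 2 ^ 24, ∀ t u, ps t a = ps u b → t = u ∧ a = b := fun a ha b hb t u => ps_inj ha hb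
  have key : ∀ c < 2 ^ 24, ∀ t, (P (io (ps t c)) ↔ F (catN t c)) := fun c hc t => hP _ _ (cat_catN t hc)
  generalize 2 ^ 24 = N at key e1 e2 e3
  rw [← e1, ← sum_product' (f := fun c t => if F (catN t c) then 1 else 0), ← card_filter]
  refine card_abs _ (fun q => ioC (ps q.2 q.1)) _ (fun q hq q' hq' h => ?_) fun x => ⟨?_, ?_⟩
  · obtain ⟨c1, c2⟩ := e3 _ (mem_range.1 (mem_product.1 (mem_filter.1 hq).1).1) _
      (mem_range.1 (mem_product.1 (mem_filter.1 hq').1).1) _ _ (ι_inj (congrArg Subtype.val h))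
    exact Prod.ext c2 c1
  · rintro ⟨a1, a2⟩
    obtain ⟨p, hp⟩ := (chart.pi_eq_one _).1 a1
    obtain ⟨c, hc, h⟩ := e2 p
    rw [h] at hp
    exact ⟨(c, p.s), mem_filter.2 ⟨mem_product.2 ⟨mem_range.2 hc, mem_univ _⟩, (key c hc _).1 (by rw [hp]; exact a2)⟩,
      Subtype.ext hp⟩
  · rintro ⟨q, hq, rfl⟩
    obtain ⟨a0, a3⟩ := mem_filter.1 hq
    exact ⟨pi_ioC _, (key _ (mem_range.1 (mem_product.1 a0).1) _).2 a3⟩

end Cfsg.Agent.TAB.C2B
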