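import Cfsg.Agent.H123.Cls.LCov

/-!
# The sizes of the classes of `Co1` (helper47)

`card_sum` : the number of the elements with an invariant property, from the numbers in the cosets over the 101 classes.
-/

set_option autoImplicit false
set_option maxRecDepth 100000

namespace Cfsg.Agent.TAB.C2B

open Cfsg Cfsg.Agent.H123.Cls Cfsg.Agent.H123.Cls.CoD Cfsg.Agent.H68.CoMdl Cfsg.Agent.H785.TC
open Cfsg.Agent.H264.TC.NoReal39
open Finset

theorem card_cls {G : Type*} [Group G] [Fintype G] (g : G) [DecidablePred fun x => IsConj x g] :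
    (univ.filter fun x => IsConj x g).card * Nat.card ↥(Subgroup.centralizer {g}) = Nat.card G := by
  have h1 := (MulAction.stabilizer (ConjAct G) g).index_mul_card
  rw [MulAction.index_stabilizer, ← Subgroup.nat_card_centralizer_nat_card_stabilizer] at h1
  have h2 : (MulAction.orbit (ConjAct G) g).ncard = (univ.filter fun x => IsConj x g).card := by
    rw [← Set.ncard_coe_finset]
    congr 1
    ext x
    rw [ConjAct.mem_orbit_conjAct, coe_filter]
    simp
  rw [← h2, h1]
  rfl

theorem card_sumG {G H : Type*} [Group G] [Finite G] [Group H] [Finite H] {ι : Type} [Fintype ι] (r : ι → G) (c : ι → ℕ)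
    (hc : ∀ i, Nat.card ↥(Subgroup.centralizer {r i}) ≤ c i) (hne : ∀ i j, i ≠ j → ¬ IsConj (r i) (r j))
    (hsum : Nat.card G = ∑ i, Nat.card G / c i) (φ : H →* G) (hφ : Function.Surjective φ) (P : H → Prop)
    (hP : ∀ x y, P x → P (y * x * y⁻¹)) :
    Nat.card {x // P x} = ∑ i, Nat.card G / c i * Nat.card {x // φ x = r i ∧ P x} := by
  classical
  have := Fintype.ofFinite G
  have := Fintype.ofFinite H
  choose f hf using coverG r c hc hne hsum.le
  have hfi : ∀ i g, f g = i ↔ IsConj g (r i) := fun i g =>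
    ⟨fun h => h ▸ hf g, fun h => by_contra fun h1 => hne _ _ h1 ((hf g).symm.trans h)⟩
  have h1 : ∀ i, Nat.card G / c i ≤ (univ.filter fun g => f g = i).card := by
    intro i
    have h2 := card_cls (r i)
    rw [filter_congr fun g _ => hfi i g]
    calc Nat.card G / c i ≤ Nat.card G / Nat.card ↥(Subgroup.centralizer {r i}) :=
          Nat.div_le_div_left (hc i) Nat.card_pos
      _ = _ := by rw [← h2, Nat.mul_div_cancel _ Nat.card_pos]
  have h2 : ∑ i, Nat.card G / c i = ∑ i, (univ.filter fun g => f g = i).card := by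
    rw [← hsum, ← card_eq_sum_card_fiberwise (s := univ) (t := univ) (f := f) fun _ _ => mem_coe.2 (mem_univ _),
      card_univ, Nat.card_eq_fintype_card]
  have h3 := (sum_eq_sum_iff_of_le fun i _ => h1 i).1 h2
  have h4 : ∀ a b : G, IsConj a b → (univ.filter fun x => φ x = a ∧ P x).card = (univ.filter fun x => φ x = b ∧ P x).card := by
    intro a b hab
    obtain ⟨u, rfl⟩ := isConj_iff.1 hab
    obtain ⟨y, rfl⟩ := hφ u
    refine card_bij (fun x _ => y * x * y⁻¹) (fun x hx => ?_) (fun x _ x' _ h => by simpa using h) fun x hx => ?_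
    · obtain ⟨a1, a2⟩ := (mem_filter.1 hx).2
      exact mem_filter.2 ⟨mem_univ _, by rw [map_mul, map_mul, map_inv, a1], hP x y a2⟩
    · obtain ⟨a1, a2⟩ := (mem_filter.1 hx).2
      refine ⟨y⁻¹ * x * y⁻¹⁻¹, mem_filter.2 ⟨mem_univ _, ?_, hP x _ a2⟩, by group⟩
      rw [map_mul, map_mul, map_inv, map_inv, map_inv, a1]
      group
  rw [Nat.subtype_card (univ.filter P) (by simp),
    card_eq_sum_card_fiberwise (s := univ.filter P) (t := univ) (f := φ) fun _ _ => mem_coe.2 (mem_univ _),
    ← sum_fiberwise_of_maps_to (s := univ) (t := univ) (g := f) fun _ _ => mem_univ _]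
  refine sum_congr rfl fun i _ => ?_
  rw [Nat.subtype_card (univ.filter fun x => φ x = r i ∧ P x) (by simp), h3 i (mem_univ _), ← smul_eq_mul, ← sum_const]
  refine sum_congr rfl fun g hg => ?_
  rw [← h4 _ _ ((hfi i g).1 (mem_filter.1 hg).2), filter_filter]
  exact congrArg card (filter_congr fun x _ => and_comm)

/-- the representatives -/
noncomputable def rp (d : Ent) : Spor.Co1 := wG ga gb d.x d.w

theorem rp_L {d : Ent} (hd : d ∈ Dl) (c : ℕ) : S1.L (rp d) c = xc d.R c := S1.of_chkWd L_ga L_gb (allW d hd) c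

theorem eq_one_of_unL (x : Spor.Co1) (hx : ∀ c, S1.L x c = xc unL c) : x = 1 := by
  apply S1.faith
  intro k hk
  rw [hx, Mdl.xc_unL _ (Nat.pow_lt_pow_right (by norm_num) hk)]

theorem rp_100 : rp d100 = 1 := eq_one_of_unL _ (rp_L (by simp [Dl]))

theorem cent_le {d : Ent} (hd : d ∈ Dl) : Nat.card ↥(Subgroup.centralizer {rp d}) ≤ d.c + 1 := by
  have hr := rp_L hd
  rcases allB d hd with h | rfl | rfl
  · obtain ⟨b', L, h1⟩ := h
    exact S1.card_cent hr h1
  · refine seven ?_
    have h1 : wG (rp d25) (rp d25) false [false, false, false, false, false, false] = 1 :=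
      eq_one_of_unL _ (S1.of_chkWd hr hr w25)
    have h3 : rp d25 ^ 7 = 1 := by
      rw [← h1]
      simp only [wG, cond_false, pow_succ, pow_zero, one_mul, mul_assoc]
    refine (orderOf_eq_prime_iff (hp := ⟨by norm_num⟩)).2 ⟨h3, fun h4 => ?_⟩
    have h5 := hr (2 ^ 0)
    rw [h4, S1.L_one _ (by norm_num), xc_two_pow] at h5
    revert h5
    decide
  · calc Nat.card ↥(Subgroup.centralizer {rp d100}) ≤ Nat.card Spor.Co1 := Subgroup.card_le_card_group _
      _ = d100.c + 1 := card_co1

theorem not_conj_93 {r s : Spor.Co1} (hr : ∀ c, S1.L r c = xc d93.R c) (hs : ∀ c, S1.L s c = xc d99.R c) :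
    ¬ IsConj r s := by
  intro hc
  have h0 : wG r s false [true] = 1 := eq_one_of_unL _ (S1.of_chkWd hr hs w93)
  have h1 : r * s = 1 := h0
  rw [eq_inv_of_mul_eq_one_right h1] at hc
  exact no39 S1 rfl rfl rfl r hr hc

theorem not_conj_lt (i j : Fin Dl.length) (hij : i < j) : ¬ IsConj (rp Dl[i.1]) (rp Dl[j.1]) := by
  have hmem : ∀ i : Fin Dl.length, Dl[i.1] ∈ Dl := fun i => List.getElem_mem i.2
  have hk : ∀ d ∈ Dl, chkK S1.C S1.D S1.U (cmb 18 13) d.R d.K = true := by
    intro d hd
    have h := allK d hd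
    rwa [okK, fB_eq] at h
  have hr := rp_L (hmem i)
  have hs := rp_L (hmem j)
  rcases (List.pairwise_iff_getElem.1 pwD) i.1 j.1 i.2 j.2 hij with h | h
  · exact S1.not_conj hr hs (hk _ (hmem i)) (hk _ (hmem j)) h
  · rw [h.1] at hr
    rw [h.2] at hs
    exact not_conj_93 hr hs

/-- **counting over the classes of `Co1`** -/
theorem card_sum {H : Type*} [Group H] [Finite H] (φ : H →* Spor.Co1) (hφ : Function.Surjective φ) (P : H → Prop)
    (hP : ∀ x y, P x → P (y * x * y⁻¹)) : Nat.card {x // P x} =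
      (Dl.map fun d => 4157776806543360000 / (d.c + 1) * Nat.card {x // φ x = rp d ∧ P x}).sum := by
  have h := card_sumG (fun i : Fin Dl.length => rp Dl[i.1]) (fun i => (Dl[i.1]).c + 1)
    (fun i => cent_le (List.getElem_mem i.2)) (fun i j hij h => by
      rcases lt_or_gt_of_ne hij with h1 | h1
      · exact not_conj_lt i j h1 h
      · exact not_conj_lt j i h1 h.symm) (by
      rw [Fin.sum_univ_fun_getElem Dl (fun d => Nat.card Spor.Co1 / (d.c + 1)), card_co1, sumD]) φ hφ P hP
  rw [h, card_co1]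
  exact Fin.sum_univ_fun_getElem Dl fun d => 4157776806543360000 / (d.c + 1) * Nat.card {x // φ x = rp d ∧ P x}

end Cfsg.Agent.TAB.C2B
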