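import Cfsg.Agent.TAB.C2B.All
import Cfsg.Agent.TAB.C2B.Siz
import Cfsg.Agent.TAB.C2B.Idn

/-!
# Types of the elements of `C(z) = 2^(1+24).Co1` in the Monster : the results (helper47)

`cover : Cover`, `countZ : CountZ`, `countC : CountC`, `mass : Mass`.
-/

set_option autoImplicit false
set_option maxRecDepth 100000

namespace Cfsg.Agent.TAB.C2B

open Cfsg Cfsg.Agent.Monster Cfsg.Agent.MonsterX
open Cfsg.Agent.Monster.PauliBasic Cfsg.Agent.Monster.PauliClif Cfsg.Agent.Monster.PauliRep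
open Cfsg.Agent.H123.Cls
open Cfsg.Agent.Lib.BitNet (value)
open Cfsg.Agent.H264.TC.NoReal39 (CL)
open Cfsg.Agent.H68.CoMdl (val_lt)
open Cfsg.Agent.BpSpor.MBigModel (MG zz pi chart zz_ne orderOf_zz cls card_cent_z)
open Subgroup (centralizer mem_centralizer_singleton_iff)
open Finset

/-- the type with the number `i`, and the flag -/
def Typed (k : MG) (i : ℕ) (f : Bool) : Prop :=
  i < 129 ∧ HasTy k (TT.getD i dT) ∧ (k ^ ((TT.getD i dT).ord / 2) = zz ↔ f = true)

theorem TT_getD {i : ℕ} (hi : i < TT.length) : TT.getD i dT = TT[i] := List.getD_eq_getElem _ _ hi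

theorem Typed.uniq {k : MG} {i j : ℕ} {f : Bool} (h : Typed k i f) (hj : j < 129) (h' : HasTy k (TT.getD j dT)) : i = j := by
  have a1 : i < TT.length := TT_length ▸ h.1
  have a2 : j < TT.length := TT_length ▸ hj
  exact ty_uniq a1 a2 (TT_getD a1 ▸ h.2.1) (TT_getD a2 ▸ h')

/-- the types of the five kinds -/
def catT (j : ℕ) : ℕ := [0, 1, 2, 9, 1].getD j 0

/-- the flags of the five kinds -/
def catF (j : ℕ) : Bool := [false, true, false, true, false].getD j false

theorem Cat.ty {p : Pauli 12} {j : ℕ} (h : Cat p j) : Typed (io p) (catT j) (catF j) := by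
  have e0 : (TT.getD 0 dT).ord = 1 ∧ (TT.getD 0 dT).val = [] := by decide +kernel
  have e1 : (TT.getD 1 dT).ord = 2 ∧ (TT.getD 1 dT).val = [(1, 276)] := by decide +kernel
  have e2 : (TT.getD 2 dT).ord = 2 ∧ (TT.getD 2 dT).val = [(1, 4372)] := by decide +kernel
  have e9 : (TT.getD 9 dT).ord = 4 ∧ (TT.getD 9 dT).val = [(1, 276), (2, 276)] := by decide +kernel
  rcases h with ⟨rfl, rfl⟩ | ⟨rfl, rfl⟩ | ⟨t, c, hc, h0, rfl, ⟨rfl, h1, h2⟩ | ⟨rfl, h1, h2⟩ | ⟨rfl, h1, h2⟩⟩
  · show Typed _ 0 false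
    rw [Typed, HasTy, e0.1, e0.2, map_one, one_pow]
    exact ⟨by norm_num, ⟨orderOf_one, by simp⟩, by simpa using zz_ne.symm⟩
  · show Typed _ 1 true
    rw [Typed, HasTy, e1.1, e1.2, io_z]
    exact ⟨by norm_num, ⟨orderOf_zz, by simpa using tV_zz⟩, by simp⟩
  · show Typed _ 2 false
    rw [Typed, HasTy, e2.1, e2.2]
    refine ⟨by norm_num, ⟨ord_two hc h0 h1, ?_⟩, by simpa using io_ps_ne_zz hc h0⟩
    simp only [List.mem_singleton, forall_eq, pow_one]
    rw [tV_io t hc h0, h2]
    norm_num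
  · show Typed _ 9 true
    rw [Typed, HasTy, e9.1, e9.2]
    refine ⟨by norm_num, ⟨ord_four h1, ?_⟩, by simpa using io_sq_zz h1⟩
    simp only [List.mem_cons, List.not_mem_nil, or_false, forall_eq_or_imp, forall_eq, pow_one]
    rw [tV_io t hc h0, h2, io_sq_zz h1, tV_zz]
    norm_num
  · show Typed _ 1 false
    rw [Typed, HasTy, e1.1, e1.2]
    refine ⟨by norm_num, ⟨ord_two hc h0 h1, ?_⟩, by simpa using io_ps_ne_zz hc h0⟩
    simp only [List.mem_singleton, forall_eq, pow_one]
    rw [tV_io t hc h0, h2]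
    norm_num

theorem rp_eq (D : CD) : rp D.d = QuotientGroup.mk D.A := (mk_wG _ _).symm

/-- the representatives of the cosets -/
theorem exists_rep (x : Cz) : (∃ y : Cz, ∃ D ∈ CDl, pi (y * x * y⁻¹) = QuotientGroup.mk D.A) ∨ pi x = 1 := by
  obtain ⟨d, hd, h, -⟩ := CoD.cover (pi x)
  rw [← CDl_d, List.mem_append, List.mem_map, List.mem_singleton] at hd
  rcases hd with ⟨D, hD, rfl⟩ | rfl
  · obtain ⟨u, hu⟩ := isConj_iff.1 h
    obtain ⟨y, rfl⟩ := chart.pi_surj u
    exact Or.inl ⟨y, D, hD, by rw [map_mul, map_mul, map_inv, hu, ← rp_eq]; rfl⟩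
  · have h1 : IsConj (pi x) (rp CoD.d100) := h
    rw [rp_100] at h1
    exact Or.inr (isConj_one_left.1 h1)

/-- **every element of `C(z)` has one of the 129 types** -/
theorem cover : Cover := by
  intro g hg
  have key : ∀ {k i f}, Typed k i f → ∃ t ∈ TT, HasTy k t := fun {k i f} h =>
    ⟨_, by rw [TT_getD (TT_length ▸ h.1)]; exact List.getElem_mem _, h.2.1⟩
  rcases exists_rep ⟨g, mem_centralizer_singleton_iff.2 hg⟩ with ⟨y, D, hD, h⟩ | h
  · obtain ⟨α, T, ha⟩ := exists_ac _ h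
    obtain ⟨j, hj, hr⟩ := exists_raw (allOk D hD) (allH D hD) ha
    obtain ⟨t, ht, h1⟩ := key (hr.ty (allOk D hD) ha ((allOk D hD).ty j hj))
    have h2 := h1.conj (y : MG)⁻¹
    refine ⟨t, ht, ?_⟩
    have h3 : (y : MG)⁻¹ * ((y * ⟨g, mem_centralizer_singleton_iff.2 hg⟩ * y⁻¹ : Cz) : MG) * (y : MG)⁻¹⁻¹ = g := by
      show (y : MG)⁻¹ * ((y : MG) * g * (y : MG)⁻¹) * (y : MG)⁻¹⁻¹ = g
      group
    rwa [h3] at h2
  · obtain ⟨p, hp⟩ := (chart.pi_eq_one _).1 h
    obtain ⟨j, -, hj⟩ := exists_cat p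
    have h1 : io p = g := hp
    exact h1 ▸ key hj.ty

/-! ### the numbers -/

/-- the total -/
def tot (F : ℕ → Bool → Bool) : ℕ :=
  (CDl.map fun D => 4157776806543360000 / (D.d.c + 1) * (2 ^ (24 - D.L1.b.length) *
    ((List.range D.sg.length).map fun j => if F (D.ty.getD j 0) (D.fl.getD j false) = true then D.cn.getD j 0 else 0).sum)).sum +
  4157776806543360000 / (CoD.d100.c + 1) * ((if F (catT 0) (catF 0) = true then 1 else 0) +
    (if F (catT 1) (catF 1) = true then 1 else 0) + 196560 * (if F (catT 2) (catF 2) = true then 1 else 0) +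
    16773120 * (if F (catT 3) (catF 3) = true then 1 else 0) + 16584750 * (if F (catT 4) (catF 4) = true then 1 else 0))

theorem count (P : MG → Prop) (F : ℕ → Bool → Bool) (hc : ∀ x y : MG, y * zz = zz * y → P x → P (y * x * y⁻¹))
    (hP : ∀ k i f, Typed k i f → (P k ↔ F i f = true)) : Nat.card {g : MG // g * zz = zz * g ∧ P g} = tot F := by
  have := BpSpor.MBigModel.finite
  have h1 : Nat.card {x : Cz // P x} = Nat.card {g : MG // g * zz = zz * g ∧ P g} :=
    Nat.card_congr ((Equiv.subtypeSubtypeEquivSubtypeInter (fun g : MG => g ∈ Cz) P).trans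
      (Equiv.subtypeEquivRight fun g => and_congr_left fun _ => mem_centralizer_singleton_iff))
  rw [← h1, card_sum pi chart.pi_surj (fun x : Cz => P x) fun x y h => hc x y (mem_centralizer_singleton_iff.1 y.2) h,
    ← CDl_d, List.map_append, List.sum_append, List.map_map, List.map_singleton, List.sum_singleton, rp_100,
    card_id P (fun j => F (catT j) (catF j) = true) fun p j h => hP _ _ _ h.ty]
  refine congrArg₂ (· + ·) (congrArg List.sum (List.map_congr_left fun D hD => ?_)) rfl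
  rw [Function.comp_apply, rp_eq, sum_list_range,
    card_coset (allOk D hD) (allH D hD) P (fun j => F (D.ty.getD j 0) (D.fl.getD j false) = true)
      fun k α T j ha hj hr => hP _ _ _ (hr.ty (allOk D hD) ha ((allOk D hD).ty j hj))]

theorem totZ : (List.range 129).all (fun i => tot (fun j f => j == i && f) == (TT.getD i dT).nz) = true := by
  decide +kernel

theorem totC : (List.range 129).all (fun i => tot (fun j _ => j == i) == (TT.getD i dT).nz + (TT.getD i dT).no) = true := by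
  decide +kernel

/-- **the number of the elements with the power `z`** -/
theorem countZ : CountZ := by
  intro t ht
  obtain ⟨i, hi, rfl⟩ := List.getElem_of_mem ht
  have hi' : i < 129 := TT_length ▸ hi
  rw [← TT_getD hi, ← beq_iff_eq.1 (List.all_eq_true.1 totZ i (List.mem_range.2 hi'))]
  refine count _ _ (fun x y hy h => ⟨h.1.conj y, ?_⟩) fun k j f h => ?_
  · rw [conj_pow, h.2, hy, mul_inv_cancel_right]
  · rw [Bool.and_eq_true, beq_iff_eq]
    constructor
    · rintro ⟨h1, h2⟩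
      obtain rfl := h.uniq hi' h1
      exact ⟨rfl, h.2.2.1 h2⟩
    · rintro ⟨rfl, h2⟩
      exact ⟨h.2.1, h.2.2.2 h2⟩

/-- **the number of the elements of `C(z)`** -/
theorem countC : CountC := by
  intro t ht
  obtain ⟨i, hi, rfl⟩ := List.getElem_of_mem ht
  have hi' : i < 129 := TT_length ▸ hi
  rw [← TT_getD hi, ← beq_iff_eq.1 (List.all_eq_true.1 totC i (List.mem_range.2 hi'))]
  refine count _ _ (fun x y _ h => h.conj y) fun k j f h => ?_
  rw [beq_iff_eq]
  exact ⟨fun h1 => h.uniq hi' h1, fun h1 => h1 ▸ h.2.1⟩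

/-! ### the masses -/

theorem card_pow_fib {G : Type*} [Group G] [Finite G] (z : G) (P : G → Prop) (m : ℕ)
    (hP : ∀ x y, P x → P (y * x * y⁻¹)) (hz : ∀ x, P x → IsConj (x ^ m) z) :
    Nat.card {x // P x} * Nat.card ↥(centralizer {z}) = Nat.card G * Nat.card {x // x * z = z * x ∧ P x ∧ x ^ m = z} := by
  classical
  have := Fintype.ofFinite G
  rw [← card_cls z, Nat.subtype_card (p := P) (univ.filter P) (by simp),
    Nat.subtype_card (p := fun x => x * z = z * x ∧ P x ∧ x ^ m = z)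
      (univ.filter fun x => x * z = z * x ∧ P x ∧ x ^ m = z) (by simp),
    card_eq_sum_card_fiberwise (s := univ.filter P) (t := univ.filter fun x => IsConj x z) (f := fun x => x ^ m)
      fun x hx => mem_coe.2 (mem_filter.2 ⟨mem_univ _, hz x (mem_filter.1 (mem_coe.1 hx)).2⟩), mul_right_comm,
    ← smul_eq_mul (card _), ← sum_const]
  refine congrArg (· * _) (sum_congr rfl fun u hu => ?_)
  obtain ⟨y, rfl⟩ := isConj_iff.1 (mem_filter.1 hu).2
  refine card_bij (fun x _ => y * x * y⁻¹) (fun x hx => ?_) (fun x _ x' _ h => by simpa using h) fun x hx => ?_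
  · obtain ⟨a1, a2⟩ := mem_filter.1 hx
    have a3 : (y * x * y⁻¹) ^ m = y * u * y⁻¹ := by rw [conj_pow, a2]
    refine mem_filter.2 ⟨mem_univ _, ?_, hP x y (mem_filter.1 a1).2, a3⟩
    rw [← a3]
    exact (Commute.self_pow _ m).eq
  · obtain ⟨-, a1, a2⟩ := (mem_filter.1 hx).2
    refine ⟨y⁻¹ * x * y⁻¹⁻¹, mem_filter.2 ⟨mem_filter.2 ⟨mem_univ _, hP x _ a1⟩, ?_⟩, by group⟩
    rw [conj_pow, a2]
    group

/-- an involution with the trace `276` is conjugate to `z` -/
theorem conj_zz {v : MG} (hv : orderOf v = 2) (h : tV v = 276) : IsConj v zz := by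
  rcases cls hv with ⟨g, rfl⟩ | h1
  · exact (isConj_iff.2 ⟨g, rfl⟩).symm
  · exfalso
    have hS : Short (value CL 62465) := ⟨_, XL_base, rfl⟩
    obtain ⟨a1, a2, a3⟩ := hS.facts
    have a4 : tV (io (ps 0 (value CL 62465))) = 4372 := by
      have a5 : cnt (xc CL (sw (value CL 62465)) &&& LaneLab.XL) = 47104 := a2
      rw [tV_io 0 (val_lt _) a1, sS_conj 0 (val_lt _), a5]
      norm_num
    rcases cls (ord_two (t := 0) (val_lt _) a1 a3) with ⟨g, h2⟩ | h2
    · rw [← h2, tV_conj, tV_zz] at a4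
      norm_num at a4
    · have h3 : IsConj _ v := h1
      have h4 : IsConj _ (io (ps 0 (value CL 62465))) := h2
      obtain ⟨c, hc⟩ := isConj_iff.1 (h3.symm.trans h4)
      rw [← hc, tV_conj, h] at a4
      norm_num at a4

theorem TT_half : TT.all (fun t => t.nz == 0 || (t.ord == t.ord / 2 * 2 && t.ord != 0 &&
    t.val.any fun p => p.1 == t.ord / 2 && p.2 == 276)) = true := by decide +kernel

/-- **the masses** -/
theorem mass : Mass := by
  intro t ht h0
  have := BpSpor.MBigModel.finite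
  have h1 := List.all_eq_true.1 TT_half t ht
  simp only [Bool.or_eq_true, beq_iff_eq, Bool.and_eq_true, bne_iff_ne, List.any_eq_true] at h1
  obtain ⟨⟨a1, a2⟩, p, hp, a3, a4⟩ := h1.resolve_left h0
  rw [← card_cent_z, ← countZ t ht]
  refine card_pow_fib zz (fun g => HasTy g t) (t.ord / 2) (fun x y h => h.conj y) fun x h => conj_zz ?_ ?_
  · have a5 : t.ord / 2 ≠ 0 := by omega
    rw [orderOf_pow_of_dvd a5 (by rw [h.1]; exact ⟨2, a1⟩), h.1]
    exact Nat.div_eq_of_eq_mul_right (Nat.pos_of_ne_zero a5) a1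
  · rw [← a3, h.2 p hp, a4]
    norm_num

end Cfsg.Agent.TAB.C2B
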