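import Cfsg.Agent.TAB.C2B.Boxes
import Cfsg.Agent.TAB.M4.Box
import Cfsg.Agent.TAB.M5.BoxA
import Cfsg.Agent.TAB.M5.BoxC
import Cfsg.Agent.TAB.M5.Left45
import Cfsg.Agent.TAB.M7.BoxB
import Cfsg.Agent.TAB.Big.High
import Cfsg.Agent.TAB.Big.Thirteen

/-!
# All the boxes of the Monster, up to the section `3B` (helper47)
-/

set_option autoImplicit false
set_option maxRecDepth 100000

namespace Cfsg.Agent.TAB.C2B

open Cfsg.Agent.TAB.M (BoxM)
open Cfsg.Agent.H940.Eng (Base)

theorem boxes_rest (B : Base) : ∀ i ∈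
    [0, 1, 3, 5, 7, 10, 11, 12, 28, 30, 33, 44, 45, 49, 50, 51, 52, 56, 62, 64, 73, 75, 86, 87, 94, 96, 100, 102,
    105, 106, 107, 114, 115, 116, 117, 118, 121, 129, 130, 132, 133, 134, 137, 140, 141, 142, 148, 149, 151, 152,
    155, 156, 161, 164, 165, 166, 167, 169, 170], BoxM i := by
  simp only [List.mem_cons, List.not_mem_nil, or_false, forall_eq_or_imp, forall_eq]
  exact ⟨M4.box_1A, M4.box_2A, M4.box_3A, M4.box_3C, M4.box_4B, M5.box_5A, M5.box_5B, M4.box_6A, M5.box_10A,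
    M5.box_10C_of countC, Big.box_11A cover, Big.box_13A cover countC, Big.box_13B cover, M5.box_15A, M5.box_15B,
    M5.box_15C_of countC, M5.box_15D_of cover, Big.box_17A, Big.box_19A, M5.box_20B, Big.box_22A cover,
    Big.box_23AB, M5.box_25A_of cover, Big.box_26A cover countC, Big.box_29A, M5.box_30B, M5.box_30F_of countC,
    Big.box_31AB B, Big.box_33A cover, Big.box_33B cover, Big.box_34A, Big.box_38A, Big.box_39A cover countC,
    Big.box_39B cover countC, Big.box_39CD cover, M5.box_40A, Big.box_41A B, Big.box_46CD, Big.box_47AB B,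
    M5.box_50A_of cover, Big.box_51A, Big.box_52A cover countC, Big.box_55A cover, Big.box_57A, Big.box_59AB B,
    M5.box_60A, Big.box_62AB B, Big.box_66A cover countC, Big.box_68A cover, Big.box_69AB, Big.box_71AB B,
    Big.box_78A cover countC, Big.box_87AB, Big.box_93AB B, Big.box_94AB B, Big.box_95AB,
    Big.box_104AB cover countC, Big.box_110A cover, Big.box_119AB cover⟩

/-- **all the boxes**, from the boxes `3B 6D 9A 9B 12G 18A 18B 24G 27AB 36C 54A` -/
theorem all_boxes (B : Base) (h : ∀ i ∈ [4, 15, 26, 27, 40, 57, 58, 82, 89, 112, 136], BoxM i) : ∀ i < 171, BoxM i := by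
  refine M5.all_of2 fun i hi h1 h2 h3 => ?_
  have h4 : ∀ i < 171, i = 22 ∨ i = 36 ∨ i = 127 ∨ i ∈ twoL ∨ i ∈ [4, 15, 26, 27, 40, 57, 58, 82, 89, 112, 136] ∨
      i ∈ [18, 19, 46, 69, 70, 71, 72, 90, 108, 109, 122, 153, 158, 168] ∨ i ∈
      [0, 1, 3, 5, 7, 10, 11, 12, 28, 30, 33, 44, 45, 49, 50, 51, 52, 56, 62, 64, 73, 75, 86, 87, 94, 96, 100, 102,
      105, 106, 107, 114, 115, 116, 117, 118, 121, 129, 130, 132, 133, 134, 137, 140, 141, 142, 148, 149, 151, 152,
      155, 156, 161, 164, 165, 166, 167, 169, 170] := by decide +kernel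
  rcases h4 i hi with a | a | a | a | a | a | a
  exacts [absurd a h1, absurd a h2, absurd a h3, boxes_two i a, h i a, M7.boxes cover countC i a, boxes_rest B i a]

end Cfsg.Agent.TAB.C2B
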