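import Cfsg.Agent.TAB.C2B.Main
import Cfsg.Agent.TAB.Psi.Box

/-!
# The box `BoxPsi` (helper47)
-/

set_option autoImplicit false
set_option maxRecDepth 100000

namespace Cfsg.Agent.TAB.C2B

open Cfsg Cfsg.Agent.Monster Cfsg.Agent.MonsterX
open Cfsg.Agent.Monster.PauliBasic Cfsg.Agent.Monster.PauliClif Cfsg.Agent.Monster.PauliRep
open Cfsg.Agent.H831.FF (mat)
open Cfsg.Agent.H155.TC.Pau (tr)
open Cfsg.Agent.BpSpor.MBigModel (MG zz pi chart)
open Cfsg.Agent.TAB.Psi (Good good_of_row psi6 c2L boxPsi_of_cover)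
open Subgroup (centralizer mem_centralizer_singleton_iff)
open Finset

/-- the value of `psi3` on a signature -/
def chkPsi (D : CD) (σ : List ℕ) (i : ℕ) : Bool :=
  (D.rl.zip (σ.drop 2)).any fun q => q.1.d == 1 && (D.rl.zip (σ.drop 2)).any fun r => r.1.d == 2 &&
    psi6 q.1.a q.1.a2 D.a3 (tv (q.2 % 4) q.1.h) (tv (r.2 % 4) r.1.h)
      (2 * ((D.np : ℤ) - 2 * (σ.getD 0 0 : ℕ)) - ((q.1.n : ℤ) - 2 * (q.2 / 4 : ℕ))) == 6 * c2L.getD i 0

theorem allPsi : CDl.all (fun D => (List.range D.sg.length).all fun j => chkPsi D (D.sg.getD j []) (D.ty.getD j 0)) = true := by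
  decide +kernel

theorem Raw.good {D : CD} {k : MG} {α : Pauli 12 ≃* Pauli 12} {T : (B 12 → ℚ) ≃ₗ[ℚ] (B 12 → ℚ)} {σ : List ℕ}
    (hD : ClsOk D) (hr : Raw D σ α T) {i : ℕ} {f : Bool} (ht : Typed k i f) (hc : chkPsi D σ i = true) :
    Good (k, D.A, α, T) := by
  simp only [chkPsi, List.any_eq_true, Bool.and_eq_true, beq_iff_eq] at hc
  obtain ⟨q, hq, q1, r, hr', r1, h⟩ := hc
  obtain ⟨a, ha, a1, a2⟩ := mem_zip_drop hq
  obtain ⟨b, hb, b1, b2⟩ := mem_zip_drop hr'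
  obtain ⟨c1, c2⟩ := hr.lv a ha
  obtain ⟨c3, -⟩ := hr.lv b hb
  obtain ⟨c4, c5⟩ := hD.tr _ (getD_mem_rl ha)
  rw [← a1, ← a2, q1, pow_one] at c1 c2
  rw [← b1, ← b2, r1] at c3
  rw [← a1, q1] at c4 c5
  rw [pow_one] at c4
  refine good_of_row ht.1 ht.2.1 c4 c5 hD.tr3 c1 c3 ?_ h
  show sO D.A α = _
  rw [hr.so, c2]
  generalize q.2 / 4 = y
  push_cast
  ring

theorem sO_one (α : Pauli 12 ≃* Pauli 12) : sO 1 α = sS α :=
  sum_congr rfl fun j _ => by rw [if_pos (one_smul _ _), mul_one]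

theorem Cat.good {p : Pauli 12} {j : ℕ} (h : Cat p j) : Good (io p, 1, MulAut.conj p, rho ℚ p) := by
  have h1 : ∀ n : ℕ, c24 ((io p, 1, MulAut.conj p, rho ℚ p) ^ n) = (24 : ℤ) := fun n => by
    show (mat ((1 : Co0) ^ n)).trace = _
    rw [one_pow, trace_mat_one]
    norm_num
  have h2 := h1 1
  rw [pow_one] at h2
  have key : ∀ b1 b2 s : ℤ, tr (rho ℚ p) = b1 → tr (rho ℚ (p * p)) = b2 → sS (MulAut.conj p) = s →
      psi6 24 24 24 b1 b2 s = 6 * c2L.getD (catT j) 0 → Good (io p, 1, MulAut.conj p, rho ℚ p) := by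
    intro b1 b2 s a1 a2 a3 a4
    refine good_of_row h.ty.1 h.ty.2.1 h2 (h1 2) (h1 3) a1 ?_ ((sO_one _).trans a3) a4
    show tr (rho ℚ p ^ 2) = _
    rw [pow_two, ← map_mul, a2]
  have t1 : tr (rho ℚ (1 : Pauli 12)) = (4096 : ℤ) := by rw [map_one, tr_one]; norm_num
  have t2 : tr (rho ℚ (Pauli.z 12)) = (-4096 : ℤ) := by rw [tr_rho_z]; norm_num
  rcases h with ⟨rfl, rfl⟩ | ⟨rfl, rfl⟩ | ⟨t, c, hc, h0, rfl, ⟨rfl, a1, a2⟩ | ⟨rfl, a1, a2⟩ | ⟨rfl, a1, a2⟩⟩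
  · exact key 4096 4096 98280 t1 (by rw [mul_one, t1]) (by rw [map_one, sS_one]; norm_num) (by decide +kernel)
  · refine key (-4096) 4096 98280 t2 ?_ (by rw [conj_z, sS_one]; norm_num) (by decide +kernel)
    rw [← ps_one_zero, ps_sq, bt_zero_left, ps_zero_zero, t1]
  · exact key 0 4096 4072 (by rw [tr_rho_ps t hc h0]; norm_num) (by rw [ps_sq, a1, ps_zero_zero, t1])
      (by rw [a2]; norm_num) (by decide +kernel)
  · exact key 0 (-4096) (-24) (by rw [tr_rho_ps t hc h0]; norm_num) (by rw [ps_sq, a1, ps_one_zero, t2])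
      (by rw [a2]; norm_num) (by decide +kernel)
  · exact key 0 4096 (-24) (by rw [tr_rho_ps t hc h0]; norm_num) (by rw [ps_sq, a1, ps_zero_zero, t1])
      (by rw [a2]; norm_num) (by decide +kernel)

/-- **the box** -/
theorem boxPsi : M.BoxPsi := by
  refine boxPsi_of_cover fun g hg => ?_
  rcases exists_rep ⟨g, mem_centralizer_singleton_iff.2 hg⟩ with ⟨y, D, hD, h⟩ | h
  · obtain ⟨α, T, ha⟩ := exists_ac _ h
    obtain ⟨j, hj, hr⟩ := exists_raw (allOk D hD) (allH D hD) ha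
    refine ⟨_, ha, hr.good (allOk D hD) (hr.ty (allOk D hD) ha ((allOk D hD).ty j hj))
      (List.all_eq_true.1 (List.all_eq_true.1 allPsi D hD) j (List.mem_range.2 hj)), (y⁻¹ : Cz),
      mem_centralizer_singleton_iff.1 (y⁻¹).2, ?_⟩
    show (y : MG)⁻¹ * ((y : MG) * g * (y : MG)⁻¹) * (y : MG)⁻¹⁻¹ = g
    group
  · obtain ⟨p, hp⟩ := (chart.pi_eq_one _).1 h
    obtain ⟨j, -, hj⟩ := exists_cat p
    have h1 : io p = g := hp
    exact ⟨_, ac_io p, hj.good, 1, by rw [one_mul, mul_one], by rw [one_mul, inv_one, mul_one]; exact h1⟩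

end Cfsg.Agent.TAB.C2B
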