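import Cfsg.Agent.TAB.C2B.Tr

/-!
# Types of the elements of `C(z) = 2^(1+24).Co1` in the Monster : definitions (helper47)

`tV` : the trace on the space of dimension `196884`; `TT` : the 129 types; `HasTy g t`;
`Cover`, `CountZ`, `CountC`, `Mass` : the statements;
`Hat` : the double cover of `C(z)` with the functions `c24`, `cT`, `s2`, `s2o`.
-/

set_option autoImplicit false
set_option maxRecDepth 100000

namespace Cfsg.Agent.TAB.C2B

open Cfsg Cfsg.Agent.Monster Cfsg.Agent.MonsterX Cfsg.Agent.MonsterX.Space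
open Cfsg.Agent.Monster.PauliBasic Cfsg.Agent.Monster.PauliClif Cfsg.Agent.Monster.PauliRep
open Cfsg.Agent.MonsterX.KAsm
open Cfsg.Agent.H831.FF (mat)
open Cfsg.Agent.H155.TC.Pau (tr)
open Cfsg.Agent.BpSpor.MBigModel (MG zz)
open Cfsg.Agent.Lib.BitNet (value)
open Cfsg.Agent.H264.TC.NoReal39 (CL)
open Cfsg.Agent.MonsterX.LaneLab (XL)
open Cfsg.Agent.MonsterX.LaneVec (lv)
open Finset

/-- the trace on the space of dimension `196884` -/
noncomputable def tV (g : MG) : ℚ := LinearMap.trace ℚ V ((g : V ≃ₗ[ℚ] V) : V →ₗ[ℚ] V)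

theorem trV_tV (g : MG) : H875.M23.TraceChar.trV g = (tV g : ℂ) := rfl

theorem chi_tV (g : MG) : H875.M23.TraceChar.chi g = (tV g : ℂ) - 1 := by
  rw [← trV_tV, H875.M23.TraceChar.trV_eq]
  ring

theorem tV_conj (h g : MG) : tV (h * g * h⁻¹) = tV g := by
  have h1 : (tV (h * g * h⁻¹) : ℂ) = tV g := by
    rw [← trV_tV, ← trV_tV, ← H875.M23.TraceChar.char_rep, ← H875.M23.TraceChar.char_rep]
    exact Representation.char_conj _ _ _
  exact_mod_cast h1

/-- a type : order, the traces of the powers `d` (proper divisors of the order), the number of the elements of `C(z)`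
with `g ^ (ord / 2) = z`, the number of the other elements of `C(z)` -/
structure TyD where
  /-- order -/
  ord : ℕ
  /-- exponents and traces -/
  val : List (ℕ × ℤ)
  /-- number of the elements with the power `z` -/
  nz : ℕ
  /-- number of the other elements -/
  no : ℕ

/-- the types -/
def TT : List TyD := [
  ⟨1, [], 0, 1⟩,
  ⟨2, [(1, 276)], 1, 90729738139950⟩,
  ⟨2, [(1, 4372)], 0, 11935319760⟩,
  ⟨3, [(1, 0)], 0, 500595349782528000⟩,
  ⟨3, [(1, 54)], 0, 86574514778931200⟩,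
  ⟨3, [(1, 783)], 0, 289696382976000⟩,
  ⟨4, [(1, -12), (2, 276)], 16922168524800, 176428329157656576000⟩,
  ⟨4, [(1, 20), (2, 276)], 2864429568000, 16085668276694016000⟩,
  ⟨4, [(1, 52), (2, 4372)], 0, 3719633659822080000⟩,
  ⟨4, [(1, 276), (2, 276)], 16773120, 93267389150208000⟩,
  ⟨5, [(1, 9)], 0, 313717098564512907264⟩,
  ⟨5, [(1, 134)], 0, 7569001688711823360⟩,
  ⟨6, [(1, -2), (2, 54), (3, 4372)], 0, 299022288936763392000⟩,
  ⟨6, [(1, 0), (2, 0), (3, 276)], 500595349782528000, 15273164121864929280000⟩,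
  ⟨6, [(1, 6), (2, 54), (3, 276)], 86522653048832000, 665791815210762240000⟩,
  ⟨6, [(1, 15), (2, 783), (3, 276)], 289696382976000, 888415953421860864000⟩,
  ⟨6, [(1, 78), (2, 54), (3, 276)], 51861730099200, 7008334896955392000⟩,
  ⟨6, [(1, 79), (2, 783), (3, 4372)], 0, 20367973294276608000⟩,
  ⟨7, [(1, 2)], 0, 3954417208796381184000⟩,
  ⟨7, [(1, 51)], 0, 926816533311651840000⟩,
  ⟨8, [(1, -4), (2, 20), (4, 276)], 5913282569306112000, 16592670889472950272000⟩,
  ⟨8, [(1, 0), (2, -12), (4, 276)], 45053581480427520000, 85151268998008012800000⟩,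
  ⟨8, [(1, 0), (2, 52), (4, 4372)], 0, 24410030446095630336000⟩,
  ⟨8, [(1, 4), (2, 20), (4, 276)], 11087404817448960000, 34393129743726673920000⟩,
  ⟨8, [(1, 12), (2, 276), (4, 276)], 179190380888064000, 10253631975176798208000⟩,
  ⟨8, [(1, 36), (2, 20), (4, 276)], 175990552657920000, 2150956534585098240000⟩,
  ⟨9, [(1, 0), (3, 54)], 0, 71765349344823214080000⟩,
  ⟨9, [(1, 27), (3, 54)], 0, 8970668668102901760000⟩,
  ⟨10, [(1, -3), (2, 9), (5, 4372)], 0, 17438979890792041021440⟩,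
  ⟨10, [(1, 1), (2, 9), (5, 276)], 290649664846534017024, 79928657832796854681600⟩,
  ⟨10, [(1, 6), (2, 134), (5, 276)], 7569001688711823360, 62898404033195252121600⟩,
  ⟨10, [(1, 21), (2, 9), (5, 276)], 23067433717978890240, 7266241621163350425600⟩,
  ⟨10, [(1, 22), (2, 134), (5, 4372)], 0, 8174521823808769228800⟩,
  ⟨11, [(1, 17)], 0, 66056742010575912960000⟩,
  ⟨12, [(1, -2), (2, -2), (3, 52), (4, 54), (6, 4372)], 0, 67280015010771763200000⟩,
  ⟨12, [(1, -1), (2, 15), (3, 20), (4, 783), (6, 276)], 157687535181496320000, 228646926013169664000000⟩,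
  ⟨12, [(1, 0), (2, 0), (3, -12), (4, 0), (6, 276)], 6055201350969458688000, 908280202645418803200000⟩,
  ⟨12, [(1, 0), (2, 0), (3, 276), (4, 0), (6, 276)], 120142883947806720000, 15138003377423646720000⟩,
  ⟨12, [(1, 2), (2, 6), (3, 20), (4, 54), (6, 276)], 1682000375269294080000, 173246038652737290240000⟩,
  ⟨12, [(1, 6), (2, 6), (3, 276), (4, 54), (6, 276)], 6229631019515904000, 22370604991081611264000⟩,
  ⟨12, [(1, 6), (2, 78), (3, -12), (4, 54), (6, 276)], 288342921474736128000, 90828020264541880320000⟩,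
  ⟨12, [(1, 7), (2, 79), (3, 52), (4, 783), (6, 4372)], 0, 71148615873891139584000⟩,
  ⟨12, [(1, 14), (2, 6), (3, 20), (4, 54), (6, 276)], 504600112580788224000, 76194616999699021824000⟩,
  ⟨12, [(1, 15), (2, 15), (3, 276), (4, 783), (6, 276)], 1168055816159232000, 19616329376578142208000⟩,
  ⟨13, [(1, -1)], 0, 447153330533129256960000⟩,
  ⟨14, [(1, 3), (2, 51), (7, 276)], 926816533311651840000, 415213806923620024320000⟩,
  ⟨14, [(1, 10), (2, 2), (7, 276)], 3954417208796381184000, 0⟩,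
  ⟨14, [(1, 11), (2, 51), (7, 4372)], 0, 116778883197268131840000⟩,
  ⟨15, [(1, -1), (3, 134), (5, 54)], 0, 77506577292409071206400⟩,
  ⟨15, [(1, 0), (3, 9), (5, 0)], 0, 387532886462045356032000⟩,
  ⟨15, [(1, 8), (3, 134), (5, 783)], 0, 48441610807755669504000⟩,
  ⟨15, [(1, 9), (3, 9), (5, 54)], 0, 594217092575136212582400⟩,
  ⟨16, [(1, 0), (2, 4), (4, 20), (8, 276)], 17030253799601602560000, 1532722841964144230400000⟩,
  ⟨16, [(1, 4), (2, 36), (4, 20), (8, 276)], 11353502533067735040000, 613089136785657692160000⟩,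
  ⟨16, [(1, 8), (2, 4), (4, 20), (8, 276)], 17030253799601602560000, 306544568392828846080000⟩,
  ⟨18, [(1, -2), (2, 0), (3, -2), (6, 54), (9, 4372)], 0, 645888144103408926720000⟩,
  ⟨18, [(1, 0), (2, 0), (3, 6), (6, 54), (9, 276)], 35882674672411607040000, 322944072051704463360000⟩,
  ⟨18, [(1, 3), (2, 27), (3, 6), (6, 54), (9, 276)], 8970668668102901760000, 322944072051704463360000⟩,
  ⟨18, [(1, 6), (2, 0), (3, 6), (6, 54), (9, 276)], 35882674672411607040000, 322944072051704463360000⟩,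
  ⟨18, [(1, 7), (2, 27), (3, -2), (6, 54), (9, 4372)], 0, 484416108077556695040000⟩,
  ⟨20, [(1, -2), (2, 6), (4, 134), (5, -12), (10, 276)], 7266241621163350425600, 1089936243174502563840000⟩,
  ⟨20, [(1, 1), (2, 1), (4, 9), (5, 276), (10, 276)], 5812993296930680340480, 1017273826962869059584000⟩,
  ⟨20, [(1, 2), (2, 22), (4, 134), (5, 52), (10, 4372)], 0, 363312081058167521280000⟩,
  ⟨20, [(1, 3), (2, 21), (4, 9), (5, -12), (10, 276)], 116259865938613606809600, 1743897989079204102144000⟩,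
  ⟨20, [(1, 5), (2, 1), (4, 9), (5, 20), (10, 276)], 145324832423267008512000, 1017273826962869059584000⟩,
  ⟨20, [(1, 6), (2, 6), (4, 134), (5, 276), (10, 276)], 1816560405290837606400, 127159228370358632448000⟩,
  ⟨21, [(1, -1), (3, 2), (7, 783)], 0, 1107236818462986731520000⟩,
  ⟨21, [(1, 0), (3, 51), (7, 0)], 0, 830427613847240048640000⟩,
  ⟨21, [(1, 5), (3, 2), (7, 54)], 0, 276809204615746682880000⟩,
  ⟨22, [(1, 1), (2, 17), (11, 276)], 66056742010575912960000, 1981702260317277388800000⟩,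
  ⟨22, [(1, 5), (2, 17), (11, 4372)], 0, 792680904126910955520000⟩,
  ⟨23, [(1, 4)], 0, 1516433033981916610560000⟩,
  ⟨24, [(1, -1), (2, -1), (3, -4), (4, 15), (6, 20), (8, 783), (12, 276)], 60552013509694586880000, 2058768459329615953920000⟩,
  ⟨24, [(1, 0), (2, -2), (3, 0), (4, -2), (6, 52), (8, 54), (12, 4372)], 0, 2906496648465340170240000⟩,
  ⟨24, [(1, 0), (2, 0), (3, 0), (4, 0), (6, -12), (8, 0), (12, 276)], 484416108077556695040000, 2906496648465340170240000⟩,
  ⟨24, [(1, 0), (2, 0), (3, 12), (4, 0), (6, 276), (8, 0), (12, 276)], 121104027019389173760000, 726624162116335042560000⟩,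
  ⟨24, [(1, 0), (2, 2), (3, 36), (4, 6), (6, 20), (8, 54), (12, 276)], 40368009006463057920000, 1089936243174502563840000⟩,
  ⟨24, [(1, 0), (2, 6), (3, 0), (4, 78), (6, -12), (8, 54), (12, 276)], 161472036025852231680000, 1453248324232670085120000⟩,
  ⟨24, [(1, 2), (2, 14), (3, -4), (4, 6), (6, 20), (8, 54), (12, 276)], 242208054038778347520000, 1695456378271448432640000⟩,
  ⟨24, [(1, 3), (2, -1), (3, 36), (4, 15), (6, 20), (8, 783), (12, 276)], 30276006754847293440000, 181656040529083760640000⟩,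
  ⟨24, [(1, 3), (2, 15), (3, 12), (4, 15), (6, 276), (8, 783), (12, 276)], 20184004503231528960000, 1089936243174502563840000⟩,
  ⟨24, [(1, 4), (2, 2), (3, 4), (4, 6), (6, 20), (8, 54), (12, 276)], 363312081058167521280000, 1089936243174502563840000⟩,
  ⟨26, [(1, 3), (2, -1), (13, 276)], 447153330533129256960000, 0⟩,
  ⟨28, [(1, -1), (2, 3), (4, 51), (7, 20), (14, 276)], 155705177596357509120000, 3736924262312580218880000⟩,
  ⟨28, [(1, 2), (2, 10), (4, 2), (7, -12), (14, 276)], 830427613847240048640000, 0⟩,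
  ⟨28, [(1, 3), (2, 3), (4, 51), (7, 276), (14, 276)], 51901725865452503040000, 1245641420770860072960000⟩,
  ⟨28, [(1, 3), (2, 11), (4, 51), (7, 52), (14, 4372)], 0, 622820710385430036480000⟩,
  ⟨30, [(1, 0), (2, 0), (3, 21), (5, 0), (6, 9), (10, 0), (15, 276)], 387532886462045356032000, 0⟩,
  ⟨30, [(1, 0), (2, 8), (3, 6), (5, 15), (6, 134), (10, 783), (15, 276)], 48441610807755669504000, 1162598659386136068096000⟩,
  ⟨30, [(1, 1), (2, 9), (3, 1), (5, 6), (6, 9), (10, 54), (15, 276)], 581299329693068034048000, 2906496648465340170240000⟩,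
  ⟨30, [(1, 3), (2, -1), (3, 6), (5, 78), (6, 134), (10, 54), (15, 276)], 77506577292409071206400, 0⟩,
  ⟨30, [(1, 3), (2, 9), (3, -3), (5, -2), (6, 9), (10, 54), (15, 4372)], 0, 3487795978158408204288000⟩,
  ⟨30, [(1, 3), (2, 9), (3, 21), (5, 78), (6, 9), (10, 54), (15, 276)], 12917762882068178534400, 581299329693068034048000⟩,
  ⟨30, [(1, 4), (2, 8), (3, 22), (5, 79), (6, 134), (10, 783), (15, 4372)], 0, 871948994539602051072000⟩,
  ⟨32, [(1, 2), (2, 0), (4, 4), (8, 20), (16, 276)], 1089936243174502563840000, 0⟩,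
  ⟨32, [(1, 2), (2, 8), (4, 4), (8, 20), (16, 276)], 1089936243174502563840000, 0⟩,
  ⟨33, [(1, -1), (3, 17), (11, 54)], 0, 2113815744338429214720000⟩,
  ⟨35, [(1, 2), (5, 2), (7, 9)], 0, 1993026273233376116736000⟩,
  ⟨36, [(1, 0), (2, 0), (3, 6), (4, 0), (6, 6), (9, 276), (12, 54), (18, 276)], 215296048034469642240000, 1937664432310226780160000⟩,
  ⟨36, [(1, 1), (2, 7), (3, -2), (4, 27), (6, -2), (9, 52), (12, 54), (18, 4372)], 0, 1937664432310226780160000⟩,
  ⟨36, [(1, 2), (2, 0), (3, 2), (4, 0), (6, 6), (9, 20), (12, 54), (18, 276)], 1937664432310226780160000, 1937664432310226780160000⟩,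
  ⟨36, [(1, 3), (2, 3), (3, 6), (4, 27), (6, 6), (9, 276), (12, 54), (18, 276)], 107648024017234821120000, 0⟩,
  ⟨39, [(1, 2), (3, -1), (13, 54)], 0, 3577226644265034055680000⟩,
  ⟨40, [(1, 0), (2, 2), (4, 22), (5, 0), (8, 134), (10, 52), (20, 4372)], 0, 1743897989079204102144000⟩,
  ⟨40, [(1, 1), (2, 5), (4, 1), (5, -4), (8, 9), (10, 20), (20, 276)], 3487795978158408204288000, 3487795978158408204288000⟩,
  ⟨40, [(1, 2), (2, 6), (4, 6), (5, 12), (8, 134), (10, 276), (20, 276)], 435974497269801025536000, 871948994539602051072000⟩,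
  ⟨42, [(1, 0), (2, 0), (3, 3), (6, 51), (7, 0), (14, 0), (21, 276)], 830427613847240048640000, 3321710455388960194560000⟩,
  ⟨42, [(1, 1), (2, -1), (3, 10), (6, 2), (7, 15), (14, 783), (21, 276)], 1107236818462986731520000, 0⟩,
  ⟨42, [(1, 1), (2, 5), (3, 10), (6, 2), (7, 78), (14, 54), (21, 276)], 276809204615746682880000, 0⟩,
  ⟨44, [(1, 1), (2, 1), (4, 17), (11, 276), (22, 276)], 792680904126910955520000, 1585361808253821911040000⟩,
  ⟨46, [(1, 0), (2, 4), (23, 276)], 1516433033981916610560000, 3032866067963833221120000⟩,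
  ⟨46, [(1, 2), (2, 4), (23, 4372)], 0, 3032866067963833221120000⟩,
  ⟨48, [(1, 1), (2, 3), (3, 4), (4, -1), (6, 36), (8, 15), (12, 20), (16, 783), (24, 276)], 1453248324232670085120000, 0⟩,
  ⟨52, [(1, 1), (2, 3), (4, -1), (13, -12), (26, 276)], 2682919983198775541760000, 0⟩,
  ⟨56, [(1, 0), (2, 2), (4, 10), (7, 0), (8, 2), (14, -12), (28, 276)], 4982565683083440291840000, 0⟩,
  ⟨56, [(1, 1), (2, -1), (4, 3), (7, 36), (8, 51), (14, 20), (28, 276)], 1245641420770860072960000, 0⟩,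
  ⟨60, [(1, -1), (2, 1), (3, 5), (4, 9), (5, 14), (6, 1), (10, 6), (12, 9), (15, 20), (20, 54), (30, 276)], 1162598659386136068096000, 1162598659386136068096000⟩,
  ⟨60, [(1, 0), (2, 0), (3, 3), (4, 0), (5, 0), (6, 21), (10, 0), (12, 9), (15, -12), (20, 0), (30, 276)], 2325197318772272136192000, 0⟩,
  ⟨60, [(1, 0), (2, 0), (3, 6), (4, 8), (5, 15), (6, 6), (10, 15), (12, 134), (15, 276), (20, 783), (30, 276)], 581299329693068034048000, 2325197318772272136192000⟩,
  ⟨60, [(1, 1), (2, 1), (3, 1), (4, 9), (5, 6), (6, 1), (10, 6), (12, 9), (15, 276), (20, 54), (30, 276)], 1162598659386136068096000, 1162598659386136068096000⟩,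
  ⟨60, [(1, 1), (2, 3), (3, -2), (4, -1), (5, 6), (6, 6), (10, 78), (12, 134), (15, -12), (20, 54), (30, 276)], 2325197318772272136192000, 0⟩,
  ⟨60, [(1, 2), (2, 4), (3, 2), (4, 8), (5, 7), (6, 22), (10, 79), (12, 134), (15, 52), (20, 783), (30, 4372)], 0, 1162598659386136068096000⟩,
  ⟨66, [(1, 1), (2, -1), (3, 1), (6, 17), (11, 78), (22, 54), (33, 276)], 2113815744338429214720000, 0⟩,
  ⟨70, [(1, 0), (2, 2), (5, 10), (7, 21), (10, 2), (14, 9), (35, 276)], 1993026273233376116736000, 0⟩,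
  ⟨78, [(1, 0), (2, 2), (3, 3), (6, -1), (13, 78), (26, 54), (39, 276)], 3577226644265034055680000, 0⟩,
  ⟨84, [(1, -1), (2, 1), (3, 2), (4, 5), (6, 10), (7, 6), (12, 2), (14, 78), (21, -12), (28, 54), (42, 276)], 1660855227694480097280000, 0⟩,
  ⟨84, [(1, 0), (2, 0), (3, 3), (4, 0), (6, 3), (7, 0), (12, 51), (14, 0), (21, 276), (28, 0), (42, 276)], 1660855227694480097280000, 0⟩,
  ⟨88, [(1, 1), (2, 1), (4, 1), (8, 17), (11, 12), (22, 276), (44, 276)], 3170723616507643822080000, 0⟩,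
  ⟨92, [(1, 0), (2, 0), (4, 4), (23, 276), (46, 276)], 3032866067963833221120000, 0⟩]

/-- `g` has the type `t` -/
def HasTy (g : MG) (t : TyD) : Prop := orderOf g = t.ord ∧ ∀ p ∈ t.val, tV (g ^ p.1) = p.2

theorem HasTy.conj {g : MG} {t : TyD} (h : HasTy g t) (x : MG) : HasTy (x * g * x⁻¹) t := by
  refine ⟨?_, fun p hp => ?_⟩
  · rw [← h.1]
    exact (MulAut.conj x).orderOf_eq g
  · rw [conj_pow, tV_conj]
    exact h.2 p hp

/-- the types are different -/
def difT (s t : TyD) : Bool :=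
  !Nat.beq s.ord t.ord || s.val.any fun p => t.val.any fun q => Nat.beq p.1 q.1 && !decide (p.2 = q.2)

theorem HasTy.not_dif {g : MG} {s t : TyD} (hs : HasTy g s) (ht : HasTy g t) : difT s t = false := by
  by_contra h
  rw [Bool.not_eq_false, difT, Bool.or_eq_true] at h
  rcases h with h | h
  · rw [← hs.1, ← ht.1, Nat.beq_refl] at h
    exact absurd h (by decide)
  · obtain ⟨p, hp, h⟩ := List.any_eq_true.1 h
    obtain ⟨q, hq, h⟩ := List.any_eq_true.1 h
    rw [Bool.and_eq_true] at h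
    have h1 := hs.2 p hp
    rw [Nat.eq_of_beq_eq_true h.1, ht.2 q hq] at h1
    have h2 : q.2 = p.2 := by exact_mod_cast h1
    simp [h2] at h

theorem TT_length : TT.length = 129 := by decide +kernel

theorem TT_dif : TT.Pairwise fun s t => difT s t = true := by decide +kernel

/-- the type is unique -/
theorem ty_uniq {g : MG} {i j : ℕ} (hi : i < TT.length) (hj : j < TT.length) (hs : HasTy g TT[i]) (ht : HasTy g TT[j]) :
    i = j := by
  by_contra h
  rcases Nat.lt_or_gt_of_ne h with h1 | h1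
  · have h2 := List.pairwise_iff_getElem.1 TT_dif i j hi hj h1
    rw [hs.not_dif ht] at h2
    exact absurd h2 (by decide)
  · have h2 := List.pairwise_iff_getElem.1 TT_dif j i hj hi h1
    rw [ht.not_dif hs] at h2
    exact absurd h2 (by decide)

theorem ty_uniq' {g : MG} {s t : TyD} (hs : s ∈ TT) (ht : t ∈ TT) (h : HasTy g s) (h' : HasTy g t) : s = t := by
  obtain ⟨i, hi, rfl⟩ := List.getElem_of_mem hs
  obtain ⟨j, hj, rfl⟩ := List.getElem_of_mem ht
  have := ty_uniq hi hj h h'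
  subst this
  rfl

/-- every element of `C(z)` has one of the types -/
def Cover : Prop := ∀ g : MG, g * zz = zz * g → ∃ t ∈ TT, HasTy g t

/-- the number of the elements with the power `z` -/
def CountZ : Prop := ∀ t ∈ TT, Nat.card {g : MG // g * zz = zz * g ∧ HasTy g t ∧ g ^ (t.ord / 2) = zz} = t.nz

/-- the number of the elements of `C(z)` -/
def CountC : Prop := ∀ t ∈ TT, Nat.card {g : MG // g * zz = zz * g ∧ HasTy g t} = t.nz + t.no

/-- the masses of the 84 types with a power in `2B` -/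
def Mass : Prop := ∀ t ∈ TT, t.nz ≠ 0 →
  Nat.card {g : MG // HasTy g t} * (2 ^ 25 * 4157776806543360000) = Nat.card MG * t.nz

/-! ### The double cover -/

/-- the ambient group -/
abbrev Amb : Type := MG × Co0 × (Pauli 12 ≃* Pauli 12) × ((B 12 → ℚ) ≃ₗ[ℚ] (B 12 → ℚ))

/-- the double cover of `C(z)` -/
def Hat : Subgroup Amb where
  carrier := {x | Act (x.1 : V ≃ₗ[ℚ] V) x.2.1 x.2.2.1 x.2.2.2}
  one_mem' := Act.one
  mul_mem' h h' := Act.mul h h'
  inv_mem' h := Act.inv h

theorem mem_Hat {x : Amb} : x ∈ Hat ↔ Act (x.1 : V ≃ₗ[ℚ] V) x.2.1 x.2.2.1 x.2.2.2 := Iff.rfl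

/-- the character of degree `24` -/
noncomputable def c24 (x : Amb) : ℚ := (mat x.2.1).trace

/-- the character of degree `4096` -/
noncomputable def cT (x : Amb) : ℚ := tr x.2.2.2

/-- the character of degree `98280` -/
noncomputable def s2 (x : Amb) : ℚ := sS x.2.2.1

open Classical in
/-- the twisted function of degree `98280` -/
noncomputable def sO (A : Co0) (α : Pauli 12 ≃* Pauli 12) : ℚ :=
  ∑ j ∈ range (2 ^ 17), if XL.testBit j = true then phi α (value CL j) * (if A • lv j = lv j then 1 else -1) else 0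

/-- the twisted function of degree `98280` -/
noncomputable def s2o (x : Amb) : ℚ := sO x.2.1 x.2.2.1

theorem tV_hat {x : Amb} (h : x ∈ Hat) : tV x.1 = (c24 x ^ 2 + c24 (x ^ 2)) / 2 + s2 x + cT x * c24 x := by
  rw [pow_two x]
  exact trace_gen h

theorem hat_comm {x : Amb} (h : x ∈ Hat) : x.1 * zz = zz * x.1 := by
  have h1 := H155.TC.Val.conj_iota (x := x.1) h (Pauli.z 12)
  rw [aut_z] at h1
  exact h1

theorem exists_hat {g : MG} (h : g * zz = zz * g) : ∃ x ∈ Hat, x.1 = g := by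
  obtain ⟨A, α, T, h1, -⟩ := H155.TC.Val.exists_act' ⟨g, Subgroup.mem_centralizer_singleton_iff.2 h⟩
  exact ⟨(g, A, α, T), h1, rfl⟩

end Cfsg.Agent.TAB.C2B
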