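import Cfsg.Agent.TAB.C2B.Fib
import Cfsg.Agent.TAB.C2B.K0
import Cfsg.Agent.TAB.C2B.K1
import Cfsg.Agent.TAB.C2B.K2
import Cfsg.Agent.TAB.C2B.K3
import Cfsg.Agent.TAB.C2B.K4
import Cfsg.Agent.TAB.C2B.K5
import Cfsg.Agent.TAB.C2B.N0
import Cfsg.Agent.TAB.C2B.N1
import Cfsg.Agent.TAB.C2B.N2
import Cfsg.Agent.TAB.C2B.N3
import Cfsg.Agent.TAB.C2B.N4
import Cfsg.Agent.TAB.C2B.N5
import Cfsg.Agent.TAB.C2B.N6
import Cfsg.Agent.TAB.C2B.N7

/-!
# The cosets of `2^(1+24)` : all classes (helper47)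
-/

set_option autoImplicit false
set_option maxRecDepth 100000

namespace Cfsg.Agent.TAB.C2B

open Cfsg.Agent.H123.Cls

open Finset

theorem CDl_d : CDl.map CD.d ++ [CoD.d100] = CoD.Dl := rfl

theorem mem_Dl {D : CD} (h : D ∈ CDl) : D.d ∈ CoD.Dl := by
  rw [← CDl_d]
  exact List.mem_append_left _ (List.mem_map_of_mem h)

theorem allD : ∀ D ∈ CDl, chkD D = true := by
  unfold CDl
  exact List.forall_mem_cons.2 ⟨k0, List.forall_mem_cons.2 ⟨k1, List.forall_mem_cons.2 ⟨k2, List.forall_mem_cons.2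
    ⟨k3, List.forall_mem_cons.2 ⟨k4, List.forall_mem_cons.2 ⟨k5, List.forall_mem_cons.2 ⟨k6, List.forall_mem_cons.2
    ⟨k7, List.forall_mem_cons.2 ⟨k8, List.forall_mem_cons.2 ⟨k9, List.forall_mem_cons.2 ⟨k10, List.forall_mem_cons.2
    ⟨k11, List.forall_mem_cons.2 ⟨k12, List.forall_mem_cons.2 ⟨k13, List.forall_mem_cons.2 ⟨k14,
    List.forall_mem_cons.2 ⟨k15, List.forall_mem_cons.2 ⟨k16, List.forall_mem_cons.2 ⟨k17, List.forall_mem_cons.2
    ⟨k18, List.forall_mem_cons.2 ⟨k19, List.forall_mem_cons.2 ⟨k20, List.forall_mem_cons.2 ⟨k21,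
    List.forall_mem_cons.2 ⟨k22, List.forall_mem_cons.2 ⟨k23, List.forall_mem_cons.2 ⟨k24, List.forall_mem_cons.2
    ⟨k25, List.forall_mem_cons.2 ⟨k26, List.forall_mem_cons.2 ⟨k27, List.forall_mem_cons.2 ⟨k28,
    List.forall_mem_cons.2 ⟨k29, List.forall_mem_cons.2 ⟨k30, List.forall_mem_cons.2 ⟨k31, List.forall_mem_cons.2
    ⟨k32, List.forall_mem_cons.2 ⟨k33, List.forall_mem_cons.2 ⟨k34, List.forall_mem_cons.2 ⟨k35,
    List.forall_mem_cons.2 ⟨k36, List.forall_mem_cons.2 ⟨k37, List.forall_mem_cons.2 ⟨k38, List.forall_mem_cons.2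
    ⟨k39, List.forall_mem_cons.2 ⟨k40, List.forall_mem_cons.2 ⟨k41, List.forall_mem_cons.2 ⟨k42,
    List.forall_mem_cons.2 ⟨k43, List.forall_mem_cons.2 ⟨k44, List.forall_mem_cons.2 ⟨k45, List.forall_mem_cons.2
    ⟨k46, List.forall_mem_cons.2 ⟨k47, List.forall_mem_cons.2 ⟨k48, List.forall_mem_cons.2 ⟨k49,
    List.forall_mem_cons.2 ⟨k50, List.forall_mem_cons.2 ⟨k51, List.forall_mem_cons.2 ⟨k52, List.forall_mem_cons.2
    ⟨k53, List.forall_mem_cons.2 ⟨k54, List.forall_mem_cons.2 ⟨k55, List.forall_mem_cons.2 ⟨k56,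
    List.forall_mem_cons.2 ⟨k57, List.forall_mem_cons.2 ⟨k58, List.forall_mem_cons.2 ⟨k59, List.forall_mem_cons.2
    ⟨k60, List.forall_mem_cons.2 ⟨k61, List.forall_mem_cons.2 ⟨k62, List.forall_mem_cons.2 ⟨k63,
    List.forall_mem_cons.2 ⟨k64, List.forall_mem_cons.2 ⟨k65, List.forall_mem_cons.2 ⟨k66, List.forall_mem_cons.2
    ⟨k67, List.forall_mem_cons.2 ⟨k68, List.forall_mem_cons.2 ⟨k69, List.forall_mem_cons.2 ⟨k70,
    List.forall_mem_cons.2 ⟨k71, List.forall_mem_cons.2 ⟨k72, List.forall_mem_cons.2 ⟨k73, List.forall_mem_cons.2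
    ⟨k74, List.forall_mem_cons.2 ⟨k75, List.forall_mem_cons.2 ⟨k76, List.forall_mem_cons.2 ⟨k77,
    List.forall_mem_cons.2 ⟨k78, List.forall_mem_cons.2 ⟨k79, List.forall_mem_cons.2 ⟨k80, List.forall_mem_cons.2
    ⟨k81, List.forall_mem_cons.2 ⟨k82, List.forall_mem_cons.2 ⟨k83, List.forall_mem_cons.2 ⟨k84,
    List.forall_mem_cons.2 ⟨k85, List.forall_mem_cons.2 ⟨k86, List.forall_mem_cons.2 ⟨k87, List.forall_mem_cons.2
    ⟨k88, List.forall_mem_cons.2 ⟨k89, List.forall_mem_cons.2 ⟨k90, List.forall_mem_cons.2 ⟨k91,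
    List.forall_mem_cons.2 ⟨k92, List.forall_mem_cons.2 ⟨k93, List.forall_mem_cons.2 ⟨k94, List.forall_mem_cons.2
    ⟨k95, List.forall_mem_cons.2 ⟨k96, List.forall_mem_cons.2 ⟨k97, List.forall_mem_cons.2 ⟨k98,
    List.forall_mem_cons.2 ⟨k99, fun _ h => absurd h
    List.not_mem_nil⟩⟩⟩⟩⟩⟩⟩⟩⟩⟩⟩⟩⟩⟩⟩⟩⟩⟩⟩⟩⟩⟩⟩⟩⟩⟩⟩⟩⟩⟩⟩⟩⟩⟩⟩⟩⟩⟩⟩⟩⟩⟩⟩⟩⟩⟩⟩⟩⟩⟩⟩⟩⟩⟩⟩⟩⟩⟩⟩⟩⟩⟩⟩⟩⟩⟩⟩⟩⟩⟩⟩⟩⟩⟩⟩⟩⟩⟩⟩⟩⟩⟩⟩⟩⟩⟩⟩⟩⟩⟩⟩⟩⟩⟩⟩⟩⟩⟩⟩⟩

theorem allOk (D : CD) (h : D ∈ CDl) : ClsOk D := chkD_spec (mem_Dl h) (allD D h)

/-- the pieces fit -/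
def chkH (D : CD) (k : ℕ) (l : List (ℕ × ℕ)) : Bool :=
  l.map Prod.fst == (List.range l.length).map (fun i => i * 2 ^ k) && l.length * 2 ^ k == 2 ^ D.L1.b.length &&
    decide (D.L1.b.length ≤ 16) && (List.range D.sg.length).all (fun j => decide (D.cn.getD j 0 < 2 ^ 20)) &&
    (l.map Prod.snd).sum == ((List.range D.sg.length).map fun j => D.cn.getD j 0 * (2 ^ 20) ^ j).sum

theorem histOk_chunks {D : CD} (hD : ClsOk D) (k : ℕ) (l : List (ℕ × ℕ)) (h : ∀ p ∈ l, chkC D k p.1 p.2 = true)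
    (hc : chkH D k l = true) : HistOk D := by
  simp only [chkH, Bool.and_eq_true, beq_iff_eq, decide_eq_true_iff, List.all_eq_true, List.mem_range] at hc
  obtain ⟨⟨⟨⟨h1, h2⟩, h3⟩, h4⟩, h5⟩ := hc
  refine histOk_of h3 h4 ?_
  rw [sum_list_range] at h5
  rw [← h5, ← h2, mul_comm, sum_blocks]
  have h6 : (l.map Prod.snd).sum = ∑ i ∈ range l.length, (l.getD i (0, 0)).2 := by
    rw [← sum_list_range]
    refine congrArg List.sum (List.ext_getElem (by simp) fun i hi _ => ?_)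
    rw [List.length_map] at hi
    simp only [List.getElem_map, List.getElem_range, List.getD_eq_getElem _ _ hi]
  rw [h6]
  refine sum_congr rfl fun i hi => ?_
  have hi' := mem_range.1 hi
  have h7 : (l.getD i (0, 0)).1 = 2 ^ k * i := by
    have h8 := congrArg (fun m => m.getD i 0) h1
    simp only [List.getD_eq_getElem _ _ (show i < (l.map Prod.fst).length by simpa using hi'), List.getElem_map,
      List.getD_eq_getElem _ _ (show i < ((List.range l.length).map fun i => i * 2 ^ k).length by simpa using hi'),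
      List.getElem_range] at h8
    rw [List.getD_eq_getElem _ _ hi', h8, mul_comm]
  rw [← h7]
  exact chkC_spec hD (h _ (by rw [List.getD_eq_getElem _ _ hi']; exact List.getElem_mem _))

theorem h0 (h : ClsOk q0) : HistOk q0 := histOk_chunks h 10 [(0, 1099512678398), (1024, 2048), (2048, 2048), (3072,
  2048)] (List.forall_mem_cons.2 ⟨n0_0, List.forall_mem_cons.2 ⟨n0_1, List.forall_mem_cons.2 ⟨n0_2,
  List.forall_mem_cons.2 ⟨n0_3, fun _ h => absurd h List.not_mem_nil⟩⟩⟩⟩)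
  (by decide +kernel)

theorem h1 (h : ClsOk q1) : HistOk q1 := histOk_chunks h 10 [(0, 4835707890210506893427648), (1024,
  4835707890228099062694848), (2048, 4835707890228099062694848), (3072, 4835707890210506893427648), (4096,
  4835707890210506893427648), (5120, 4835707890192914724160448), (6144, 4835707890192914724160448), (7168,
  4835707890210506893427648), (8192, 4835707890192914724160448), (9216, 4835707890210506893427648), (10240,
  4835707890210506893427648), (11264, 4835707890192914724160448), (12288, 4835707890228099062694848), (13312,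
  4835707890210506893427648), (14336, 4835707890210506893427648), (15360, 4835707890228099062694848), (16384,
  4835707890245691231962048), (17408, 4835707890228099062694848), (18432, 4835707890228099062694848), (19456,
  4835707890245691231962048), (20480, 4835707890210506893427648), (21504, 4835707890228099062694848), (22528,
  4835707890228099062694848), (23552, 4835707890210506893427648), (24576, 4835707890228099062694848), (25600,
  4835707890210506893427648), (26624, 4835707890210506893427648), (27648, 4835707890228099062694848), (28672,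
  4835707890228099062694848), (29696, 4835707890245691231962048), (30720, 4835707890245691231962048), (31744,
  4835707890228099062694848), (32768, 9671406556978607122547648), (33792, 9671406556961014953280448), (34816,
  9223424814495040448), (35840, 9223442406664307648), (36864, 4835707890210506893427648), (37888,
  4835707890228099062694848), (38912, 4835707890228099062694848), (39936, 4835707890210506893427648), (40960,
  9671406556996199291814848), (41984, 9223442406664307648), (43008, 9223442406664307648), (44032,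
  9671406556996199291814848), (45056, 4835707890192914724160448), (46080, 4835707890210506893427648), (47104,
  4835707890210506893427648), (48128, 4835707890192914724160448), (49152, 9671406557013791461082048), (50176,
  1329229263442769656050993090095219648), (51200, 9671406557031383630349248), (52224, 9671406557013791461082048),
  (53248, 4835707890210506893427648), (54272, 4835707890192914724160448), (55296, 4835707890192914724160448),
  (56320, 4835707890210506893427648), (57344, 9671406556961014953280448), (58368, 9223442406664307648), (59392,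
  9671406556978607122547648), (60416, 9223424814495040448), (61440, 4835707890263283401229248), (62464,
  4835707890245691231962048), (63488, 4835707890245691231962048), (64512, 4835707890263283401229248)]
  (List.forall_mem_cons.2 ⟨n1_0, List.forall_mem_cons.2 ⟨n1_1, List.forall_mem_cons.2 ⟨n1_2, List.forall_mem_cons.2
  ⟨n1_3, List.forall_mem_cons.2 ⟨n1_4, List.forall_mem_cons.2 ⟨n1_5, List.forall_mem_cons.2 ⟨n1_6,
  List.forall_mem_cons.2 ⟨n1_7, List.forall_mem_cons.2 ⟨n1_8, List.forall_mem_cons.2 ⟨n1_9, List.forall_mem_cons.2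
  ⟨n1_10, List.forall_mem_cons.2 ⟨n1_11, List.forall_mem_cons.2 ⟨n1_12, List.forall_mem_cons.2 ⟨n1_13,
  List.forall_mem_cons.2 ⟨n1_14, List.forall_mem_cons.2 ⟨n1_15, List.forall_mem_cons.2 ⟨n1_16,
  List.forall_mem_cons.2 ⟨n1_17, List.forall_mem_cons.2 ⟨n1_18, List.forall_mem_cons.2 ⟨n1_19,
  List.forall_mem_cons.2 ⟨n1_20, List.forall_mem_cons.2 ⟨n1_21, List.forall_mem_cons.2 ⟨n1_22,
  List.forall_mem_cons.2 ⟨n1_23, List.forall_mem_cons.2 ⟨n1_24, List.forall_mem_cons.2 ⟨n1_25,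
  List.forall_mem_cons.2 ⟨n1_26, List.forall_mem_cons.2 ⟨n1_27, List.forall_mem_cons.2 ⟨n1_28,
  List.forall_mem_cons.2 ⟨n1_29, List.forall_mem_cons.2 ⟨n1_30, List.forall_mem_cons.2 ⟨n1_31,
  List.forall_mem_cons.2 ⟨n1_32, List.forall_mem_cons.2 ⟨n1_33, List.forall_mem_cons.2 ⟨n1_34,
  List.forall_mem_cons.2 ⟨n1_35, List.forall_mem_cons.2 ⟨n1_36, List.forall_mem_cons.2 ⟨n1_37,
  List.forall_mem_cons.2 ⟨n1_38, List.forall_mem_cons.2 ⟨n1_39, List.forall_mem_cons.2 ⟨n1_40,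
  List.forall_mem_cons.2 ⟨n1_41, List.forall_mem_cons.2 ⟨n1_42, List.forall_mem_cons.2 ⟨n1_43,
  List.forall_mem_cons.2 ⟨n1_44, List.forall_mem_cons.2 ⟨n1_45, List.forall_mem_cons.2 ⟨n1_46,
  List.forall_mem_cons.2 ⟨n1_47, List.forall_mem_cons.2 ⟨n1_48, List.forall_mem_cons.2 ⟨n1_49,
  List.forall_mem_cons.2 ⟨n1_50, List.forall_mem_cons.2 ⟨n1_51, List.forall_mem_cons.2 ⟨n1_52,
  List.forall_mem_cons.2 ⟨n1_53, List.forall_mem_cons.2 ⟨n1_54, List.forall_mem_cons.2 ⟨n1_55,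
  List.forall_mem_cons.2 ⟨n1_56, List.forall_mem_cons.2 ⟨n1_57, List.forall_mem_cons.2 ⟨n1_58,
  List.forall_mem_cons.2 ⟨n1_59, List.forall_mem_cons.2 ⟨n1_60, List.forall_mem_cons.2 ⟨n1_61,
  List.forall_mem_cons.2 ⟨n1_62, List.forall_mem_cons.2 ⟨n1_63, fun _ h => absurd h
  List.not_mem_nil⟩⟩⟩⟩⟩⟩⟩⟩⟩⟩⟩⟩⟩⟩⟩⟩⟩⟩⟩⟩⟩⟩⟩⟩⟩⟩⟩⟩⟩⟩⟩⟩⟩⟩⟩⟩⟩⟩⟩⟩⟩⟩⟩⟩⟩⟩⟩⟩⟩⟩⟩⟩⟩⟩⟩⟩⟩⟩⟩⟩⟩⟩⟩⟩)
  (by decide +kernel)

theorem h2 (h : ClsOk q2) : HistOk q2 := histOk_chunks h 10 [(0, 48357530847202922802971648), (1024,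
  2535412422046915651286937371648), (2048, 48357530847202922802971648), (3072,
  1393797904136159842483445752695876405429248)] (List.forall_mem_cons.2 ⟨n2_0, List.forall_mem_cons.2 ⟨n2_1,
  List.forall_mem_cons.2 ⟨n2_2, List.forall_mem_cons.2 ⟨n2_3, fun _ h => absurd h List.not_mem_nil⟩⟩⟩⟩)
  (by decide +kernel)

theorem h3 (h : ClsOk q3) : HistOk q3 := histOk_chunks h 0 [(0, 1048577)] (List.forall_mem_cons.2 ⟨n3_0, fun _ h =>
  absurd h List.not_mem_nil⟩)
  (by decide +kernel)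

theorem h4 (h : ClsOk q4) : HistOk q4 := histOk_chunks h 10 [(0, 175922799969248), (1024,
  1208926972769231129543648), (2048, 175922732860448), (3072, 246291477038048)] (List.forall_mem_cons.2 ⟨n4_0,
  List.forall_mem_cons.2 ⟨n4_1, List.forall_mem_cons.2 ⟨n4_2, List.forall_mem_cons.2 ⟨n4_3, fun _ h => absurd h
  List.not_mem_nil⟩⟩⟩⟩)
  (by decide +kernel)

theorem h5 (h : ClsOk q5) : HistOk q5 := histOk_chunks h 8 [(0, 1152922604370133262)] (List.forall_mem_cons.2 ⟨n5_0,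
  fun _ h => absurd h List.not_mem_nil⟩)
  (by decide +kernel)

theorem h6 (h : ClsOk q6) : HistOk q6 := histOk_chunks h 6 [(0, 1152922604175097928)] (List.forall_mem_cons.2 ⟨n6_0,
  fun _ h => absurd h List.not_mem_nil⟩)
  (by decide +kernel)

theorem h7 (h : ClsOk q7) : HistOk q7 := histOk_chunks h 8 [(0, 31901502322453595354169548098532016512)]
  (List.forall_mem_cons.2 ⟨n7_0, fun _ h => absurd h List.not_mem_nil⟩)
  (by decide +kernel)

theorem h8 (h : ClsOk q8) : HistOk q8 := histOk_chunks h 6 [(0, 16725560228127230827935666732009697929330728)]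
  (List.forall_mem_cons.2 ⟨n8_0, fun _ h => absurd h List.not_mem_nil⟩)
  (by decide +kernel)

theorem h9 (h : ClsOk q9) : HistOk q9 := histOk_chunks h 10 [(0, 1461503031143428587670098441789399430348757008448)]
  (List.forall_mem_cons.2 ⟨n9_0, fun _ h => absurd h List.not_mem_nil⟩)
  (by decide +kernel)

theorem h10 (h : ClsOk q10) : HistOk q10 := histOk_chunks h 6 [(0, 1099512676478)] (List.forall_mem_cons.2 ⟨n10_0,
  fun _ h => absurd h List.not_mem_nil⟩)
  (by decide +kernel)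

theorem h11 (h : ClsOk q11) : HistOk q11 := histOk_chunks h 8 [(0, 16725560228127230849696349931889664588775712)]
  (List.forall_mem_cons.2 ⟨n11_0, fun _ h => absurd h List.not_mem_nil⟩)
  (by decide +kernel)

theorem h12 (h : ClsOk q12) : HistOk q12 := histOk_chunks h 8 [(0, 1152922604370133262)] (List.forall_mem_cons.2
  ⟨n12_0, fun _ h => absurd h List.not_mem_nil⟩)
  (by decide +kernel)

theorem h13 (h : ClsOk q13) : HistOk q13 := histOk_chunks h 4 [(0, 1152922604128960532)] (List.forall_mem_cons.2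
  ⟨n13_0, fun _ h => absurd h List.not_mem_nil⟩)
  (by decide +kernel)

theorem h14 (h : ClsOk q14) : HistOk q14 := histOk_chunks h 8 [(0, 1208926972800016729505912)]
  (List.forall_mem_cons.2 ⟨n14_0, fun _ h => absurd h List.not_mem_nil⟩)
  (by decide +kernel)

theorem h15 (h : ClsOk q15) : HistOk q15 := histOk_chunks h 0 [(0, 1048577)] (List.forall_mem_cons.2 ⟨n15_0, fun _ h
  => absurd h List.not_mem_nil⟩)
  (by decide +kernel)

theorem h16 (h : ClsOk q16) : HistOk q16 := histOk_chunks h 4 [(0, 1099512676382)] (List.forall_mem_cons.2 ⟨n16_0,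
  fun _ h => absurd h List.not_mem_nil⟩)
  (by decide +kernel)

theorem h17 (h : ClsOk q17) : HistOk q17 := histOk_chunks h 4 [(0, 14507128282120723318702082)]
  (List.forall_mem_cons.2 ⟨n17_0, fun _ h => absurd h List.not_mem_nil⟩)
  (by decide +kernel)

theorem h18 (h : ClsOk q18) : HistOk q18 := histOk_chunks h 4 [(0, 6917555415921197057)] (List.forall_mem_cons.2
  ⟨n18_0, fun _ h => absurd h List.not_mem_nil⟩)
  (by decide +kernel)

theorem h19 (h : ClsOk q19) : HistOk q19 := histOk_chunks h 0 [(0, 1048577)] (List.forall_mem_cons.2 ⟨n19_0, fun _ h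
  => absurd h List.not_mem_nil⟩)
  (by decide +kernel)

theorem h20 (h : ClsOk q20) : HistOk q20 := histOk_chunks h 8 [(0, 1329229263450023231721250355066962112)]
  (List.forall_mem_cons.2 ⟨n20_0, fun _ h => absurd h List.not_mem_nil⟩)
  (by decide +kernel)

theorem h21 (h : ClsOk q21) : HistOk q21 := histOk_chunks h 6 [(0, 1152922604193972278)] (List.forall_mem_cons.2
  ⟨n21_0, fun _ h => absurd h List.not_mem_nil⟩)
  (by decide +kernel)

theorem h22 (h : ClsOk q22) : HistOk q22 := histOk_chunks h 6 [(0, 1152922604175097928)] (List.forall_mem_cons.2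
  ⟨n22_0, fun _ h => absurd h List.not_mem_nil⟩)
  (by decide +kernel)

theorem h23 (h : ClsOk q23) : HistOk q23 := histOk_chunks h 0 [(0, 1048577)] (List.forall_mem_cons.2 ⟨n23_0, fun _ h
  => absurd h List.not_mem_nil⟩)
  (by decide +kernel)

theorem h24 (h : ClsOk q24) : HistOk q24 := histOk_chunks h 6 [(0, 1208926972582313299279928)]
  (List.forall_mem_cons.2 ⟨n24_0, fun _ h => absurd h List.not_mem_nil⟩)
  (by decide +kernel)

theorem h25 (h : ClsOk q25) : HistOk q25 := histOk_chunks h 0 [(0, 1048577)] (List.forall_mem_cons.2 ⟨n25_0, fun _ h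
  => absurd h List.not_mem_nil⟩)
  (by decide +kernel)

theorem h26 (h : ClsOk q26) : HistOk q26 := histOk_chunks h 4 [(0, 1099512676382)] (List.forall_mem_cons.2 ⟨n26_0,
  fun _ h => absurd h List.not_mem_nil⟩)
  (by decide +kernel)

theorem h27 (h : ClsOk q27) : HistOk q27 := histOk_chunks h 4 [(0, 1152922604143640582)] (List.forall_mem_cons.2
  ⟨n27_0, fun _ h => absurd h List.not_mem_nil⟩)
  (by decide +kernel)

theorem h28 (h : ClsOk q28) : HistOk q28 := histOk_chunks h 4 [(0, 1329229263437933957384141425950588932)]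
  (List.forall_mem_cons.2 ⟨n28_0, fun _ h => absurd h List.not_mem_nil⟩)
  (by decide +kernel)

theorem h29 (h : ClsOk q29) : HistOk q29 := histOk_chunks h 6 [(0,
  1532497002375888979344540716100998798084373977816367128)] (List.forall_mem_cons.2 ⟨n29_0, fun _ h => absurd h
  List.not_mem_nil⟩)
  (by decide +kernel)

theorem h30 (h : ClsOk q30) : HistOk q30 := histOk_chunks h 4 [(0, 1267651809167884082977261486082)]
  (List.forall_mem_cons.2 ⟨n30_0, fun _ h => absurd h List.not_mem_nil⟩)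
  (by decide +kernel)

theorem h31 (h : ClsOk q31) : HistOk q31 := histOk_chunks h 4 [(0, 1152922604124766232)] (List.forall_mem_cons.2
  ⟨n31_0, fun _ h => absurd h List.not_mem_nil⟩)
  (by decide +kernel)

theorem h32 (h : ClsOk q32) : HistOk q32 := histOk_chunks h 2 [(0, 1099512676358)] (List.forall_mem_cons.2 ⟨n32_0,
  fun _ h => absurd h List.not_mem_nil⟩)
  (by decide +kernel)

theorem h33 (h : ClsOk q33) : HistOk q33 := histOk_chunks h 0 [(0, 1048577)] (List.forall_mem_cons.2 ⟨n33_0, fun _ h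
  => absurd h List.not_mem_nil⟩)
  (by decide +kernel)

theorem h34 (h : ClsOk q34) : HistOk q34 := histOk_chunks h 4 [(0, 1152922604131057682)] (List.forall_mem_cons.2
  ⟨n34_0, fun _ h => absurd h List.not_mem_nil⟩)
  (by decide +kernel)

theorem h35 (h : ClsOk q35) : HistOk q35 := histOk_chunks h 4 [(0, 1099512676382)] (List.forall_mem_cons.2 ⟨n35_0,
  fun _ h => absurd h List.not_mem_nil⟩)
  (by decide +kernel)

theorem h36 (h : ClsOk q36) : HistOk q36 := histOk_chunks h 0 [(0, 1048577)] (List.forall_mem_cons.2 ⟨n36_0, fun _ h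
  => absurd h List.not_mem_nil⟩)
  (by decide +kernel)

theorem h37 (h : ClsOk q37) : HistOk q37 := histOk_chunks h 4 [(0, 5316917053743273331505372560743202832)]
  (List.forall_mem_cons.2 ⟨n37_0, fun _ h => absurd h List.not_mem_nil⟩)
  (by decide +kernel)

theorem h38 (h : ClsOk q38) : HistOk q38 := histOk_chunks h 4 [(0, 23058431191649615882)] (List.forall_mem_cons.2
  ⟨n38_0, fun _ h => absurd h List.not_mem_nil⟩)
  (by decide +kernel)

theorem h39 (h : ClsOk q39) : HistOk q39 := histOk_chunks h 0 [(0, 1048577)] (List.forall_mem_cons.2 ⟨n39_0, fun _ h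
  => absurd h List.not_mem_nil⟩)
  (by decide +kernel)

theorem h40 (h : ClsOk q40) : HistOk q40 := histOk_chunks h 4 [(0, 1152922604128960532)] (List.forall_mem_cons.2
  ⟨n40_0, fun _ h => absurd h List.not_mem_nil⟩)
  (by decide +kernel)

theorem h41 (h : ClsOk q41) : HistOk q41 := histOk_chunks h 4 [(0, 1208926972549327927377932)]
  (List.forall_mem_cons.2 ⟨n41_0, fun _ h => absurd h List.not_mem_nil⟩)
  (by decide +kernel)

theorem h42 (h : ClsOk q42) : HistOk q42 := histOk_chunks h 0 [(0, 1048577)] (List.forall_mem_cons.2 ⟨n42_0, fun _ h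
  => absurd h List.not_mem_nil⟩)
  (by decide +kernel)

theorem h43 (h : ClsOk q43) : HistOk q43 := histOk_chunks h 4 [(0, 1152922604143640582)] (List.forall_mem_cons.2
  ⟨n43_0, fun _ h => absurd h List.not_mem_nil⟩)
  (by decide +kernel)

theorem h44 (h : ClsOk q44) : HistOk q44 := histOk_chunks h 0 [(0, 1048577)] (List.forall_mem_cons.2 ⟨n44_0, fun _ h
  => absurd h List.not_mem_nil⟩)
  (by decide +kernel)

theorem h45 (h : ClsOk q45) : HistOk q45 := histOk_chunks h 4 [(0, 1152922604137349132)] (List.forall_mem_cons.2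
  ⟨n45_0, fun _ h => absurd h List.not_mem_nil⟩)
  (by decide +kernel)

theorem h46 (h : ClsOk q46) : HistOk q46 := histOk_chunks h 2 [(0, 2305847407261253633)] (List.forall_mem_cons.2
  ⟨n46_0, fun _ h => absurd h List.not_mem_nil⟩)
  (by decide +kernel)

theorem h47 (h : ClsOk q47) : HistOk q47 := histOk_chunks h 2 [(0, 1099512676358)] (List.forall_mem_cons.2 ⟨n47_0,
  fun _ h => absurd h List.not_mem_nil⟩)
  (by decide +kernel)

theorem h48 (h : ClsOk q48) : HistOk q48 := histOk_chunks h 4 [(0, 7605904810296348951711076843532)]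
  (List.forall_mem_cons.2 ⟨n48_0, fun _ h => absurd h List.not_mem_nil⟩)
  (by decide +kernel)

theorem h49 (h : ClsOk q49) : HistOk q49 := histOk_chunks h 4 [(0, 2535308454029823235941676875782)]
  (List.forall_mem_cons.2 ⟨n49_0, fun _ h => absurd h List.not_mem_nil⟩)
  (by decide +kernel)

theorem h50 (h : ClsOk q50) : HistOk q50 := histOk_chunks h 2 [(0, 1099512676358)] (List.forall_mem_cons.2 ⟨n50_0,
  fun _ h => absurd h List.not_mem_nil⟩)
  (by decide +kernel)

theorem h51 (h : ClsOk q51) : HistOk q51 := histOk_chunks h 0 [(0, 1048577)] (List.forall_mem_cons.2 ⟨n51_0, fun _ h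
  => absurd h List.not_mem_nil⟩)
  (by decide +kernel)

theorem h52 (h : ClsOk q52) : HistOk q52 := histOk_chunks h 4 [(0, 5070616908023905904141029867532)]
  (List.forall_mem_cons.2 ⟨n52_0, fun _ h => absurd h List.not_mem_nil⟩)
  (by decide +kernel)

theorem h53 (h : ClsOk q53) : HistOk q53 := histOk_chunks h 2 [(0, 6597070815233)] (List.forall_mem_cons.2 ⟨n53_0,
  fun _ h => absurd h List.not_mem_nil⟩)
  (by decide +kernel)

theorem h54 (h : ClsOk q54) : HistOk q54 := histOk_chunks h 0 [(0, 1048577)] (List.forall_mem_cons.2 ⟨n54_0, fun _ h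
  => absurd h List.not_mem_nil⟩)
  (by decide +kernel)

theorem h55 (h : ClsOk q55) : HistOk q55 := histOk_chunks h 0 [(0, 1048577)] (List.forall_mem_cons.2 ⟨n55_0, fun _ h
  => absurd h List.not_mem_nil⟩)
  (by decide +kernel)

theorem h56 (h : ClsOk q56) : HistOk q56 := histOk_chunks h 4 [(0, 1329229263437933961995818648289148932)]
  (List.forall_mem_cons.2 ⟨n56_0, fun _ h => absurd h List.not_mem_nil⟩)
  (by decide +kernel)

theorem h57 (h : ClsOk q57) : HistOk q57 := histOk_chunks h 0 [(0, 1048577)] (List.forall_mem_cons.2 ⟨n57_0, fun _ h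
  => absurd h List.not_mem_nil⟩)
  (by decide +kernel)

theorem h58 (h : ClsOk q58) : HistOk q58 := histOk_chunks h 0 [(0, 1048577)] (List.forall_mem_cons.2 ⟨n58_0, fun _ h
  => absurd h List.not_mem_nil⟩)
  (by decide +kernel)

theorem h59 (h : ClsOk q59) : HistOk q59 := histOk_chunks h 4 [(0, 1208926972542730863902732)]
  (List.forall_mem_cons.2 ⟨n59_0, fun _ h => absurd h List.not_mem_nil⟩)
  (by decide +kernel)

theorem h60 (h : ClsOk q60) : HistOk q60 := histOk_chunks h 0 [(0, 1048577)] (List.forall_mem_cons.2 ⟨n60_0, fun _ h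
  => absurd h List.not_mem_nil⟩)
  (by decide +kernel)

theorem h61 (h : ClsOk q61) : HistOk q61 := histOk_chunks h 2 [(0, 4611687117940064258)] (List.forall_mem_cons.2
  ⟨n61_0, fun _ h => absurd h List.not_mem_nil⟩)
  (by decide +kernel)

theorem h62 (h : ClsOk q62) : HistOk q62 := histOk_chunks h 0 [(0, 1048577)] (List.forall_mem_cons.2 ⟨n62_0, fun _ h
  => absurd h List.not_mem_nil⟩)
  (by decide +kernel)

theorem h63 (h : ClsOk q63) : HistOk q63 := histOk_chunks h 2 [(0, 1152922604120571908)] (List.forall_mem_cons.2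
  ⟨n63_0, fun _ h => absurd h List.not_mem_nil⟩)
  (by decide +kernel)

theorem h64 (h : ClsOk q64) : HistOk q64 := histOk_chunks h 2 [(0, 1208926972538332806905858)]
  (List.forall_mem_cons.2 ⟨n64_0, fun _ h => absurd h List.not_mem_nil⟩)
  (by decide +kernel)

theorem h65 (h : ClsOk q65) : HistOk q65 := histOk_chunks h 0 [(0, 1048577)] (List.forall_mem_cons.2 ⟨n65_0, fun _ h
  => absurd h List.not_mem_nil⟩)
  (by decide +kernel)

theorem h66 (h : ClsOk q66) : HistOk q66 := histOk_chunks h 2 [(0, 1099512676358)] (List.forall_mem_cons.2 ⟨n66_0,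
  fun _ h => absurd h List.not_mem_nil⟩)
  (by decide +kernel)

theorem h67 (h : ClsOk q67) : HistOk q67 := histOk_chunks h 2 [(0, 1099512676358)] (List.forall_mem_cons.2 ⟨n67_0,
  fun _ h => absurd h List.not_mem_nil⟩)
  (by decide +kernel)

theorem h68 (h : ClsOk q68) : HistOk q68 := histOk_chunks h 2 [(0, 2417852792151862469984258)]
  (List.forall_mem_cons.2 ⟨n68_0, fun _ h => absurd h List.not_mem_nil⟩)
  (by decide +kernel)

theorem h69 (h : ClsOk q69) : HistOk q69 := histOk_chunks h 2 [(0, 4611688217451692033)] (List.forall_mem_cons.2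
  ⟨n69_0, fun _ h => absurd h List.not_mem_nil⟩)
  (by decide +kernel)

theorem h70 (h : ClsOk q70) : HistOk q70 := histOk_chunks h 0 [(0, 1048577)] (List.forall_mem_cons.2 ⟨n70_0, fun _ h
  => absurd h List.not_mem_nil⟩)
  (by decide +kernel)

theorem h71 (h : ClsOk q71) : HistOk q71 := histOk_chunks h 0 [(0, 1048577)] (List.forall_mem_cons.2 ⟨n71_0, fun _ h
  => absurd h List.not_mem_nil⟩)
  (by decide +kernel)

theorem h72 (h : ClsOk q72) : HistOk q72 := histOk_chunks h 2 [(0, 1152922604120571908)] (List.forall_mem_cons.2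
  ⟨n72_0, fun _ h => absurd h List.not_mem_nil⟩)
  (by decide +kernel)

theorem h73 (h : ClsOk q73) : HistOk q73 := histOk_chunks h 0 [(0, 1048577)] (List.forall_mem_cons.2 ⟨n73_0, fun _ h
  => absurd h List.not_mem_nil⟩)
  (by decide +kernel)

theorem h74 (h : ClsOk q74) : HistOk q74 := histOk_chunks h 2 [(0, 2305847407261253633)] (List.forall_mem_cons.2
  ⟨n74_0, fun _ h => absurd h List.not_mem_nil⟩)
  (by decide +kernel)

theorem h75 (h : ClsOk q75) : HistOk q75 := histOk_chunks h 2 [(0, 1208926972538332806905858)]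
  (List.forall_mem_cons.2 ⟨n75_0, fun _ h => absurd h List.not_mem_nil⟩)
  (by decide +kernel)

theorem h76 (h : ClsOk q76) : HistOk q76 := histOk_chunks h 2 [(0, 6597070815233)] (List.forall_mem_cons.2 ⟨n76_0,
  fun _ h => absurd h List.not_mem_nil⟩)
  (by decide +kernel)

theorem h77 (h : ClsOk q77) : HistOk q77 := histOk_chunks h 0 [(0, 1048577)] (List.forall_mem_cons.2 ⟨n77_0, fun _ h
  => absurd h List.not_mem_nil⟩)
  (by decide +kernel)

theorem h78 (h : ClsOk q78) : HistOk q78 := histOk_chunks h 2 [(0, 2417852792151862469984258)]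
  (List.forall_mem_cons.2 ⟨n78_0, fun _ h => absurd h List.not_mem_nil⟩)
  (by decide +kernel)

theorem h79 (h : ClsOk q79) : HistOk q79 := histOk_chunks h 2 [(0, 2417853945074466587410433)]
  (List.forall_mem_cons.2 ⟨n79_0, fun _ h => absurd h List.not_mem_nil⟩)
  (by decide +kernel)

theorem h80 (h : ClsOk q80) : HistOk q80 := histOk_chunks h 0 [(0, 1048577)] (List.forall_mem_cons.2 ⟨n80_0, fun _ h
  => absurd h List.not_mem_nil⟩)
  (by decide +kernel)

theorem h81 (h : ClsOk q81) : HistOk q81 := histOk_chunks h 0 [(0, 1048577)] (List.forall_mem_cons.2 ⟨n81_0, fun _ h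
  => absurd h List.not_mem_nil⟩)
  (by decide +kernel)

theorem h82 (h : ClsOk q82) : HistOk q82 := histOk_chunks h 0 [(0, 1048577)] (List.forall_mem_cons.2 ⟨n82_0, fun _ h
  => absurd h List.not_mem_nil⟩)
  (by decide +kernel)

theorem h83 (h : ClsOk q83) : HistOk q83 := histOk_chunks h 0 [(0, 1048577)] (List.forall_mem_cons.2 ⟨n83_0, fun _ h
  => absurd h List.not_mem_nil⟩)
  (by decide +kernel)

theorem h84 (h : ClsOk q84) : HistOk q84 := histOk_chunks h 2 [(0, 2305844108726370308)] (List.forall_mem_cons.2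
  ⟨n84_0, fun _ h => absurd h List.not_mem_nil⟩)
  (by decide +kernel)

theorem h85 (h : ClsOk q85) : HistOk q85 := histOk_chunks h 0 [(0, 1048577)] (List.forall_mem_cons.2 ⟨n85_0, fun _ h
  => absurd h List.not_mem_nil⟩)
  (by decide +kernel)

theorem h86 (h : ClsOk q86) : HistOk q86 := histOk_chunks h 2 [(0, 2305844108726370308)] (List.forall_mem_cons.2
  ⟨n86_0, fun _ h => absurd h List.not_mem_nil⟩)
  (by decide +kernel)

theorem h87 (h : ClsOk q87) : HistOk q87 := histOk_chunks h 0 [(0, 1048577)] (List.forall_mem_cons.2 ⟨n87_0, fun _ h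
  => absurd h List.not_mem_nil⟩)
  (by decide +kernel)

theorem h88 (h : ClsOk q88) : HistOk q88 := histOk_chunks h 2 [(0, 4611687117940064258)] (List.forall_mem_cons.2
  ⟨n88_0, fun _ h => absurd h List.not_mem_nil⟩)
  (by decide +kernel)

theorem h89 (h : ClsOk q89) : HistOk q89 := histOk_chunks h 0 [(0, 1048577)] (List.forall_mem_cons.2 ⟨n89_0, fun _ h
  => absurd h List.not_mem_nil⟩)
  (by decide +kernel)

theorem h90 (h : ClsOk q90) : HistOk q90 := histOk_chunks h 0 [(0, 1048577)] (List.forall_mem_cons.2 ⟨n90_0, fun _ h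
  => absurd h List.not_mem_nil⟩)
  (by decide +kernel)

theorem h91 (h : ClsOk q91) : HistOk q91 := histOk_chunks h 0 [(0, 1048577)] (List.forall_mem_cons.2 ⟨n91_0, fun _ h
  => absurd h List.not_mem_nil⟩)
  (by decide +kernel)

theorem h92 (h : ClsOk q92) : HistOk q92 := histOk_chunks h 0 [(0, 1048577)] (List.forall_mem_cons.2 ⟨n92_0, fun _ h
  => absurd h List.not_mem_nil⟩)
  (by decide +kernel)

theorem h93 (h : ClsOk q93) : HistOk q93 := histOk_chunks h 0 [(0, 1048577)] (List.forall_mem_cons.2 ⟨n93_0, fun _ h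
  => absurd h List.not_mem_nil⟩)
  (by decide +kernel)

theorem h94 (h : ClsOk q94) : HistOk q94 := histOk_chunks h 0 [(0, 1048577)] (List.forall_mem_cons.2 ⟨n94_0, fun _ h
  => absurd h List.not_mem_nil⟩)
  (by decide +kernel)

theorem h95 (h : ClsOk q95) : HistOk q95 := histOk_chunks h 0 [(0, 1048577)] (List.forall_mem_cons.2 ⟨n95_0, fun _ h
  => absurd h List.not_mem_nil⟩)
  (by decide +kernel)

theorem h96 (h : ClsOk q96) : HistOk q96 := histOk_chunks h 0 [(0, 1048577)] (List.forall_mem_cons.2 ⟨n96_0, fun _ h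
  => absurd h List.not_mem_nil⟩)
  (by decide +kernel)

theorem h97 (h : ClsOk q97) : HistOk q97 := histOk_chunks h 6 [(0, 15950737217070799631200583440886923328)]
  (List.forall_mem_cons.2 ⟨n97_0, fun _ h => absurd h List.not_mem_nil⟩)
  (by decide +kernel)

theorem h98 (h : ClsOk q98) : HistOk q98 := histOk_chunks h 2 [(0, 2417853945074466587410433)]
  (List.forall_mem_cons.2 ⟨n98_0, fun _ h => absurd h List.not_mem_nil⟩)
  (by decide +kernel)

theorem h99 (h : ClsOk q99) : HistOk q99 := histOk_chunks h 0 [(0, 1048577)] (List.forall_mem_cons.2 ⟨n99_0, fun _ h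
  => absurd h List.not_mem_nil⟩)
  (by decide +kernel)

theorem allH' : ∀ D ∈ CDl, ClsOk D → HistOk D := by
  unfold CDl
  exact List.forall_mem_cons.2 ⟨h0, List.forall_mem_cons.2 ⟨h1, List.forall_mem_cons.2 ⟨h2, List.forall_mem_cons.2
    ⟨h3, List.forall_mem_cons.2 ⟨h4, List.forall_mem_cons.2 ⟨h5, List.forall_mem_cons.2 ⟨h6, List.forall_mem_cons.2
    ⟨h7, List.forall_mem_cons.2 ⟨h8, List.forall_mem_cons.2 ⟨h9, List.forall_mem_cons.2 ⟨h10, List.forall_mem_cons.2
    ⟨h11, List.forall_mem_cons.2 ⟨h12, List.forall_mem_cons.2 ⟨h13, List.forall_mem_cons.2 ⟨h14,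
    List.forall_mem_cons.2 ⟨h15, List.forall_mem_cons.2 ⟨h16, List.forall_mem_cons.2 ⟨h17, List.forall_mem_cons.2
    ⟨h18, List.forall_mem_cons.2 ⟨h19, List.forall_mem_cons.2 ⟨h20, List.forall_mem_cons.2 ⟨h21,
    List.forall_mem_cons.2 ⟨h22, List.forall_mem_cons.2 ⟨h23, List.forall_mem_cons.2 ⟨h24, List.forall_mem_cons.2
    ⟨h25, List.forall_mem_cons.2 ⟨h26, List.forall_mem_cons.2 ⟨h27, List.forall_mem_cons.2 ⟨h28,
    List.forall_mem_cons.2 ⟨h29, List.forall_mem_cons.2 ⟨h30, List.forall_mem_cons.2 ⟨h31, List.forall_mem_cons.2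
    ⟨h32, List.forall_mem_cons.2 ⟨h33, List.forall_mem_cons.2 ⟨h34, List.forall_mem_cons.2 ⟨h35,
    List.forall_mem_cons.2 ⟨h36, List.forall_mem_cons.2 ⟨h37, List.forall_mem_cons.2 ⟨h38, List.forall_mem_cons.2
    ⟨h39, List.forall_mem_cons.2 ⟨h40, List.forall_mem_cons.2 ⟨h41, List.forall_mem_cons.2 ⟨h42,
    List.forall_mem_cons.2 ⟨h43, List.forall_mem_cons.2 ⟨h44, List.forall_mem_cons.2 ⟨h45, List.forall_mem_cons.2
    ⟨h46, List.forall_mem_cons.2 ⟨h47, List.forall_mem_cons.2 ⟨h48, List.forall_mem_cons.2 ⟨h49,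
    List.forall_mem_cons.2 ⟨h50, List.forall_mem_cons.2 ⟨h51, List.forall_mem_cons.2 ⟨h52, List.forall_mem_cons.2
    ⟨h53, List.forall_mem_cons.2 ⟨h54, List.forall_mem_cons.2 ⟨h55, List.forall_mem_cons.2 ⟨h56,
    List.forall_mem_cons.2 ⟨h57, List.forall_mem_cons.2 ⟨h58, List.forall_mem_cons.2 ⟨h59, List.forall_mem_cons.2
    ⟨h60, List.forall_mem_cons.2 ⟨h61, List.forall_mem_cons.2 ⟨h62, List.forall_mem_cons.2 ⟨h63,
    List.forall_mem_cons.2 ⟨h64, List.forall_mem_cons.2 ⟨h65, List.forall_mem_cons.2 ⟨h66, List.forall_mem_cons.2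
    ⟨h67, List.forall_mem_cons.2 ⟨h68, List.forall_mem_cons.2 ⟨h69, List.forall_mem_cons.2 ⟨h70,
    List.forall_mem_cons.2 ⟨h71, List.forall_mem_cons.2 ⟨h72, List.forall_mem_cons.2 ⟨h73, List.forall_mem_cons.2
    ⟨h74, List.forall_mem_cons.2 ⟨h75, List.forall_mem_cons.2 ⟨h76, List.forall_mem_cons.2 ⟨h77,
    List.forall_mem_cons.2 ⟨h78, List.forall_mem_cons.2 ⟨h79, List.forall_mem_cons.2 ⟨h80, List.forall_mem_cons.2
    ⟨h81, List.forall_mem_cons.2 ⟨h82, List.forall_mem_cons.2 ⟨h83, List.forall_mem_cons.2 ⟨h84,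
    List.forall_mem_cons.2 ⟨h85, List.forall_mem_cons.2 ⟨h86, List.forall_mem_cons.2 ⟨h87, List.forall_mem_cons.2
    ⟨h88, List.forall_mem_cons.2 ⟨h89, List.forall_mem_cons.2 ⟨h90, List.forall_mem_cons.2 ⟨h91,
    List.forall_mem_cons.2 ⟨h92, List.forall_mem_cons.2 ⟨h93, List.forall_mem_cons.2 ⟨h94, List.forall_mem_cons.2
    ⟨h95, List.forall_mem_cons.2 ⟨h96, List.forall_mem_cons.2 ⟨h97, List.forall_mem_cons.2 ⟨h98,
    List.forall_mem_cons.2 ⟨h99, fun _ h => absurd h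
    List.not_mem_nil⟩⟩⟩⟩⟩⟩⟩⟩⟩⟩⟩⟩⟩⟩⟩⟩⟩⟩⟩⟩⟩⟩⟩⟩⟩⟩⟩⟩⟩⟩⟩⟩⟩⟩⟩⟩⟩⟩⟩⟩⟩⟩⟩⟩⟩⟩⟩⟩⟩⟩⟩⟩⟩⟩⟩⟩⟩⟩⟩⟩⟩⟩⟩⟩⟩⟩⟩⟩⟩⟩⟩⟩⟩⟩⟩⟩⟩⟩⟩⟩⟩⟩⟩⟩⟩⟩⟩⟩⟩⟩⟩⟩⟩⟩⟩⟩⟩⟩⟩⟩

theorem allH (D : CD) (h : D ∈ CDl) : HistOk D := allH' D h (allOk D h)

end Cfsg.Agent.TAB.C2B
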