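import Cfsg.Agent.TAB.C2B.Main
import Cfsg.Agent.TAB.Psi.Box

/-!
# The 84 boxes of the Monster with a power in `2B` (helper47)
-/

set_option autoImplicit false
set_option maxRecDepth 100000

namespace Cfsg.Agent.TAB.C2B

open Cfsg.Agent.BpSpor.MBigModel (MG card_M)
open Cfsg.Agent.TAB.M (dat BoxM TyM)
open Cfsg.Agent.TAB.Psi (ixL tyM_hasTy)

/-- the test -/
def okB (i : ℕ) : Bool := (List.range 129).any fun k => ixL.getD k 0 == i && (TT.getD k dT).nz != 0 &&
  dat.cnt i * (2 ^ 25 * 4157776806543360000) == dat.N * (TT.getD k dT).nz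

theorem box_of_okB {i : ℕ} (h : okB i = true) : BoxM i := by
  simp only [okB, List.any_eq_true, List.mem_range, Bool.and_eq_true, beq_iff_eq, bne_iff_ne] at h
  obtain ⟨k, hk, ⟨rfl, h1⟩, h2⟩ := h
  have h3 := mass (TT.getD k dT) (by rw [TT_getD (TT_length ▸ hk)]; exact List.getElem_mem _) h1
  rw [show Nat.card MG = dat.N from card_M, ← h2] at h3
  have h4 := Nat.eq_of_mul_eq_mul_right (by norm_num) h3
  show _ ≤ Nat.card {g : MG // TyM _ g}
  rw [← h4]
  exact (Nat.card_congr (Equiv.subtypeEquivRight fun g => (tyM_hasTy hk g).symm)).le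

/-- the numbers of the 84 types -/
def twoL : List ℕ :=
  [2, 6, 8, 9, 13, 14, 16, 17, 20, 21, 23, 24, 25, 29, 31, 32, 34, 35, 37, 38, 39, 41, 42, 43, 47, 48, 53, 54, 55, 59,
  60, 61, 63, 65, 66, 67, 68, 74, 76, 77, 78, 79, 80, 81, 83, 84, 85, 88, 91, 92, 93, 95, 97, 98, 99, 101, 103, 104,
  110, 111, 113, 119, 120, 123, 124, 125, 126, 128, 131, 135, 138, 139, 143, 144, 145, 146, 147, 150, 154, 157, 159,
  160, 162, 163]

theorem twoL_ok : twoL.all okB = true := by decide +kernel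

/-- **the 84 boxes** -/
theorem boxes_two : ∀ i ∈ twoL, BoxM i := fun i hi => box_of_okB (List.all_eq_true.1 twoL_ok i hi)

end Cfsg.Agent.TAB.C2B
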