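import Cfsg.Agent.TAB.C2B.Fix
import Cfsg.Agent.H123.Cls.LWd
import Cfsg.Agent.H68.CoInst

/-!
# The enumeration of a coset of `2^(1+24)` : the check of a class (helper47)

`CD` : the data of a class of `Co1`; `chkD`, `ClsOk`; `ix` : the number of the signature; `chkC` : the count; `Raw`, `ix_spec`.
-/

set_option autoImplicit false
set_option maxRecDepth 100000

namespace Cfsg.Agent.TAB.C2B

open Cfsg Cfsg.Agent.Monster Cfsg.Agent.MonsterX
open Cfsg.Agent.Monster.PauliBasic Cfsg.Agent.Monster.PauliClif Cfsg.Agent.Monster.PauliRep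
open Cfsg.Agent.Monster.PauliBits (bit)
open Cfsg.Agent.Monster.VecEngine (Pl val)
open Cfsg.Agent.Monster.LevelSets (lin lin_sound linVal)
open Cfsg.Agent.H123.Cls
open Cfsg.Agent.Lib.BitNetSimple (force force_eq)
open Cfsg.Agent.Lib.BitNet (value)
open Cfsg.Agent.H264.TC.NoReal39 (CL)
open Cfsg.Agent.MonsterX.LaneLab (XL)
open Cfsg.Agent.MonsterX.LaneVec (lv idxL lt_of_XL)
open Cfsg.Agent.H68.CoMdl (L L_mul L_one L_lt faith val_lt ga gb L_ga L_gb)
open Cfsg.Agent.H68.CoGen (gA gB)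
open Cfsg.Agent.H831.FF (mat)
open Cfsg.Agent.H155.TC.Pau (tr)
open Cfsg.Agent.BpSpor.MBigModel (MG zz)
open Finset

/-- the data of a class -/
structure CD where
  /-- the class -/
  d : Ent
  /-- order -/
  o : ℕ
  /-- first power -/
  L1 : LD
  /-- other powers -/
  lv : List LD
  /-- position of the power `o` -/
  top : ℕ
  /-- addition chain -/
  ins : List (ℕ × ℕ)
  /-- trace of the cube -/
  a3 : ℤ
  /-- test vector -/
  cw : List ℕ
  /-- test vector -/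
  xw : Pl
  /-- difference with the image -/
  xu : Pl
  /-- number of the fixed short vectors up to the sign -/
  np : ℕ
  /-- signatures -/
  sg : List (List ℕ)
  /-- types -/
  ty : List ℕ
  /-- the power is `z` -/
  fl : List Bool
  /-- multiplicities -/
  cn : List ℕ

/-- the powers -/
def CD.rl (D : CD) : List LD := (D.L1 :: D.lv).reverse

/-- the element -/
noncomputable def CD.A (D : CD) : Co0 := wG gA gB D.d.x D.d.w

/-- twice the trace -/
def val2 (L : LD) (x : ℕ) : ℤ := L.a * L.a + L.a2 + 2 * ((L.n : ℤ) - 2 * (x / 4 : ℕ)) + 2 * tv (x % 4) L.h * L.a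

/-- order of the power `o` -/
def ocF (D : CD) (σ : List ℕ) : ℕ :=
  if σ.getD 1 0 = 0 then (if val2 (D.rl.getD D.top dL) (σ.getD (D.top + 2) 0) = 393768 then 1 else 2) else 2 * σ.getD 1 0

/-- default -/
def dT : TyD := ⟨0, [], 0, 0⟩

/-- the type of a signature -/
def chkT (D : CD) (σ : List ℕ) (i : ℕ) (f : Bool) : Bool :=
  decide (i < 129) && (TT.getD i dT).ord == ocF D σ * D.o &&
    ((TT.getD i dT).val.all fun p => (ocF D σ == 4 && p.1 == 2 * D.o && p.2 == 276) ||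
      (D.rl.zip (σ.drop 2)).any fun q => q.1.d == p.1 && val2 q.1 q.2 == 2 * p.2) &&
    f == ((σ.getD 1 0 == 0 && ocF D σ == 2) || σ.getD 1 0 == 2)

/-- the order -/
def chkO (D : CD) : Bool :=
  decide (2 ≤ D.o) && decide (D.top < D.rl.length) && (D.rl.getD D.top dL).d == D.o && (D.rl.getD D.top dL).b == unL &&
    (D.rl.getD D.top dL).Rd == unL &&
    (List.range D.o).all fun d => d == 0 || D.o % d != 0 || D.rl.any fun L => L.d == d && L.Rd != unL

/-- the matrices -/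
noncomputable def chkI (D : CD) : Bool :=
  evM D.d.w D.d.x fun l => force (trF l 0) fun t => band (chkU D.cw D.xw D.xu l)
    (chain D.ins [1] [l] [t] fun es ts => band (hasT 3 D.a3 es ts)
      ((D.L1 :: D.lv).all fun L => band (hasT L.d L.a es ts) (hasT (Nat.mul 2 L.d) L.a2 es ts)))

/-- all tests -/
noncomputable def chkD (D : CD) : Bool :=
  fB (cmb 18 13) fun M => band (Nat.beq (lenF D.d.R) 24) (band (allI (fun _ x => Nat.blt x 16777216) D.d.R 0)
    (band (chkA CL XL M D.d.R D.L1.b (D.L1 :: D.lv) [] 0) (band (chkO D) (band (chkI D)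
      (band (lin 131072 idxL D.xw (.sgn 0) fun y => fB (nzM y) fun z => Nat.beq (mkQ CL XL D.L1 z).Fx 0)
        (band (lin 131072 idxL D.xu (.sgn 0) fun y => fB (nzM y) fun z => Nat.beq (popS 18 M (mkQ CL XL D.L1 z).Fx) D.np)
          ((List.range D.sg.length).all fun j => chkT D (D.sg.getD j []) (D.ty.getD j 0) (D.fl.getD j false))))))))

/-- the data are correct -/
structure ClsOk (D : CD) : Prop where
  hR : ∀ c, L (QuotientGroup.mk D.A) c = xc D.d.R c
  len : D.d.R.length = 24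
  all : AllOk D.d.R D.L1.b [] (D.L1 :: D.lv)
  two : 2 ≤ D.o
  top_lt : D.top < D.rl.length
  top_d : (D.rl.getD D.top dL).d = D.o
  top_b : (D.rl.getD D.top dL).b = unL
  ord : orderOf (QuotientGroup.mk D.A : Spor.Co1) = D.o
  tr : ∀ L ∈ D.rl, (mat (D.A ^ L.d)).trace = L.a ∧ (mat (D.A ^ (2 * L.d))).trace = L.a2
  tr3 : (mat (D.A ^ 3)).trace = D.a3
  fp : FpOk D.A (fpM D.A)
  np : cnt (fpM D.A) = D.np
  mask : ∀ y : Pl, (∀ i < 131072, val y i = linVal idxL D.xu i) → (mkQ CL XL D.L1 (nzM y)).Fx = fpM D.A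
  ty : ∀ j < D.sg.length, chkT D (D.sg.getD j []) (D.ty.getD j 0) (D.fl.getD j false) = true

theorem mk_wG : ∀ (w : List Bool) (x : Bool), (QuotientGroup.mk (wG gA gB x w) : Spor.Co1) = wG ga gb x w
  | [], x => by cases x <;> rfl
  | y :: w, x => by
    rw [wG, wG, QuotientGroup.mk_mul, mk_wG w y]
    cases x <;> rfl

theorem L_pow (a : Spor.Co1) : ∀ (d : ℕ), ∀ c < 2 ^ 24, L (a ^ d) c = (L a)^[d] c
  | 0, c, hc => by rw [pow_zero, L_one c hc]; rfl
  | d + 1, c, _ => by rw [pow_succ, L_mul, Function.iterate_succ_apply, L_pow a d _ (L_lt a c)]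

theorem AllOk.rd {R b1 : List ℕ} : ∀ {l done : List LD}, AllOk R b1 done l → ∀ L ∈ l,
    L.Rd.length = 24 ∧ ∀ c < 2 ^ 24, (xc R)^[L.d] c = xc L.Rd c
  | [], _, _, _, h => absurd h List.not_mem_nil
  | _ :: _, _, hA, L, h => by
    rcases List.mem_cons.1 h with rfl | h
    · exact ⟨hA.1.rl, hA.1.rd⟩
    · exact AllOk.rd hA.2 L h

theorem LvOk.d_one {R b1 : List ℕ} {L : LD} (h : LvOk R b1 [] L) : L.d = 1 := by
  rcases h.md with h1 | h1 | h1
  · exact h1.2
  · exact absurd h1.2.1 (by simp)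
  · exact absurd h1.2.2.2.1 (by simp)

theorem lin_zero {x : Pl} {k : Pl → Bool} (h : lin 131072 idxL x (.sgn 0) k = true) :
    ∃ y, (∀ i < 131072, val y i = linVal idxL x i) ∧ k y = true := by
  obtain ⟨y, h1, h2⟩ := lin_sound h
  refine ⟨y, fun i hi => ?_, h2⟩
  rw [h1 i hi, VecEngine.val_sgn]
  simp [VecEngine.bt]

theorem mkQ_Fx (L : LD) (z : ℕ) : (mkQ CL XL L z).Fx = fxM CL XL L.Rd ^^^ (fxM CL XL L.Rd &&& z) :=
  fB_eq (fxM CL XL L.Rd) fun f => Nat.xor f (Nat.land f z)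

theorem chkD_spec {D : CD} (hd : D.d ∈ CoD.Dl) (h : chkD D = true) : ClsOk D := by
  have hR : ∀ c, L (QuotientGroup.mk D.A) c = xc D.d.R c := by
    rw [CD.A, mk_wG]
    exact H68.CoMdl.S1.of_chkWd L_ga L_gb (CoD.allW _ hd)
  have hlt : ∀ c, xc D.d.R c < 2 ^ 24 := fun c => by rw [← hR]; exact L_lt _ _
  have hfun : L (QuotientGroup.mk D.A) = xc D.d.R := funext hR
  unfold chkD at h
  rw [fB_eq] at h
  obtain ⟨h1, h⟩ := band_true h
  obtain ⟨-, h⟩ := band_true h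
  obtain ⟨h3, h⟩ := band_true h
  obtain ⟨h4, h⟩ := band_true h
  obtain ⟨h5, h⟩ := band_true h
  obtain ⟨h6, h⟩ := band_true h
  obtain ⟨h7, h8⟩ := band_true h
  have e1 : D.d.R.length = 24 := by rw [← lenF_eq]; exact Nat.eq_of_beq_eq_true h1
  have hA : AllOk D.d.R D.L1.b [] (D.L1 :: D.lv) := chkA_spec e1 hlt _ [] (fun i hi => absurd hi (by simp)) h3
  have hrl : ∀ L ∈ D.rl, L ∈ D.L1 :: D.lv := fun L hL => List.mem_reverse.1 hL
  simp only [chkO, Bool.and_eq_true, decide_eq_true_iff, beq_iff_eq, List.all_eq_true, List.mem_range, Bool.or_eq_true,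
    bne_iff_ne, List.any_eq_true] at h4
  obtain ⟨⟨⟨⟨⟨o1, o2⟩, o3⟩, o4⟩, o5⟩, o6⟩ := h4
  have hpow : ∀ L ∈ D.rl, ∀ k < 24, H68.CoMdl.L ((QuotientGroup.mk D.A : Spor.Co1) ^ L.d) (2 ^ k) = L.Rd.getD k 0 := by
    intro L hL k hk
    have h2 : 2 ^ k < 2 ^ 24 := Nat.pow_lt_pow_right (by norm_num) hk
    rw [L_pow _ _ _ h2, hfun, (hA.rd L (hrl L hL)).2 _ h2, xc_two_pow]
  have hmem : D.rl.getD D.top dL ∈ D.rl := by
    rw [List.getD_eq_getElem _ _ o2]
    exact List.getElem_mem _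
  have ho : (QuotientGroup.mk D.A : Spor.Co1) ^ D.o = 1 := faith _ fun k hk => by
    rw [← o3, hpow _ hmem k hk, o5, unL_getD k hk]
  have hord : orderOf (QuotientGroup.mk D.A : Spor.Co1) = D.o := by
    have a1 := orderOf_dvd_of_pow_eq_one ho
    have a2 := Nat.le_of_dvd (by omega) a1
    by_contra a3
    rcases o6 _ (lt_of_le_of_ne a2 a3) with (a4 | a4) | ⟨L, hL, a4, a5⟩
    · rw [a4] at a1
      have := Nat.eq_zero_of_zero_dvd a1
      omega
    · exact a4 (Nat.mod_eq_zero_of_dvd a1)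
    · apply a5
      refine List.ext_getElem ((hA.rd L (hrl L hL)).1.trans rfl) fun k hk hk' => ?_
      have hk2 : k < 24 := hk'
      rw [← List.getD_eq_getElem _ 0, ← List.getD_eq_getElem _ 0, ← hpow L hL k hk2, a4, pow_orderOf_eq_one, unL_getD k hk2,
        L_one _ (Nat.pow_lt_pow_right (by norm_num) hk2)]
  obtain ⟨l, m1, m2⟩ := evM_spec D.d.w D.d.x
  rw [chkI, m2, force_eq] at h5
  obtain ⟨m3, m4⟩ := band_true h5
  obtain ⟨es, ts, m5, m6⟩ := chain_spec D.A _ _ _ _ _ (fun i hi => by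
    have : i = 0 := by simpa using hi
    subst this
    simp only [List.getD_cons_zero, pow_one]
    exact ⟨m1, m1.trace⟩) m4
  obtain ⟨m7, m8⟩ := band_true m5
  rw [List.all_eq_true] at m8
  have hU := chkU_spec m1 m3
  have hF : ∀ j, (fxM CL XL D.L1.Rd).testBit j = true ↔
      XL.testBit j = true ∧ L (QuotientGroup.mk D.A) (value CL j) = value CL j := by
    intro j
    rw [hA.1.fx, hA.1.d_one, hfun]
    rfl
  obtain ⟨y, y1, y2⟩ := lin_zero h6
  rw [fB_eq, mkQ_Fx] at y2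
  have hw : ∀ j, (fxM CL XL D.L1.Rd).testBit j = true → linVal idxL D.xw j ≠ 0 := by
    intro j hj h0
    have a1 : (nzM y).testBit j = false := by rw [nzM_spec, y1 j (lt_of_XL ((hF j).1 hj).1), h0]
    have a2 := congrArg (fun x => x.testBit j) (Nat.eq_of_beq_eq_true y2)
    simp only [Nat.testBit_xor, Nat.testBit_and, hj, a1, Nat.zero_testBit] at a2
    exact absurd a2 (by decide)
  have hmask : ∀ y : Pl, (∀ i < 131072, val y i = linVal idxL D.xu i) → FpOk D.A (mkQ CL XL D.L1 (nzM y)).Fx :=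
    fun y hy => by rw [mkQ_Fx]; exact fpOk_of hU hF hw hy
  obtain ⟨z, z1, z2⟩ := lin_zero h7
  have z3 := hmask z z1
  rw [fB_eq, popS_18 fun i hi => XL_lt ((z3 i).1 hi).1, z3.fpM_eq] at z2
  refine ⟨hR, e1, hA, o1, o2, o3, o4, hord, fun L hL => ?_, hasT_spec es ts m6 m7, z3.fpM_eq ▸ z3,
    Nat.eq_of_beq_eq_true z2, fun y hy => (hmask y hy).fpM_eq, fun j hj => ?_⟩
  · obtain ⟨a1, a2⟩ := band_true (m8 L (hrl L hL))
    exact ⟨hasT_spec es ts m6 a1, hasT_spec es ts m6 a2⟩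
  · exact List.all_eq_true.1 h8 j (List.mem_range.2 hj)

/-! ### the signature -/

/-- the mask -/
noncomputable def CD.Q (D : CD) : PL := ⟨D.L1, fpM D.A, cmb D.L1.pw D.L1.pk, 0, 0⟩

/-- the number of the signature -/
noncomputable def ix (D : CD) (η t : ℕ) : ℕ :=
  ixF CL (cmb 18 13) ((D.L1 :: D.lv).map (mkPL CL XL)) D.Q D.top D.sg η t

/-- the count -/
noncomputable def chkC (D : CD) (k b H : ℕ) : Bool :=
  lin 131072 idxL D.xu (.sgn 0) fun y => fB (nzM y) fun z => Nat.beq (cntF CL XL D.L1 D.lv D.top D.sg z k b) H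

theorem chkC_spec {D : CD} (hD : ClsOk D) {k b H : ℕ} (h : chkC D k b H = true) :
    ∑ i ∈ range (2 ^ k), ((2 ^ 20) ^ ix D 1 (b + i) + (2 ^ 20) ^ ix D 2 (b + i)) = H := by
  obtain ⟨y, h1, h2⟩ := lin_zero h
  have h3 : mkQ CL XL D.L1 (nzM y) = D.Q := by
    have h4 := hD.mask y h1
    unfold CD.Q
    rw [← h4]
    rfl
  rw [fB_eq, cntF, fB_eq, prep_eq, sumT_eq, h3] at h2
  rw [← Nat.eq_of_beq_eq_true h2]
  refine sum_congr rfl fun i _ => ?_
  show _ = 1 <<< (20 * _) + 1 <<< (20 * _)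
  rw [Nat.shiftLeft_eq, Nat.shiftLeft_eq, one_mul, one_mul, pow_mul, pow_mul]
  rfl

/-- the meaning of a signature -/
structure Raw (D : CD) (σ : List ℕ) (α : Pauli 12 ≃* Pauli 12) (T : (B 12 → ℚ) ≃ₗ[ℚ] (B 12 → ℚ)) : Prop where
  lv : ∀ i < D.rl.length, tr (T ^ (D.rl.getD i dL).d) = tv (σ.getD (i + 2) 0 % 4) (D.rl.getD i dL).h ∧
    sS (α ^ (D.rl.getD i dL).d) = ((D.rl.getD i dL).n : ℚ) - 2 * (σ.getD (i + 2) 0 / 4 : ℕ)
  q : ∃ e < 2 ^ 24, Sv (α ^ D.o) e ∧ σ.getD 1 0 = qcF e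
  so : sO D.A α = 2 * ((D.np : ℚ) - 2 * (σ.getD 0 0 : ℕ)) - sS α

theorem ClsOk.ind {D : CD} (hD : ClsOk D) {k : MG} {α : Pauli 12 ≃* Pauli 12} {T : (B 12 → ℚ) ≃ₗ[ℚ] (B 12 → ℚ)}
    (h : Ac k D.A α T) : Ind α (xc D.d.R) := by
  have := ind_of_compat h.compat
  rwa [funext hD.hR] at this

theorem ix_le (D : CD) (hD : ClsOk D) {k : MG} {α : Pauli 12 ≃* Pauli 12} {T : (B 12 → ℚ) ≃ₗ[ℚ] (B 12 → ℚ)}
    (h : Ac k D.A α T) {s η : ℕ} (hs : Sv α s) (hη : Val η T) : ix D η (lam D.L1.b s) ≤ D.sg.length ∧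
    (ix D η (lam D.L1.b s) < D.sg.length → Raw D (D.sg.getD (ix D η (lam D.L1.b s)) []) α T) := by
  have hI := hD.ind h
  obtain ⟨es, ts, out, h1, h2⟩ := sgF_spec hI hs h.cl hη _ [] [] [] [] hD.all fun i hi => absurd hi (by simp)
  rw [List.append_nil] at h2
  have e : ix D η (lam D.L1.b s) = idxF (sN CL D.Q (D.L1.w ^^^ xc D.L1.La (lam D.L1.b s)) :: qcF (es.getD D.top 0) :: out)
      D.sg := by
    rw [ix, ixF, h1, force_eq, force_eq, force_eq, force_eq, nth_eq, xF_eq]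
    rfl
  rw [e]
  refine ⟨idxF_le _ _, fun hj => ?_⟩
  rw [idxF_spec _ _ hj]
  refine ⟨fun i hi => ?_, ?_, ?_⟩
  · have h3 := h2 i hi
    simp only [List.getD_cons_succ]
    rw [h3.x1]
    exact ⟨h3.tr, h3.x2⟩
  · have h3 := (h2 _ hD.top_lt).sg
    have h4 : Sg (α ^ D.o) unL (es.getD D.top 0) := by
      rw [← hD.top_d, ← hD.top_b]
      exact h3
    exact ⟨_, h4.1, fun k hk => by rw [← unL_getD k hk]; exact h4.2 k hk, rfl⟩
  · have hL := hD.all.1
    have he := hL.sg α s hI hs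
    have hb := hL.bs
    rw [hL.d_one, pow_one] at he
    rw [hL.d_one, Function.iterate_one] at hb
    have hsub : ∀ j, (fpM D.A).testBit j = true → XL.testBit j = true ∧ xc D.d.R (value CL j) = value CL j := by
      intro j hj
      obtain ⟨a1, a2⟩ := (hD.fp j).1 hj
      exact ⟨a1, by rw [← hD.hR]; exact fix_code a1 a2⟩
    have hle : cnt (fpM D.A) ≤ D.L1.n := by
      rw [← hL.n]
      refine sum_le_sum fun j _ => ?_
      cases h3 : (fpM D.A).testBit j
      · exact Nat.zero_le _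
      · have h4 := (hL.fx j).2 (by rw [hL.d_one]; exact hsub j h3)
        rw [h4]
    have h3 := sum_sN (P := D.Q) rfl hL.pw hL.pk (fun i hi => XL_lt (hsub i hi).1) (lt_of_le_of_lt hle hL.nl)
      (D.L1.w ^^^ xc D.L1.La (lam D.L1.b s))
    have h4 : cnt D.Q.Fx = D.np := hD.np
    rw [h4] at h3
    rw [sO_eq hD.fp, List.getD_cons_zero, ← h3]
    refine congrArg (fun x => 2 * x - sS α) (sum_congr rfl fun j _ => ?_)
    show _ = if (fpM D.A).testBit j = true then _ else 0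
    split_ifs with h5
    · rw [hI.phi_eq (val_lt j) (hb.r_lt _ (val_lt j)), if_pos (hsub j h5).2, hb.sv_fix hI he (val_lt j) (hsub j h5).2]
      rfl
    · rfl

end Cfsg.Agent.TAB.C2B
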