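import Cfsg.Agent.TAB.C2B.Pau
import Cfsg.Agent.H123.Cls.LRun
import Cfsg.Agent.Monster.PauliBits

/-!
# Automorphisms of `2^(1+24)` on codes (helper47)

`pc c` : the element with code `c`; `Ind α R` : `α` acts on the codes by the matrix `R`; `sv α c` : the sign;
`Ind.orb` : the sign of `α ^ d`.
-/

set_option autoImplicit false
set_option maxRecDepth 100000

namespace Cfsg.Agent.TAB.C2B

open Cfsg.Agent.Monster.PauliBasic Cfsg.Agent.Monster.PauliClif
open Cfsg.Agent.Monster.PauliBits (bit bit_xor bit_and bit_shiftRight bit_zero bit_eq_zero_of_lt par32 bit_par32)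
open Cfsg.Agent.H123.Cls
open Cfsg.Agent.Lib.BitNetSimple (force force_eq)
open Cfsg.Agent.Lib.BitNet (value)
open Finset

/-- the element of a code -/
def pc (c : ℕ) : Pauli 12 := ⟨0, fun k => bit c (12 + k), fun k => bit c k⟩

/-- scalar product -/
def dt (a b : ℕ) : ZMod 2 := ∑ k ∈ range 24, bit a k * bit b k

/-- parity of the low bits -/
def p12 (x : ℕ) : ZMod 2 := ∑ k ∈ range 12, bit x k

/-- the cocycle -/
def bt (a b : ℕ) : ZMod 2 := p12 (a &&& (b >>> 12))

theorem p12_xor (x y : ℕ) : p12 (x ^^^ y) = p12 x + p12 y := by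
  unfold p12
  rw [← sum_add_distrib]
  exact sum_congr rfl fun k _ => bit_xor x y k

theorem p12_zero : p12 0 = 0 := by simp [p12]

theorem dt_xor (s a b : ℕ) : dt s (a ^^^ b) = dt s a + dt s b := by
  unfold dt
  rw [← sum_add_distrib]
  exact sum_congr rfl fun k _ => by rw [bit_xor, mul_add]

theorem dt_comm (a b : ℕ) : dt a b = dt b a := sum_congr rfl fun _ _ => mul_comm _ _

theorem dt_xor_left (a b s : ℕ) : dt (a ^^^ b) s = dt a s + dt b s := by rw [dt_comm, dt_xor, dt_comm s, dt_comm s]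

theorem dt_zero (s : ℕ) : dt s 0 = 0 := by simp [dt]

theorem bit_two_pow (j k : ℕ) : bit (2 ^ j) k = if j = k then 1 else 0 := by
  unfold bit
  rw [Nat.testBit_two_pow]
  simp

theorem dt_two_pow (s : ℕ) {j : ℕ} (hj : j < 24) : dt s (2 ^ j) = bit s j := by
  unfold dt
  rw [sum_eq_single j]
  · rw [bit_two_pow, if_pos rfl, mul_one]
  · intro k _ hk
    rw [bit_two_pow, if_neg (Ne.symm hk), mul_zero]
  · intro h
    exact absurd (mem_range.2 hj) h

theorem bt_eq (a b : ℕ) : (pc a).b ⬝ᵥ (pc b).a = bt a b := by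
  unfold bt p12 dotProduct
  rw [sum_range]
  refine sum_congr rfl fun k _ => ?_
  rw [bit_and, bit_shiftRight]
  rfl

theorem pc_a_xor (a b : ℕ) : (pc (a ^^^ b)).a = (pc a).a + (pc b).a := funext fun _ => bit_xor _ _ _

theorem pc_b_xor (a b : ℕ) : (pc (a ^^^ b)).b = (pc a).b + (pc b).b := funext fun _ => bit_xor _ _ _

/-- with sign -/
def ps (t : ZMod 2) (c : ℕ) : Pauli 12 := ⟨t, (pc c).a, (pc c).b⟩

theorem ps_mul (t u : ZMod 2) (a b : ℕ) : ps t a * ps u b = ps (t + u + bt a b) (a ^^^ b) := by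
  apply Pauli.ext
  · show t + u + (pc a).b ⬝ᵥ (pc b).a = _
    rw [bt_eq]
    rfl
  · exact (pc_a_xor a b).symm
  · exact (pc_b_xor a b).symm

theorem ps_zero (c : ℕ) : ps 0 c = pc c := rfl

theorem ps_zero_zero : ps 0 0 = 1 := by
  apply Pauli.ext
  · rfl
  · funext k; exact bit_zero _
  · funext k; exact bit_zero _

theorem ps_one_zero : ps 1 0 = Pauli.z 12 := by
  apply Pauli.ext
  · rfl
  · funext k; exact bit_zero _
  · funext k; exact bit_zero _

theorem bt_zero_left (c : ℕ) : bt 0 c = 0 := by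
  unfold bt
  rw [Nat.zero_and, p12_zero]

theorem ps_add (t u : ZMod 2) (c : ℕ) : ps t 0 * ps u c = ps (t + u) c := by
  rw [ps_mul, bt_zero_left, add_zero, Nat.zero_xor]

theorem aut_ps (α : Pauli 12 ≃* Pauli 12) (t : ZMod 2) : α (ps t 0) = ps t 0 := by
  rcases zmod2_cases t with rfl | rfl
  · rw [ps_zero_zero, map_one]
  · rw [ps_one_zero, aut_z]

theorem bit_inj {a b k : ℕ} (h : bit a k = bit b k) : a.testBit k = b.testBit k := by
  unfold bit at h
  cases ha : a.testBit k <;> cases hb : b.testBit k <;> rw [ha, hb] at h <;> first | rfl | exact absurd h (by decide)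

theorem eq_of_bit {a b m : ℕ} (ha : a < 2 ^ m) (hb : b < 2 ^ m) (h : ∀ k < m, bit a k = bit b k) : a = b := by
  apply Nat.eq_of_testBit_eq
  intro i
  rcases Nat.lt_or_ge i m with hi | hi
  · exact bit_inj (h i hi)
  · rw [Nat.testBit_eq_false_of_lt (lt_of_lt_of_le ha (Nat.pow_le_pow_right (by norm_num) hi)),
      Nat.testBit_eq_false_of_lt (lt_of_lt_of_le hb (Nat.pow_le_pow_right (by norm_num) hi))]

theorem ab_pc_inj {a b : ℕ} (ha : a < 2 ^ 24) (hb : b < 2 ^ 24) (h : ab (pc a) = ab (pc b)) : a = b := by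
  refine eq_of_bit ha hb fun k hk => ?_
  rcases Nat.lt_or_ge k 12 with h1 | h1
  · exact congrFun (congrArg Prod.snd h) ⟨k, h1⟩
  · have h2 := congrFun (congrArg Prod.fst h) ⟨k - 12, by omega⟩
    have h3 : 12 + (k - 12) = k := by omega
    have h4 : bit a (12 + (k - 12)) = bit b (12 + (k - 12)) := h2
    rwa [h3] at h4

/-! ### bits of linear combinations -/

theorem bit_cond (t : Bool) (x k : ℕ) : bit (bif t then x else 0) k = (if t then 1 else 0) * bit x k := by
  cases t <;> simp

theorem bit_xc : ∀ (l : List ℕ) (c i : ℕ), bit (xc l c) i = ∑ k ∈ range l.length, bit c k * bit (l.getD k 0) i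
  | [], c, i => by simp [xc]
  | C :: Cs, c, i => by
    rw [xc, bit_xor, bit_xc Cs, List.length_cons, sum_range_succ', add_comm, bit_cond]
    congr 1
    refine sum_congr rfl fun k _ => ?_
    rw [bit_shiftRight, add_comm 1 k, List.getD_cons_succ]

theorem bit_value (l : List ℕ) (i k : ℕ) : bit (value l i) k = bit (l.getD k 0) i := by
  unfold bit
  rw [testBit_value]

/-- planes -/
theorem bit_xc_value {l : List ℕ} (hl : l.length = 24) (c i : ℕ) : bit (xc l c) i = dt c (value l i) := by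
  rw [bit_xc, hl]
  exact sum_congr rfl fun k _ => by rw [bit_value]

theorem dt_xc (l : List ℕ) (e c : ℕ) : dt (xc l e) c = ∑ k ∈ range l.length, bit e k * dt (l.getD k 0) c := by
  unfold dt
  simp only [bit_xc, sum_mul, mul_sum]
  rw [sum_comm]
  exact sum_congr rfl fun k _ => sum_congr rfl fun j _ => by ring

/-! ### products -/

/-- product of the selected elements -/
def prodP : List (Pauli 12) → ℕ → Pauli 12
  | [], _ => 1
  | p :: l, c => (bif c.testBit 0 then p else 1) * prodP l (c >>> 1)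

theorem prodP_realised : True := by have := @prodP.eq_def; trivial

theorem map_prodP (α : Pauli 12 ≃* Pauli 12) : ∀ (l : List (Pauli 12)) (c : ℕ), α (prodP l c) = prodP (l.map α) c
  | [], _ => map_one α
  | p :: l, c => by
    rw [List.map_cons, prodP, prodP, map_mul, map_prodP α l]
    cases c.testBit 0
    · simp
    · simp

theorem prodP_app : ∀ (l l' : List (Pauli 12)) (c : ℕ), prodP (l ++ l') c = prodP l c * prodP l' (c >>> l.length)
  | [], l', c => by rw [List.nil_append, prodP, one_mul, List.length_nil, Nat.shiftRight_zero]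
  | p :: l, l', c => by
    rw [List.cons_append, prodP, prodP, prodP_app l l', List.length_cons, mul_assoc, ← Nat.shiftRight_add, add_comm 1]

theorem prodP_a : ∀ (l : List (Pauli 12)) (c : ℕ), (∀ p ∈ l, p.s = 0 ∧ p.a = 0) → (prodP l c).s = 0 ∧ (prodP l c).a = 0
  | [], _, _ => ⟨rfl, rfl⟩
  | p :: l, c, h => by
    obtain ⟨h1, h2⟩ := prodP_a l (c >>> 1) fun q hq => h q (List.mem_cons_of_mem _ hq)
    obtain ⟨h3, h4⟩ := h p List.mem_cons_self
    rw [prodP]
    cases c.testBit 0
    · simp [h1, h2]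
    · simp [h1, h2, h3, h4]

theorem prodP_b : ∀ (l : List (Pauli 12)) (c : ℕ), (∀ p ∈ l, p.s = 0 ∧ p.b = 0) → (prodP l c).s = 0 ∧ (prodP l c).b = 0
  | [], _, _ => ⟨rfl, rfl⟩
  | p :: l, c, h => by
    obtain ⟨h1, h2⟩ := prodP_b l (c >>> 1) fun q hq => h q (List.mem_cons_of_mem _ hq)
    obtain ⟨h3, h4⟩ := h p List.mem_cons_self
    rw [prodP]
    cases c.testBit 0
    · simp [h1, h2]
    · simp [h1, h2, h3, h4]

/-- the accumulated cocycle -/
def tq : List ℕ → ℕ → ℕ → ℕ
  | [], _, _ => 0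
  | C :: l, c, acc => bif c.testBit 0 then (acc &&& (C >>> 12)) ^^^ tq l (c >>> 1) (acc ^^^ C) else tq l (c >>> 1) acc

theorem tq_realised : True := by have := @tq.eq_def; trivial

theorem prodP_eq : ∀ (l : List ℕ) (P : List (Pauli 12)) (s c acc : ℕ) (t : ZMod 2), P.length = l.length →
    (∀ k < l.length, P.getD k 1 = ps (bit s k) (l.getD k 0)) →
    ps t acc * prodP P c = ps (t + ∑ k ∈ range l.length, bit s k * bit c k + p12 (tq l c acc)) (acc ^^^ xc l c)
  | [], P, s, c, acc, t, hP, _ => by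
    rw [List.length_nil, List.length_eq_zero_iff] at hP
    subst hP
    simp [prodP, tq, xc, p12_zero]
  | C :: l, [], _, _, _, _, hP, _ => by simp at hP
  | C :: l, p :: P, s, c, acc, t, hP, h => by
    have h0 : p = ps (bit s 0) C := h 0 (by simp)
    have h1 : ∀ k < l.length, P.getD k 1 = ps (bit (s >>> 1) k) (l.getD k 0) := by
      intro k hk
      have := h (k + 1) (by simpa using hk)
      rw [List.getD_cons_succ, List.getD_cons_succ] at this
      rw [this, bit_shiftRight, add_comm 1 k]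
    have h2 : ∑ k ∈ range (C :: l).length, bit s k * bit c k =
        bit s 0 * bit c 0 + ∑ k ∈ range l.length, bit (s >>> 1) k * bit (c >>> 1) k := by
      rw [List.length_cons, sum_range_succ', add_comm]
      congr 1
      exact sum_congr rfl fun k _ => by rw [bit_shiftRight, bit_shiftRight, add_comm 1 k]
    have hl : P.length = l.length := by simpa using hP
    rw [prodP, tq, xc, h2]
    have hb : bit c 0 = if c.testBit 0 then 1 else 0 := rfl
    rw [hb]
    cases c.testBit 0
    · rw [cond_false, cond_false, cond_false, one_mul, prodP_eq l P (s >>> 1) (c >>> 1) acc t hl h1]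
      simp
    · rw [cond_true, cond_true, cond_true, ← mul_assoc, h0, ps_mul,
        prodP_eq l P (s >>> 1) (c >>> 1) (acc ^^^ C) _ hl h1, p12_xor, Nat.xor_assoc]
      congr 1
      unfold bt
      simp only [if_true, mul_one]
      ring

theorem unL_getD : ∀ k < 24, unL.getD k 0 = 2 ^ k := by decide

theorem unL_lo : ∀ x ∈ unL.take 12, ∀ k < 12, x.testBit (12 + k) = false := by decide +kernel

theorem unL_hi : ∀ x ∈ unL.drop 12, ∀ k < 12, x.testBit k = false := by decide +kernel

theorem bit_false {x k : ℕ} (h : x.testBit k = false) : bit x k = 0 := by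
  unfold bit
  rw [h]
  rfl

theorem prodP_unL {c : ℕ} (hc : c < 2 ^ 24) : prodP (unL.map pc) c = ps (bt c c) c := by
  have h1 := prodP_eq unL (unL.map pc) 0 c 0 0 (by rw [List.length_map]) fun k hk => by
    rw [bit_zero, ps_zero, List.getD_eq_getElem _ _ (by rw [List.length_map]; exact hk), List.getElem_map,
      List.getD_eq_getElem _ _ hk]
  rw [ps_zero_zero, one_mul, Nat.zero_xor, Mdl.xc_unL c hc] at h1
  have h2 : unL.map pc = (unL.take 12).map pc ++ (unL.drop 12).map pc := by
    rw [← List.map_append, List.take_append_drop]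
  have h3 : (prodP (unL.map pc) c).s = (prodP (unL.map pc) c).b ⬝ᵥ (prodP (unL.map pc) c).a := by
    rw [h2, prodP_app]
    obtain ⟨a1, a2⟩ := prodP_a ((unL.take 12).map pc) c fun p hp => by
      obtain ⟨x, hx, rfl⟩ := List.mem_map.1 hp
      exact ⟨rfl, funext fun k => bit_false (unL_lo x hx k k.2)⟩
    obtain ⟨b1, b2⟩ := prodP_b ((unL.drop 12).map pc) (c >>> ((unL.take 12).map pc).length) fun p hp => by
      obtain ⟨x, hx, rfl⟩ := List.mem_map.1 hp
      exact ⟨rfl, funext fun k => bit_false (unL_hi x hx k k.2)⟩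
    rw [Pauli.mul_s, Pauli.mul_a, Pauli.mul_b, a1, a2, b1, b2]
    simp
  rw [h1] at h3 ⊢
  have h4 : (ps (0 + ∑ k ∈ range unL.length, bit 0 k * bit c k + p12 (tq unL c 0)) c).s = bt c c := by
    rw [h3, ← bt_eq]
    rfl
  exact congrArg (fun t => ps t c) h4

/-! ### the action on the codes -/

/-- the sign -/
def sv (α : Pauli 12 ≃* Pauli 12) (c : ℕ) : ZMod 2 := (α (pc c)).s

/-- `α` acts on the codes by `r` -/
def Ind (α : Pauli 12 ≃* Pauli 12) (r : ℕ → ℕ) : Prop := ∀ c, ab (α (pc c)) = ab (pc (r c))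

variable {α : Pauli 12 ≃* Pauli 12} {r : ℕ → ℕ}

theorem Ind.eq (h : Ind α r) (c : ℕ) : α (pc c) = ps (sv α c) (r c) :=
  Pauli.ext rfl (congrArg Prod.fst (h c)) (congrArg Prod.snd (h c))

theorem Ind.eq' (h : Ind α r) (t : ZMod 2) (c : ℕ) : α (ps t c) = ps (t + sv α c) (r c) := by
  have e : ps t c = ps t 0 * pc c := by rw [← ps_zero, ps_add, add_zero]
  rw [e, map_mul, aut_ps, h.eq, ps_add]

theorem Ind.sv_xor (h : Ind α r) (a b : ℕ) : sv α (a ^^^ b) = sv α a + sv α b + bt a b + bt (r a) (r b) := by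
  have h1 := congrArg α (ps_mul 0 0 a b)
  rw [map_mul, h.eq', h.eq', h.eq', ps_mul] at h1
  have h2 : (0 + sv α a + (0 + sv α b) + bt (r a) (r b) : ZMod 2) = 0 + 0 + bt a b + sv α (a ^^^ b) :=
    congrArg Pauli.s h1
  have := zmod2_add_self (bt a b)
  linear_combination -h2 - this

theorem sv_zero (α : Pauli 12 ≃* Pauli 12) : sv α 0 = 0 := by
  unfold sv
  rw [← ps_zero, ps_zero_zero, map_one]
  rfl

/-- `s` is the sign vector -/
def Sv (α : Pauli 12 ≃* Pauli 12) (s : ℕ) : Prop := ∀ k < 24, sv α (2 ^ k) = bit s k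

/-- the formula for the sign -/
theorem Ind.sv_eq {R : List ℕ} (hR : R.length = 24) (h : Ind α (xc R)) {s : ℕ} (hs : Sv α s) {c : ℕ} (hc : c < 2 ^ 24) :
    sv α c = dt s c + p12 ((c &&& (c >>> 12)) ^^^ tq R c 0) := by
  have h1 := congrArg α (prodP_unL hc)
  rw [map_prodP, h.eq'] at h1
  have h2 := prodP_eq R ((unL.map pc).map α) s c 0 0 (by rw [List.length_map, List.length_map, hR]; rfl) fun k hk => by
    have hk' : k < 24 := hR ▸ hk
    rw [List.getD_eq_getElem _ _ (by rw [List.length_map, List.length_map]; exact hk'), List.getElem_map,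
      List.getElem_map, ← List.getD_eq_getElem _ 0, unL_getD k hk', h.eq, hs k hk', xc_two_pow]
  rw [ps_zero_zero, one_mul, h1, hR] at h2
  have h3 : bt c c + sv α c = 0 + ∑ k ∈ range 24, bit s k * bit c k + p12 (tq R c 0) := congrArg Pauli.s h2
  rw [p12_xor]
  have h4 : p12 (c &&& (c >>> 12)) = bt c c := rfl
  have := zmod2_add_self (bt c c)
  unfold dt
  rw [h4]
  linear_combination h3 - this

/-- the orbit: end point, sum, cocycle -/
def orb (R : List ℕ) : ℕ → ℕ → ℕ × ℕ × ℕ
  | 0, c => (c, 0, 0)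
  | d + 1, c => ((orb R d (xc R c)).1, c ^^^ (orb R d (xc R c)).2.1,
      ((c &&& (c >>> 12)) ^^^ tq R c 0) ^^^ (orb R d (xc R c)).2.2)

theorem orb_realised : True := by have := @orb.eq_def; trivial

theorem orb_succ1 (R : List ℕ) (d c : ℕ) : (orb R (d + 1) c).1 = (orb R d (xc R c)).1 := rfl

theorem orb_succ2 (R : List ℕ) (d c : ℕ) : (orb R (d + 1) c).2.1 = c ^^^ (orb R d (xc R c)).2.1 := rfl

theorem orb_succ3 (R : List ℕ) (d c : ℕ) :
    (orb R (d + 1) c).2.2 = ((c &&& (c >>> 12)) ^^^ tq R c 0) ^^^ (orb R d (xc R c)).2.2 := rfl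

theorem Ind.orb {R : List ℕ} (hR : R.length = 24) (hlt : ∀ c, xc R c < 2 ^ 24) (h : Ind α (xc R)) {s : ℕ}
    (hs : Sv α s) : ∀ (d : ℕ) (t : ZMod 2) {c : ℕ}, c < 2 ^ 24 →
    (α ^ d) (ps t c) = ps (t + dt s (orb R d c).2.1 + p12 (orb R d c).2.2) (orb R d c).1
  | 0, t, c, _ => by
    rw [pow_zero, C2B.orb, dt_zero, p12_zero, add_zero, add_zero]
    rfl
  | d + 1, t, c, hc => by
    rw [pow_succ]
    show (α ^ d) (α (ps t c)) = _
    rw [h.eq', Ind.orb hR hlt h hs d _ (hlt c), orb_succ1, orb_succ2, orb_succ3, h.sv_eq hR hs hc, dt_xor,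
      p12_xor _ (C2B.orb R d (xc R c)).2.2]
    refine congrArg (fun t => ps t (C2B.orb R d (xc R c)).1) ?_
    ring

theorem orb_fst (R : List ℕ) : ∀ (d c : ℕ), (orb R d c).1 = (xc R)^[d] c
  | 0, _ => rfl
  | d + 1, c => by rw [orb_succ1, Function.iterate_succ_apply]; exact orb_fst R d _

theorem Ind.pow (h : Ind α r) : ∀ d : ℕ, Ind (α ^ d) r^[d]
  | 0 => fun _ => rfl
  | d + 1 => fun c => by
    rw [pow_succ, Function.iterate_succ_apply]
    show ab ((α ^ d) (α (pc c))) = _
    rw [h.eq, (h.pow d).eq']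
    rfl

/-- the value on the permutation module with signs -/
noncomputable def phi (α : Pauli 12 ≃* Pauli 12) (c : ℕ) : ℚ := ch (pc c) (α (pc c))

theorem Ind.phi_eq (h : Ind α r) {c : ℕ} (hc : c < 2 ^ 24) (hr : r c < 2 ^ 24) :
    phi α c = if r c = c then sg ℚ (sv α c) else 0 := by
  unfold phi ch
  rw [h.eq]
  by_cases h1 : r c = c
  · rw [if_pos h1, h1]
    rcases zmod2_cases (sv α c) with h2 | h2
    · rw [h2, if_pos (ps_zero c).symm, sg_zero]
    · rw [h2, if_neg, if_pos, sg_one]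
      · rw [← ps_one_zero, ps_add]
        rfl
      · intro h3
        have h4 : (0 : ZMod 2) = 1 := congrArg Pauli.s h3
        exact absurd h4 (by decide)
  · rw [if_neg h1, if_neg, if_neg]
    · intro h3
      have h4 := congrArg ab h3
      rw [ab_mul] at h4
      have h5 : ab (pc c) = ab (pc (r c)) := by
        rw [h4]
        exact zero_add _
      exact h1 (ab_pc_inj hc hr h5).symm
    · intro h3
      have h4 : ab (pc c) = ab (ps (sv α c) (r c)) := congrArg ab h3
      exact h1 (ab_pc_inj hc hr h4).symm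

/-- on fixed vectors the sign is linear -/
theorem Ind.sv_xc (h : Ind α r) (hx : ∀ a b, r (a ^^^ b) = r a ^^^ r b) : ∀ (b : List ℕ) (u : ℕ),
    (∀ k < b.length, r (b.getD k 0) = b.getD k 0) →
    r (xc b u) = xc b u ∧ sv α (xc b u) = ∑ k ∈ range b.length, bit u k * sv α (b.getD k 0)
  | [], u, _ => by
    have h0 := hx 0 0
    rw [Nat.xor_self, Nat.xor_self] at h0
    exact ⟨h0, by simp [xc, sv_zero]⟩
  | C :: l, u, hb => by
    obtain ⟨h1, h2⟩ := Ind.sv_xc h hx l (u >>> 1) fun k hk => by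
      have := hb (k + 1) (by simpa using hk)
      rwa [List.getD_cons_succ] at this
    have h0 : r C = C := hb 0 (by simp)
    have h3 : ∑ k ∈ range (C :: l).length, bit u k * sv α ((C :: l).getD k 0) =
        bit u 0 * sv α C + ∑ k ∈ range l.length, bit (u >>> 1) k * sv α (l.getD k 0) := by
      rw [List.length_cons, sum_range_succ', add_comm]
      congr 1
      exact sum_congr rfl fun k _ => by rw [bit_shiftRight, add_comm 1 k, List.getD_cons_succ]
    have hb0 : bit u 0 = if u.testBit 0 then 1 else 0 := rfl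
    rw [h3, xc, hb0]
    cases u.testBit 0
    · rw [cond_false, Nat.zero_xor]
      exact ⟨h1, by simp [h2]⟩
    · rw [cond_true]
      refine ⟨by rw [hx, h0, h1], ?_⟩
      rw [h.sv_xor, h0, h1, h2]
      have := zmod2_add_self (bt C (xc l (u >>> 1)))
      simp only [if_true, one_mul]
      linear_combination this

end Cfsg.Agent.TAB.C2B
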