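import Cfsg.Agent.TAB.C2B.Typ

/-!
# Counting in a coset of `2^(1+24)` (helper47)
-/

set_option autoImplicit false
set_option maxRecDepth 100000

namespace Cfsg.Agent.TAB.C2B

open Cfsg Cfsg.Agent.Monster Cfsg.Agent.MonsterX
open Cfsg.Agent.Monster.PauliBasic Cfsg.Agent.Monster.PauliClif Cfsg.Agent.Monster.PauliRep
open Cfsg.Agent.Monster.PauliBits (bit bit_xor)
open Cfsg.Agent.H123.Cls
open Cfsg.Agent.Lib.BitNetSimple (force force_eq)
open Cfsg.Agent.H155.TC.Pau (tr)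
open Cfsg.Agent.H155.TC.Val (ι_inj)
open Cfsg.Agent.BpSpor.MBigModel (MG zz pi chart)
open Subgroup (centralizer mem_centralizer_singleton_iff)
open Finset

/-! ### digits -/

theorem dig_uniq {B : ℕ} : ∀ (m : ℕ) (f g : ℕ → ℕ), (∀ j < m, f j < B) → (∀ j < m, g j < B) →
    ∑ j ∈ range m, f j * B ^ j = ∑ j ∈ range m, g j * B ^ j → ∀ j < m, f j = g j
  | 0, _, _, _, _, _, j, hj => absurd hj (by simp)
  | m + 1, f, g, hf, hg, h, j, hj => by
    have e : ∀ f : ℕ → ℕ, ∑ i ∈ range (m + 1), f i * B ^ i = f 0 + B * ∑ i ∈ range m, f (i + 1) * B ^ i := by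
      intro f
      rw [sum_range_succ', mul_sum, pow_zero, mul_one, add_comm]
      exact congrArg₂ (· + ·) rfl (sum_congr rfl fun i _ => by ring)
    have h0 := hf 0 (by omega)
    have h1 := hg 0 (by omega)
    rw [e f, e g] at h
    have h2 := congrArg (· % B) h
    simp only [Nat.add_mul_mod_self_left, Nat.mod_eq_of_lt h0, Nat.mod_eq_of_lt h1] at h2
    cases j with
    | zero => exact h2
    | succ j =>
      rw [h2, Nat.add_left_cancel_iff] at h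
      exact dig_uniq m (fun i => f (i + 1)) (fun i => g (i + 1)) (fun i hi => hf _ (by omega))
        (fun i hi => hg _ (by omega)) (Nat.eq_of_mul_eq_mul_left (by omega) h) j (by omega)

theorem hist {ι : Type*} (S : Finset ι) (f : ι → ℕ) {m B : ℕ} (cn : ℕ → ℕ) (hB : S.card < B) (hc : ∀ j < m, cn j < B)
    (hf : ∀ s ∈ S, f s ≤ m) (h : ∑ s ∈ S, B ^ f s = ∑ j ∈ range m, cn j * B ^ j) :
    (∀ s ∈ S, f s < m) ∧ ∀ j < m, (S.filter fun s => f s = j).card = cn j := by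
  have h1 : ∑ s ∈ S, B ^ f s = ∑ j ∈ range (m + 1), (S.filter fun s => f s = j).card * B ^ j := by
    rw [← sum_fiberwise_of_maps_to (s := S) (t := range (m + 1)) (g := f) fun s hs => mem_range.2 (Nat.lt_succ_of_le (hf s hs))]
    refine sum_congr rfl fun j _ => ?_
    rw [sum_congr rfl fun s hs => by rw [(mem_filter.1 hs).2], sum_const, smul_eq_mul]
  have h2 : ∑ j ∈ range m, cn j * B ^ j = ∑ j ∈ range (m + 1), (if j < m then cn j else 0) * B ^ j := by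
    rw [sum_range_succ, if_neg (lt_irrefl m), zero_mul, add_zero]
    exact sum_congr rfl fun j hj => by rw [if_pos (mem_range.1 hj)]
  have h3 := dig_uniq (m + 1) _ _ (fun j _ => lt_of_le_of_lt (card_filter_le _ _) hB) (fun j _ => by
    split_ifs with h4
    · exact hc j h4
    · omega) (h1.symm.trans (h.trans h2))
  refine ⟨fun s hs => lt_of_le_of_ne (hf s hs) fun h4 => ?_, fun j hj => by rw [h3 j (by omega), if_pos hj]⟩
  have h5 := h3 m (by omega)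
  rw [if_neg (lt_irrefl m), card_eq_zero, filter_eq_empty_iff] at h5
  exact h5 hs h4

theorem sgF_le (C : List ℕ) (M η t N : ℕ) (κ : List ℕ → List ℕ → ℕ) (hκ : ∀ es out, κ es out ≤ N) :
    ∀ (ps : List PL) (es ts out : List ℕ), sgF C M η t ps es ts out κ ≤ N
  | [], es, _, out => hκ es out
  | P :: ps, es, ts, out => by
    have e : sgF C M η t (P :: ps) es ts out κ = force (xF P.L.La t P.L.w) fun e => force (tauF M P η e es ts) fun τ =>
      force (Nat.add (Nat.mul 4 (sN C P e)) τ) fun x => sgF C M η t ps (e :: es) (τ :: ts) (x :: out) κ := rfl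
    rw [e, force_eq, force_eq, force_eq]
    exact sgF_le C M η t N κ hκ ps _ _ _

theorem ix_le' (D : CD) (η t : ℕ) : ix D η t ≤ D.sg.length := by
  unfold ix ixF
  refine sgF_le _ _ _ _ _ _ (fun es out => ?_) _ _ _ _
  rw [force_eq, force_eq, force_eq, force_eq]
  exact idxF_le _ _

/-- the counts are correct -/
structure HistOk (D : CD) : Prop where
  lt : ∀ t < 2 ^ D.L1.b.length, ∀ η, η = 1 ∨ η = 2 → ix D η t < D.sg.length
  cn : ∀ j < D.sg.length, ((range (2 ^ D.L1.b.length) ×ˢ ({1, 2} : Finset ℕ)).filter fun q => ix D q.2 q.1 = j).card =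
    D.cn.getD j 0

theorem histOk_of {D : CD} (hf : D.L1.b.length ≤ 16) (hc : ∀ j < D.sg.length, D.cn.getD j 0 < 2 ^ 20)
    (h : ∑ t ∈ range (2 ^ D.L1.b.length), ((2 ^ 20) ^ ix D 1 t + (2 ^ 20) ^ ix D 2 t) =
      ∑ j ∈ range D.sg.length, D.cn.getD j 0 * (2 ^ 20) ^ j) : HistOk D := by
  obtain ⟨h1, h2⟩ := hist (range (2 ^ D.L1.b.length) ×ˢ ({1, 2} : Finset ℕ)) (fun q => ix D q.2 q.1)
    (fun j => D.cn.getD j 0) (B := 2 ^ 20) (m := D.sg.length) (by
      rw [card_product, card_range, card_pair (by decide)]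
      have : 2 ^ D.L1.b.length ≤ 2 ^ 16 := Nat.pow_le_pow_right (by norm_num) hf
      omega) hc (fun q _ => ix_le' D _ _) (by
      rw [← h, sum_product]
      exact sum_congr rfl fun t _ => sum_pair (by decide))
  exact ⟨fun t ht η hη => h1 (t, η) (mem_product.2 ⟨mem_range.2 ht, by simpa using hη⟩), h2⟩

/-! ### the fibres of the coordinates -/

theorem Bs.lam_surj {r : ℕ → ℕ} {b us : List ℕ} (hb : Bs r b us) {t : ℕ} (ht : t < 2 ^ b.length) :
    lam b (xc us t % 2 ^ 24) = t := by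
  refine eq_of_bit (lam_lt _ _) ht fun k hk => ?_
  have h1 : dt (b.getD k 0) (xc us t % 2 ^ 24) = dt (b.getD k 0) (xc us t) :=
    sum_congr rfl fun j hj => by rw [bit_mod, if_pos (mem_range.1 hj)]
  have h2 : lam us (b.getD k 0) = 2 ^ k := by
    rw [← xc_two_pow, hb.dual _ (Nat.pow_lt_pow_right (by norm_num) hk)]
  rw [bit_lam, h1, dt_comm, dt_xc, hb.len, sum_eq_single k]
  · rw [← bit_lam, h2, bit_two_pow, if_pos rfl, mul_one]
  · intro l _ hl
    rw [← bit_lam, h2, bit_two_pow, if_neg (Ne.symm hl), mul_zero]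
  · intro h
    exact absurd (mem_range.2 hk) h

theorem Bs.card_fib {r : ℕ → ℕ} {b us : List ℕ} (hb : Bs r b us) {t : ℕ} (ht : t < 2 ^ b.length) :
    ((range (2 ^ 24)).filter fun s => lam b s = t).card = 2 ^ (24 - b.length) := by
  have h1 : ∀ t < 2 ^ b.length, ((range (2 ^ 24)).filter fun s => lam b s = t).card =
      ((range (2 ^ 24)).filter fun s => lam b s = 0).card := by
    intro t ht
    have hy : xc us t % 2 ^ 24 < 2 ^ 24 := Nat.mod_lt _ (by norm_num)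
    refine card_bij (fun s _ => s ^^^ (xc us t % 2 ^ 24)) (fun s hs => ?_) (fun s _ s' _ h => Nat.xor_left_inj.1 h)
      fun s hs => ⟨s ^^^ (xc us t % 2 ^ 24), ?_, by rw [Nat.xor_assoc, Nat.xor_self, Nat.xor_zero]⟩
    · obtain ⟨a1, a2⟩ := mem_filter.1 hs
      exact mem_filter.2 ⟨mem_range.2 (Nat.xor_lt_two_pow (mem_range.1 a1) hy),
        by rw [lam_xor, a2, hb.lam_surj ht, Nat.xor_self]⟩
    · obtain ⟨a1, a2⟩ := mem_filter.1 hs
      exact mem_filter.2 ⟨mem_range.2 (Nat.xor_lt_two_pow (mem_range.1 a1) hy),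
        by rw [lam_xor, a2, hb.lam_surj ht, Nat.zero_xor]⟩
  have h2 := card_eq_sum_card_fiberwise (s := range (2 ^ 24)) (t := range (2 ^ b.length)) (f := lam b)
    fun s _ => mem_coe.2 (mem_range.2 (lam_lt b s))
  rw [sum_congr rfl fun t ht => h1 t (mem_range.1 ht), sum_const, card_range, card_range, smul_eq_mul] at h2
  rw [h1 t ht]
  have h3 : 2 ^ 24 = 2 ^ b.length * 2 ^ (24 - b.length) := by rw [← pow_add, Nat.add_sub_cancel' hb.le]
  exact Nat.eq_of_mul_eq_mul_left (Nat.two_pow_pos _) (h2.symm.trans h3)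

theorem Bs.sum_lam {r : ℕ → ℕ} {b us : List ℕ} (hb : Bs r b us) (G : ℕ → ℕ) :
    ∑ s ∈ range (2 ^ 24), G (lam b s) = 2 ^ (24 - b.length) * ∑ t ∈ range (2 ^ b.length), G t := by
  rw [← sum_fiberwise_of_maps_to (s := range (2 ^ 24)) (t := range (2 ^ b.length)) (g := lam b)
    fun s _ => mem_range.2 (lam_lt b s), mul_sum]
  refine sum_congr rfl fun t ht => ?_
  rw [sum_congr rfl fun s hs => by rw [(mem_filter.1 hs).2], sum_const, smul_eq_mul, hb.card_fib (mem_range.1 ht)]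

theorem sum_sw (s0 : ℕ) (hs : s0 < 2 ^ 24) (G : ℕ → ℕ) :
    ∑ c ∈ range (2 ^ 24), G (sw c ^^^ s0) = ∑ s ∈ range (2 ^ 24), G s := by
  refine sum_bij (fun c _ => sw c ^^^ s0) (fun c hc => mem_range.2 (Nat.xor_lt_two_pow (sw_lt (mem_range.1 hc)) hs))
    (fun a ha b hb h => ?_) (fun s h => ⟨sw (s ^^^ s0), mem_range.2 (sw_lt (Nat.xor_lt_two_pow (mem_range.1 h) hs)), ?_⟩)
    fun _ _ => rfl
  · rw [← sw_sw (mem_range.1 ha), ← sw_sw (mem_range.1 hb), Nat.xor_left_inj.1 h]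
  · rw [sw_sw (Nat.xor_lt_two_pow (mem_range.1 h) hs), Nat.xor_assoc, Nat.xor_self, Nat.xor_zero]

/-! ### the coset -/

/-- the centralizer -/
noncomputable abbrev Cz : Subgroup MG := centralizer ({zz} : Set MG)

/-- `Q` in the centralizer -/
noncomputable def ioC : Pauli 12 →* Cz := io.codRestrict Cz fun p => mem_centralizer_singleton_iff.2 (ac_io p).comm

theorem pi_ioC (p : Pauli 12) : pi (ioC p) = 1 := (ac_io p).pi

theorem tr_z_mul (T : (B 12 → ℚ) ≃ₗ[ℚ] (B 12 → ℚ)) (t : ZMod 2) (c : ℕ) :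
    tr (T * rho ℚ (ps (1 + t) c)) = -tr (T * rho ℚ (ps t c)) := by
  rw [← ps_add, ps_one_zero]
  unfold tr
  rw [← map_neg]
  refine congrArg _ (LinearMap.ext fun f => ?_)
  show T (rho ℚ (Pauli.z 12 * ps t c) f) = -T (rho ℚ (ps t c) f)
  rw [map_mul, LinearEquiv.mul_apply, rho_z, map_neg]

open Classical in
/-- the element with the code `c` and the sign `η` -/
noncomputable def pE (T : (B 12 → ℚ) ≃ₗ[ℚ] (B 12 → ℚ)) (c η : ℕ) : Pauli 12 :=
  ps ((if η = 1 then 0 else 1) + if 0 ≤ tr (T * rho ℚ (ps 0 c)) then 0 else 1) c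

theorem val_pE (T : (B 12 → ℚ) ≃ₗ[ℚ] (B 12 → ℚ)) (c : ℕ) {η : ℕ} (hη : η = 1 ∨ η = 2) : Val η (T * rho ℚ (pE T c η)) := by
  have h1 := tr_z_mul T 0 c
  have h2 := tr_z_mul T 1 c
  rw [add_zero] at h1
  unfold pE
  rcases hη with rfl | rfl
  · refine Or.inl ⟨rfl, ?_⟩
    rw [if_pos rfl, zero_add]
    split_ifs with h
    · exact h
    · linarith
  · refine Or.inr ⟨rfl, ?_⟩
    rw [if_neg (by decide)]
    split_ifs with h
    · rw [add_zero]
      linarith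
    · linarith

theorem exists_pE (T : (B 12 → ℚ) ≃ₗ[ℚ] (B 12 → ℚ)) (p : Pauli 12) : ∃ c < 2 ^ 24, ∃ η, (η = 1 ∨ η = 2) ∧ p = pE T c η := by
  obtain ⟨c, hc, h⟩ := exists_ps p
  have h1 : ∀ s u : ZMod 2, s = 0 + u ∨ s = 1 + u := by decide
  rcases h1 p.s (if 0 ≤ tr (T * rho ℚ (ps 0 c)) then 0 else 1) with h2 | h2
  · exact ⟨c, hc, 1, Or.inl rfl, by rw [pE, if_pos rfl, ← h2, ← h]⟩
  · exact ⟨c, hc, 2, Or.inr rfl, by rw [pE, if_neg (by decide), ← h2, ← h]⟩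

theorem pE_inj {T : (B 12 → ℚ) ≃ₗ[ℚ] (B 12 → ℚ)} {a b η θ : ℕ} (ha : a < 2 ^ 24) (hb : b < 2 ^ 24) (hη : η = 1 ∨ η = 2)
    (hθ : θ = 1 ∨ θ = 2) (h : pE T a η = pE T b θ) : a = b ∧ η = θ := by
  obtain ⟨h1, rfl⟩ := ps_inj ha hb h
  refine ⟨rfl, ?_⟩
  rw [add_left_inj] at h1
  rcases hη with rfl | rfl <;> rcases hθ with rfl | rfl <;> first | rfl | exact absurd h1 (by decide)

variable {D : CD}

theorem exists_raw (hD : ClsOk D) (hH : HistOk D) {k : MG} {α : Pauli 12 ≃* Pauli 12}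
    {T : (B 12 → ℚ) ≃ₗ[ℚ] (B 12 → ℚ)} (h : Ac k D.A α T) : ∃ j < D.sg.length, Raw D (D.sg.getD j []) α T := by
  obtain ⟨s, -, hs⟩ := exists_sv α
  obtain ⟨η, h1, h2⟩ : ∃ η, (η = 1 ∨ η = 2) ∧ Val η T := by
    rcases le_total 0 (tr T) with h1 | h1
    · exact ⟨1, Or.inl rfl, Or.inl ⟨rfl, h1⟩⟩
    · exact ⟨2, Or.inr rfl, Or.inr ⟨rfl, h1⟩⟩
  have h3 := hH.lt _ (lam_lt D.L1.b s) η h1
  exact ⟨_, h3, (ix_le D hD h hs h2).2 h3⟩

theorem card_abs {G ι : Type*} (S : Finset ι) (φ : ι → G) (Q : G → Prop) (h1 : ∀ q ∈ S, ∀ q' ∈ S, φ q = φ q' → q = q')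
    (h2 : ∀ x, Q x ↔ ∃ q ∈ S, φ q = x) : Nat.card {x // Q x} = S.card := by
  classical
  rw [Nat.subtype_card (S.image φ) fun x => by rw [mem_image, h2], card_image_of_injOn fun q hq q' hq' h => h1 q hq q' hq' h]

theorem mem_pair {N : ℕ} (q : ℕ × ℕ) : q ∈ range N ×ˢ ({1, 2} : Finset ℕ) ↔ q.1 < N ∧ (q.2 = 1 ∨ q.2 = 2) := by
  rw [mem_product, mem_range, mem_insert, mem_singleton]

theorem card_pairs {N : ℕ} (F : ℕ → Prop) [DecidablePred F] (g : ℕ → ℕ → ℕ) :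
    ((range N ×ˢ ({1, 2} : Finset ℕ)).filter fun q => F (g q.2 q.1)).card =
      ∑ c ∈ range N, ∑ η ∈ ({1, 2} : Finset ℕ), if F (g η c) then 1 else 0 := by
  rw [card_filter, sum_product]

theorem HistOk.sum (hH : HistOk D) (F : ℕ → Prop) [DecidablePred F] :
    ∑ t ∈ range (2 ^ D.L1.b.length), ∑ η ∈ ({1, 2} : Finset ℕ), (if F (ix D η t) then 1 else 0) =
      ∑ j ∈ range D.sg.length, if F j then D.cn.getD j 0 else 0 := by
  rw [← sum_product (f := fun q : ℕ × ℕ => if F (ix D q.2 q.1) then 1 else 0),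
    ← sum_fiberwise_of_maps_to (t := range D.sg.length) (g := fun q : ℕ × ℕ => ix D q.2 q.1) fun q hq =>
      mem_range.2 (hH.lt _ ((mem_pair q).1 hq).1 _ ((mem_pair q).1 hq).2)]
  refine sum_congr rfl fun j hj => ?_
  rw [sum_congr rfl fun q hq => by rw [(mem_filter.1 hq).2], sum_const, smul_eq_mul, hH.cn j (mem_range.1 hj)]
  split_ifs <;> simp

/-- **the count in the coset** -/
theorem card_coset (hD : ClsOk D) (hH : HistOk D) (P : MG → Prop) (F : ℕ → Prop) [DecidablePred F]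
    (hP : ∀ k α T j, Ac k D.A α T → j < D.sg.length → Raw D (D.sg.getD j []) α T → (P k ↔ F j)) :
    Nat.card {x : Cz // pi x = QuotientGroup.mk D.A ∧ P x} =
      2 ^ (24 - D.L1.b.length) * ∑ j ∈ range D.sg.length, if F j then D.cn.getD j 0 else 0 := by
  obtain ⟨x0, h0⟩ := chart.pi_surj (QuotientGroup.mk D.A)
  obtain ⟨α, T, ha⟩ := exists_ac x0 h0
  obtain ⟨s0, hs0, hs⟩ := exists_sv α
  have hb := hD.all.1.bs
  have key : ∀ c < 2 ^ 24, ∀ η, η = 1 ∨ η = 2 →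
      (P (x0 * ioC (pE T c η) : Cz) ↔ F (ix D η (lam D.L1.b (sw c ^^^ s0)))) := by
    intro c hc η hη
    have h1 := ha.mul (ac_io (pE T c η))
    rw [mul_one] at h1
    have h2 := hH.lt _ (lam_lt D.L1.b (sw c ^^^ s0)) η hη
    exact hP _ _ _ _ h1 h2 ((ix_le D hD h1 (hs.mul_conj (hD.ind ha) _ hc) (val_pE T c hη)).2 h2)
  have e1 := (sum_sw s0 hs0 fun s => ∑ η ∈ ({1, 2} : Finset ℕ), if F (ix D η (lam D.L1.b s)) then 1 else 0).trans
    (hb.sum_lam fun t => ∑ η ∈ ({1, 2} : Finset ℕ), if F (ix D η t) then 1 else 0)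
  rw [hH.sum F] at e1
  have e2 : ∀ p, ∃ c < 2 ^ 24, ∃ η, (η = 1 ∨ η = 2) ∧ p = pE T c η := exists_pE T
  have e3 : ∀ a < 2 ^ 24, ∀ b < 2 ^ 24, ∀ η θ, η = 1 ∨ η = 2 → θ = 1 ∨ θ = 2 → pE T a η = pE T b θ → a = b ∧ η = θ :=
    fun a ha b hb η θ => pE_inj ha hb
  generalize 2 ^ 24 = N at key e1 e2 e3
  rw [← e1, ← card_pairs F fun η c => ix D η (lam D.L1.b (sw c ^^^ s0))]
  refine card_abs _ (fun q => x0 * ioC (pE T q.1 q.2)) _ (fun q hq q' hq' h => ?_) fun x => ⟨?_, ?_⟩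
  · obtain ⟨a1, a2⟩ := (mem_pair q).1 (mem_filter.1 hq).1
    obtain ⟨b1, b2⟩ := (mem_pair q').1 (mem_filter.1 hq').1
    have h1 : ioC (pE T q.1 q.2) = ioC (pE T q'.1 q'.2) := mul_left_cancel h
    obtain ⟨c1, c2⟩ := e3 _ a1 _ b1 _ _ a2 b2 (ι_inj (congrArg Subtype.val h1))
    exact Prod.ext c1 c2
  · rintro ⟨a1, a2⟩
    have a3 : pi (x0⁻¹ * x) = 1 := by rw [map_mul, map_inv, h0, a1, inv_mul_cancel]
    obtain ⟨p, hp⟩ := (chart.pi_eq_one _).1 a3
    obtain ⟨c, hc, η, hη, rfl⟩ := e2 p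
    have a4 : x0 * ioC (pE T c η) = x := by
      have a5 : ioC (pE T c η) = x0⁻¹ * x := Subtype.ext hp
      rw [a5, mul_inv_cancel_left]
    exact ⟨(c, η), mem_filter.2 ⟨(mem_pair _).2 ⟨hc, hη⟩, (key c hc η hη).1 (by rw [a4]; exact a2)⟩, a4⟩
  · rintro ⟨q, hq, rfl⟩
    obtain ⟨a0, a3⟩ := mem_filter.1 hq
    obtain ⟨a1, a2⟩ := (mem_pair q).1 a0
    exact ⟨by rw [map_mul, pi_ioC, mul_one, h0], (key _ a1 _ a2).2 a3⟩

end Cfsg.Agent.TAB.C2B
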