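import Cfsg.Agent.TAB.C2B.Grp

/-!
# The short vectors fixed by an element of `Co0` (helper47)
-/

set_option autoImplicit false
set_option maxRecDepth 100000

namespace Cfsg.Agent.TAB.C2B

open Cfsg Cfsg.Agent.Monster Cfsg.Agent.MonsterX
open Cfsg.Agent.Monster.VecEngine (Pl val)
open Cfsg.Agent.Monster.LevelSets (lin lin_sound linVal)
open Cfsg.Agent.H123.Cls
open Cfsg.Agent.Lib.BitNetSimple (force force_eq)
open Cfsg.Agent.Lib.BitNet (value)
open Cfsg.Agent.LeechMat.Code Cfsg.Agent.LeechMat.Elements Cfsg.Agent.LeechMat.Core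
open Cfsg.Agent.SporadicStructure.Co0Base (e8 e8_coe)
open Cfsg.Agent.H264.TC.NoReal39 (CL)
open Cfsg.Agent.MonsterX.LaneLab (XL)
open Cfsg.Agent.MonsterX.LaneVec (lv idxL linVal_idxL lv_coe lvec_apply sqNorm_lv lt_of_XL)
open Cfsg.Agent.H68.CoMdl (L L_code val_live val_lt)
open Finset

/-- the lanes with a value that is not zero -/
noncomputable def nzM (y : Pl) : ℕ := Pl.rec (motive := fun _ => ℕ) (fun s => s) (fun p _ ih => fB ih fun a => Nat.lor p a) y

theorem nzM_spec (i : ℕ) : ∀ y : Pl, (nzM y).testBit i = false ↔ val y i = 0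
  | .sgn s => by
    show s.testBit i = false ↔ -VecEngine.bt s i = 0
    unfold VecEngine.bt
    cases s.testBit i <;> simp
  | .cons p y => by
    have e : nzM (.cons p y) = fB (nzM y) fun a => Nat.lor p a := rfl
    have e2 : (Nat.lor p (nzM y)).testBit i = (p.testBit i || (nzM y).testBit i) := Nat.testBit_or _ _ _
    rw [e, fB_eq, e2, Bool.or_eq_false_iff, nzM_spec i y, VecEngine.val_cons]
    unfold VecEngine.bt
    cases p.testBit i
    · simp
    · simp only [if_true, Bool.true_eq_false, false_and, false_iff]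
      omega

/-- combination of the digits -/
noncomputable def dotF (k : ℕ) (c : List ℕ) : List ℕ → ℕ :=
  List.rec (fun _ => 0) (fun a _ ih l => List.rec 0 (fun x l' _ => force (ih l') fun y =>
    Nat.add (Nat.mul a (Nat.mod (Nat.shiftRight x k) 32)) y) l) c

theorem dotF_eq (k : ℕ) : ∀ (c l : List ℕ), c.length = l.length →
    dotF (5 * k) c l = ∑ i ∈ range c.length, c.getD i 0 * dig (l.getD i 0) k
  | [], _, _ => rfl
  | _ :: _, [], h => by simp at h
  | a :: c, x :: l, h => by
    have e : dotF (5 * k) (a :: c) (x :: l) = force (dotF (5 * k) c l) fun y =>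
      Nat.add (Nat.mul a (Nat.mod (Nat.shiftRight x (5 * k)) 32)) y := rfl
    rw [e, force_eq, dotF_eq k c l (by simpa using h), List.length_cons, sum_range_succ']
    simp only [List.getD_cons_succ, List.getD_cons_zero]
    exact Nat.add_comm _ _

/-- `xw` has the values `c`, `xu` has the values `8 c - 8 A c` -/
noncomputable def chkU (c : List ℕ) (xw xu : Pl) (l : List ℕ) : Bool :=
  band (Nat.beq (lenF c) 24) (force (Nat.mul 16 (sumL c)) fun S => allI (fun k a =>
    band (decide (val xw k = Int.ofNat a)) (force (Nat.mul 5 k) fun k5 => force (dotF k5 c l) fun y =>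
      decide (val xu k + Int.ofNat y = Int.ofNat (Nat.add (Nat.mul 8 a) S)))) c 0)

theorem chkU_spec {c : List ℕ} {xw xu : Pl} {l : List ℕ} {A : Co0} (hl : Rm A l) (h : chkU c xw xu l = true) :
    ∀ k < 24, val xu k = 8 * val xw k - ∑ i ∈ range 24, val xw i * en A k i := by
  unfold chkU at h
  obtain ⟨h1, h⟩ := band_true h
  have e1 : c.length = 24 := by rw [← lenF_eq]; exact Nat.eq_of_beq_eq_true h1
  rw [force_eq, sumL_eq, e1] at h
  have k1 : ∀ k < 24, val xw k = (c.getD k 0 : ℕ) := fun k hk =>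
    of_decide_eq_true (band_true (allI_zero h k (by rw [e1]; exact hk))).1
  intro k hk
  have h2 := (band_true (allI_zero h k (by rw [e1]; exact hk))).2
  have e5 : Nat.mul 5 k = 5 * k := rfl
  rw [force_eq, force_eq, e5, dotF_eq k c l (by rw [e1, hl.1]), e1] at h2
  have h3 : val xu k + ((∑ i ∈ range 24, c.getD i 0 * dig (l.getD i 0) k : ℕ) : ℤ) =
      ((8 * c.getD k 0 + 16 * ∑ i ∈ range 24, c.getD i 0 : ℕ) : ℤ) := of_decide_eq_true h2
  push_cast at h3
  rw [sum_congr rfl fun i hi => by rw [hl.dig (mem_range.1 hi) hk, mul_add], sum_add_distrib, ← sum_mul] at h3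
  rw [k1 k hk, sum_congr rfl fun i hi => by rw [k1 i (mem_range.1 hi)]]
  linarith

theorem lin_lv (x : Pl) {j : ℕ} (hj : XL.testBit j = true) :
    linVal idxL x j = ∑ k ∈ range 24, val x k * (lv j : GolayPt → ℤ) (pt k) := by
  rw [linVal_idxL, lv_coe hj]
  exact sum_congr rfl fun k hk => by rw [lvec_apply, pos_pt k (mem_range.1 hk)]

theorem dot_e8 (v : leechLattice) (p : GolayPt) :
    dotInt (v : GolayPt → ℤ) ((e8 p : leechLattice) : GolayPt → ℤ) = 8 * (v : GolayPt → ℤ) p := by
  rw [e8_coe, dotInt, sum_eq_single p]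
  · rw [Pi.single_eq_same, mul_comm]
  · intro b _ hb
    rw [Pi.single_eq_of_ne hb, mul_zero]
  · intro h
    exact absurd (mem_univ _) h

theorem lin_u {xw xu : Pl} {A : Co0} (h : ∀ k < 24, val xu k = 8 * val xw k - ∑ i ∈ range 24, val xw i * en A k i)
    {j : ℕ} (hj : XL.testBit j = true) {ε : ℤ} (hε : ∀ p, (lv j : GolayPt → ℤ) p = ε * ((A • lv j : leechLattice) : GolayPt → ℤ) p) :
    linVal idxL xu j = 8 * (1 - ε) * linVal idxL xw j := by
  rw [lin_lv _ hj, lin_lv _ hj]
  have h1 : ∀ i, ∑ k ∈ range 24, en A k i * (lv j : GolayPt → ℤ) (pt k) = ε * (8 * (lv j : GolayPt → ℤ) (pt i)) := by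
    intro i
    rw [← dot_e8, ← co0_dotInt A, dotInt, sum_points', mul_sum]
    refine sum_congr rfl fun k _ => ?_
    rw [hε (pt k)]
    unfold en
    ring
  calc ∑ k ∈ range 24, val xu k * (lv j : GolayPt → ℤ) (pt k)
      = ∑ k ∈ range 24, (8 * (val xw k * (lv j : GolayPt → ℤ) (pt k)) -
          ∑ i ∈ range 24, val xw i * (en A k i * (lv j : GolayPt → ℤ) (pt k))) := by
        refine sum_congr rfl fun k hk => ?_
        rw [h k (mem_range.1 hk), sub_mul, sum_mul]
        simp only [mul_assoc]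
    _ = _ := by
        rw [sum_sub_distrib, sum_comm, ← mul_sum]
        simp only [← mul_sum, h1]
        rw [show ∑ i ∈ range 24, val xw i * (ε * (8 * (lv j : GolayPt → ℤ) (pt i))) =
          8 * ε * ∑ i ∈ range 24, val xw i * (lv j : GolayPt → ℤ) (pt i) by
            rw [mul_sum]; exact sum_congr rfl fun i _ => by ring]
        ring

theorem fix_cases {A : Co0} {j : ℕ} (hj : XL.testBit j = true)
    (h : L (QuotientGroup.mk A) (value CL j) = value CL j) : A • lv j = lv j ∨ A • lv j = -lv j := by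
  apply Psi.eq_or_neg
  · rw [co0_sqNorm, sqNorm_lv hj]
  · exact sqNorm_lv hj
  · apply H68.CoGen.psi_of_code
    rw [← L_code, ← val_live hj, h]

theorem fix_code {A : Co0} {j : ℕ} (hj : XL.testBit j = true) (h : A • lv j = lv j) :
    L (QuotientGroup.mk A) (value CL j) = value CL j := by
  rw [val_live hj, L_code, h]

/-- the mask of the fixed short vectors -/
def FpOk (A : Co0) (f : ℕ) : Prop := ∀ j, f.testBit j = true ↔ XL.testBit j = true ∧ A • lv j = lv j

theorem FpOk.eq {A : Co0} {f g : ℕ} (h : FpOk A f) (h' : FpOk A g) : f = g :=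
  Nat.eq_of_testBit_eq fun j => Bool.eq_iff_iff.2 ((h j).trans (h' j).symm)

theorem fpOk_of {xw xu : Pl} {A : Co0} (h : ∀ k < 24, val xu k = 8 * val xw k - ∑ i ∈ range 24, val xw i * en A k i)
    {F : ℕ} (hF : ∀ j, F.testBit j = true ↔ XL.testBit j = true ∧ L (QuotientGroup.mk A) (value CL j) = value CL j)
    (hw : ∀ j, F.testBit j = true → linVal idxL xw j ≠ 0) {y : Pl} (hy : ∀ i < 131072, val y i = linVal idxL xu i) :
    FpOk A (F ^^^ (F &&& nzM y)) := by
  intro j
  rw [Nat.testBit_xor, Nat.testBit_and]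
  constructor
  · intro h1
    have h2 : F.testBit j = true ∧ (nzM y).testBit j = false := by
      revert h1
      cases F.testBit j <;> cases (nzM y).testBit j <;> simp
    obtain ⟨h3, h4⟩ := (hF j).1 h2.1
    refine ⟨h3, (fix_cases h3 h4).resolve_right fun h5 => hw j h2.1 ?_⟩
    have h6 := (nzM_spec j y).1 h2.2
    rw [hy j (lt_of_XL h3), lin_u h h3 (ε := -1) fun p => by rw [h5, AddSubgroup.coe_neg, Pi.neg_apply]; ring] at h6
    omega
  · rintro ⟨h1, h2⟩
    have h3 := (hF j).2 ⟨h1, fix_code h1 h2⟩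
    have h4 : (nzM y).testBit j = false := by
      rw [nzM_spec, hy j (lt_of_XL h1), lin_u h h1 (ε := 1) fun p => by rw [h2, one_mul]]
      ring
    rw [h3, h4]
    rfl

/-- the mask -/
noncomputable def fpM (A : Co0) : ℕ := Classical.epsilon (FpOk A)

theorem FpOk.fpM_eq {A : Co0} {f : ℕ} (h : FpOk A f) : f = fpM A := h.eq (Classical.epsilon_spec ⟨f, h⟩)

open Classical in
theorem sO_eq {A : Co0} {f : ℕ} (h : FpOk A f) (α : PauliBasic.Pauli 12 ≃* PauliBasic.Pauli 12) :
    sO A α = 2 * ∑ j ∈ range (2 ^ 17), (if f.testBit j = true then phi α (value CL j) else 0) - sS α := by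
  unfold sO sS
  rw [mul_sum, ← sum_sub_distrib]
  refine sum_congr rfl fun j _ => ?_
  by_cases h1 : XL.testBit j = true
  · rw [if_pos h1, if_pos h1]
    by_cases h2 : A • lv j = lv j
    · rw [if_pos h2, if_pos ((h j).2 ⟨h1, h2⟩)]
      ring
    · rw [if_neg h2, if_neg fun h3 => h2 ((h j).1 h3).2]
      ring
  · rw [if_neg h1, if_neg h1, if_neg fun h3 => h1 ((h j).1 h3).1]
    ring

end Cfsg.Agent.TAB.C2B
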