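import Cfsg.Agent.TAB.C2B.Mat
import Cfsg.Agent.MonsterX.KLinkInst

/-!
# Elements of `C(z)` and their actions (helper47)
-/

set_option autoImplicit false
set_option maxRecDepth 100000

namespace Cfsg.Agent.TAB.C2B

open Cfsg Cfsg.Agent.Monster Cfsg.Agent.MonsterX Cfsg.Agent.MonsterX.Space
open Cfsg.Agent.Monster.PauliBasic Cfsg.Agent.Monster.PauliClif Cfsg.Agent.Monster.PauliRep
open Cfsg.Agent.Monster.PauliBits (bit bit_xor bit_and bit_shiftRight bit_shiftLeft bit_zero bit_eq_zero_of_lt)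
open Cfsg.Agent.MonsterX.KAsm Cfsg.Agent.MonsterX.Short Cfsg.Agent.MonsterX.Psi
open Cfsg.Agent.MonsterX.KInst (labFacts)
open Cfsg.Agent.H831.FF (mat)
open Cfsg.Agent.H155.TC.Pau (tr)
open Cfsg.Agent.H155.TC.Val (conj_iota ι_inj exists_act' mat_neg neg_sq)
open Cfsg.Agent.BpSpor.MBigModel (MG zz pi chart)
open Cfsg.Agent.SporadicA.Co0Basic (negCo0 negCo0_mem_center eq_one_or_neg_of_mem_center)
open Cfsg.Agent.Lib.BitNet (value)
open Cfsg.Agent.H264.TC.NoReal39 (CL)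
open Cfsg.Agent.MonsterX.LaneLab (XL)
open Cfsg.Agent.H68.CoMdl (val_lt)
open Subgroup (centralizer mem_centralizer_singleton_iff)
open Finset

/-- the embedding of `Q` -/
noncomputable abbrev io : Pauli 12 →* MG := KDone.K.ι

theorem io_z : io (Pauli.z 12) = zz := rfl

/-- the action of an element of `MG` -/
abbrev Ac (k : MG) (A : Co0) (α : Pauli 12 ≃* Pauli 12) (T : (B 12 → ℚ) ≃ₗ[ℚ] (B 12 → ℚ)) : Prop :=
  Act (k : V ≃ₗ[ℚ] V) A α T

variable {k l : MG} {A A' : Co0} {α α' : Pauli 12 ≃* Pauli 12} {T T' : (B 12 → ℚ) ≃ₗ[ℚ] (B 12 → ℚ)}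

theorem ac_io (p : Pauli 12) : Ac (io p) 1 (MulAut.conj p) (rho ℚ p) where
  act_u v := by rw [one_smul]; exact (iotaE_pair KDone.R labFacts p).act_u v
  compat v := by
    rw [one_smul]
    obtain ⟨x, hx⟩ : ∃ x : Pauli 12, ab x = psi v := ⟨mkP (psi v), rfl⟩
    rw [← hx, quo_ab, MulAut.conj_apply, Pauli.conj_eq]
    rfl
  act_X x := (iotaE_pair KDone.R labFacts p).act_X x
  act_Θ f v := by rw [one_smul]; exact (iotaE_pair KDone.R labFacts p).act_Θ f _
  act_ρ q f := by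
    rw [← LinearEquiv.mul_apply, ← LinearEquiv.mul_apply, ← map_mul, ← map_mul, MulAut.conj_apply, inv_mul_cancel_right]

theorem Ac.mul (h : Ac k A α T) (h' : Ac l A' α' T') : Ac (k * l) (A * A') (α * α') (T * T') := Act.mul h h'

theorem Ac.inv (h : Ac k A α T) : Ac k⁻¹ A⁻¹ α⁻¹ T⁻¹ := Act.inv h

theorem Ac.pow (h : Ac k A α T) : ∀ n : ℕ, Ac (k ^ n) (A ^ n) (α ^ n) (T ^ n)
  | 0 => by simp only [pow_zero]; exact Act.one
  | n + 1 => by simp only [pow_succ]; exact (h.pow n).mul h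

theorem Ac.cl (h : Ac k A α T) : Cl α T := cl_of_act k.2 h

theorem Ac.comm (h : Ac k A α T) : k * zz = zz * k := hat_comm (x := (k, A, α, T)) h

theorem Ac.tV (h : Ac k A α T) : tV k = ((mat A).trace ^ 2 + (mat (A * A)).trace) / 2 + sS α + tr T * (mat A).trace :=
  trace_gen h

theorem Ac.pi (h : Ac k A α T) : pi ⟨k, mem_centralizer_singleton_iff.2 h.comm⟩ = QuotientGroup.mk A :=
  LThreeMB.KChart.pi_eq LThreeB.Row.cent (c := ⟨k, mem_centralizer_singleton_iff.2 h.comm⟩) (A := A) h.act_u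

theorem neg_smul' (A : Co0) (v : leechLattice) : (negCo0 * A) • v = -(A • v) := by
  rw [mul_smul]
  rfl

theorem rt_neg (v : leechLattice) : CoGens.rt (-v) = -CoGens.rt v := by
  funext p
  show ((((-v : leechLattice) : GolayPt → ℤ) p : ℤ) : ℚ) = _
  rw [AddSubgroup.coe_neg, Pi.neg_apply]
  push_cast
  rfl

/-- the other preimage -/
theorem Ac.neg (h : Ac k A α T) : Ac k (negCo0 * A) α (rho ℚ (Pauli.z 12) * T) where
  act_u v := by rw [neg_smul', KLinkInst.u_neg]; exact h.act_u v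
  compat v := by
    rw [neg_smul', ← h.compat v, map_neg]
    exact neg_eq_of_add_eq_zero_left (Prod.ext (funext fun _ => zmod2_add_self _) (funext fun _ => zmod2_add_self _))
  act_X := h.act_X
  act_Θ f v := by
    rw [neg_smul', rt_neg, LinearEquiv.mul_apply, rho_z, map_neg, map_neg, LinearMap.neg_apply, neg_neg]
    exact h.act_Θ f v
  act_ρ p f := by
    rw [LinearEquiv.mul_apply, LinearEquiv.mul_apply, rho_z, rho_z, map_neg, h.act_ρ]

theorem neg_comm (A : Co0) : A * negCo0 = negCo0 * A := Subgroup.mem_center_iff.1 negCo0_mem_center A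

theorem mk_cases (h : (QuotientGroup.mk A : Spor.Co1) = QuotientGroup.mk A') : A' = A ∨ A' = negCo0 * A := by
  obtain ⟨c, hc, rfl⟩ := Cfsg.Agent.MonsterU.Lam2.mk_eq_mk.1 h
  rcases eq_one_or_neg_of_mem_center hc with rfl | rfl
  · exact Or.inl (mul_one A)
  · exact Or.inr (neg_comm A)

theorem exists_ac (x : centralizer ({zz} : Set MG)) {A : Co0} (h : pi x = QuotientGroup.mk A) : ∃ α T, Ac x A α T := by
  obtain ⟨A', α, T, h1, h2⟩ := exists_act' x
  rcases mk_cases (h2.symm.trans h) with rfl | rfl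
  · exact ⟨α, T, h1⟩
  · exact ⟨α, _, Ac.neg h1⟩

theorem Ac.alpha (h : Ac k A α T) (p : Pauli 12) : io (α p) = k * io p * k⁻¹ := by
  rw [conj_iota h p, mul_inv_cancel_right]

theorem Ac.alpha_eq (h : Ac k A α T) (h' : Ac k A' α' T') : α = α' :=
  MulEquiv.ext fun p => ι_inj ((h.alpha p).trans (h'.alpha p).symm)

theorem Theta_inj {f g : B 12 → ℚ} {v : leechLattice} (hv : sqNorm (v : GolayPt → ℤ) = 64)
    (h : KRows.Θ f (CoGens.rt v) = KRows.Θ g (CoGens.rt v)) : f = g := by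
  have h1 : KRows.Θ (f - g) (CoGens.rt v) = 0 := by rw [map_sub, LinearMap.sub_apply, h, sub_self]
  have h2 := H155.TC.Val.F_ΘΘ (f - g) (f - g) (CoGens.rt v) (CoGens.rt v)
  rw [h1, map_zero, H155.TC.Val.rt_dot] at h2
  have h3 : dotInt (v : GolayPt → ℤ) (v : GolayPt → ℤ) = 64 := by
    rw [← hv]
    exact sum_congr rfl fun i _ => (sq _).symm
  rw [h3] at h2
  have h4 : (f - g) ⬝ᵥ (f - g) = 0 := by
    push_cast at h2
    linarith
  exact sub_eq_zero.1 (dotProduct_self_eq_zero.1 h4)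

theorem sqNorm_e8 (i : GolayPt) : sqNorm ((SporadicStructure.Co0Base.e8 i : leechLattice) : GolayPt → ℤ) = 64 := by
  rw [SporadicStructure.Co0Base.e8_coe, sqNorm, sum_eq_single i]
  · rw [Pi.single_eq_same]; norm_num
  · intro b _ hb
    rw [Pi.single_eq_of_ne hb]; norm_num
  · intro h
    exact absurd (mem_univ _) h

theorem Ac.T_eq (h : Ac k A α T) (h' : Ac k A α' T') : T = T' := by
  refine LinearEquiv.ext fun f => Theta_inj (v := A • SporadicStructure.Co0Base.e8 none) ?_ ?_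
  · rw [LeechMat.Core.co0_sqNorm, sqNorm_e8]
  · rw [← h.act_Θ, ← h'.act_Θ]

theorem Ac.exists_io (h : Ac k A α T) (h1 : (QuotientGroup.mk A : Spor.Co1) = 1) : ∃ p, k = io p := by
  have h2 := h.pi
  rw [h1, chart.pi_eq_one] at h2
  obtain ⟨p, hp⟩ := h2
  exact ⟨p, hp.symm⟩

theorem mk_of_io {p : Pauli 12} (h : Ac (io p) A α T) : (QuotientGroup.mk A : Spor.Co1) = 1 := by
  rw [← h.pi, (ac_io p).pi]
  rfl

/-! ### inner automorphisms -/

/-- exchange of the halves -/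
def sw (c : ℕ) : ℕ := (c >>> 12) ^^^ ((c % 2 ^ 12) <<< 12)

theorem bit_mod (c m k : ℕ) : bit (c % 2 ^ m) k = if k < m then bit c k else 0 := by
  unfold bit
  rw [Nat.testBit_mod_two_pow]
  by_cases h : k < m <;> simp [h]

theorem bit_sw_lo (c : ℕ) {k : ℕ} (hk : k < 12) : bit (sw c) k = bit c (12 + k) := by
  unfold sw
  rw [bit_xor, bit_shiftRight, bit_shiftLeft, if_neg (by omega), add_zero]

theorem bit_hi {c : ℕ} (hc : c < 2 ^ 24) {k : ℕ} (hk : 24 ≤ k) : bit c k = 0 :=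
  bit_eq_zero_of_lt (lt_of_lt_of_le hc (Nat.pow_le_pow_right (by norm_num) hk))

theorem bit_sw_hi {c : ℕ} (hc : c < 2 ^ 24) {k : ℕ} (hk : k < 12) : bit (sw c) (12 + k) = bit c k := by
  unfold sw
  rw [bit_xor, bit_shiftRight, bit_shiftLeft, if_pos (by omega), bit_hi hc (by omega), zero_add, bit_mod,
    Nat.add_sub_cancel_left, if_pos hk]

theorem sw_lt {c : ℕ} (hc : c < 2 ^ 24) : sw c < 2 ^ 24 := by
  unfold sw
  refine Nat.xor_lt_two_pow ?_ ?_
  · rw [Nat.shiftRight_eq_div_pow]; omega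
  · rw [Nat.shiftLeft_eq]; omega

theorem sw_sw {c : ℕ} (hc : c < 2 ^ 24) : sw (sw c) = c := by
  refine eq_of_bit (sw_lt (sw_lt hc)) hc fun k hk => ?_
  rcases Nat.lt_or_ge k 12 with h | h
  · rw [bit_sw_lo _ h, bit_sw_hi hc h]
  · obtain ⟨j, rfl⟩ := Nat.exists_eq_add_of_le h
    rw [bit_sw_hi (sw_lt hc) (by omega), bit_sw_lo _ (by omega)]

theorem sw_zero : sw 0 = 0 := rfl

theorem bt_sw {c : ℕ} (hc : c < 2 ^ 24) : bt (sw c) (sw c) = bt c c := by
  unfold bt p12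
  refine sum_congr rfl fun k hk => ?_
  rw [bit_and, bit_and, bit_shiftRight, bit_shiftRight, bit_sw_lo _ (mem_range.1 hk), bit_sw_hi hc (mem_range.1 hk),
    mul_comm]

theorem form_eq (t : ZMod 2) {c : ℕ} (hc : c < 2 ^ 24) (e : ℕ) : Pauli.form (ps t c) (pc e) = dt (sw c) e := by
  have h1 : Pauli.form (ps t c) (pc e) = bt c e + bt e c := by
    rw [← bt_eq, ← bt_eq]
    rfl
  rw [h1]
  unfold dt bt p12
  rw [show 24 = 12 + 12 from rfl, sum_range_add, add_comm]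
  refine congrArg₂ (· + ·) (sum_congr rfl fun k hk => ?_) (sum_congr rfl fun k hk => ?_)
  · rw [bit_and, bit_shiftRight, bit_sw_lo _ (mem_range.1 hk), mul_comm]
  · rw [bit_and, bit_shiftRight, bit_sw_hi hc (mem_range.1 hk)]

theorem conj_pc (t : ZMod 2) {c : ℕ} (hc : c < 2 ^ 24) (e : ℕ) :
    MulAut.conj (ps t c) (pc e) = ps (dt (sw c) e) e := by
  rw [MulAut.conj_apply, Pauli.conj_eq, form_eq t hc]
  exact Pauli.ext (zero_add _) rfl rfl

theorem sv_mul_conj {r : ℕ → ℕ} (h : Ind α r) (t : ZMod 2) {c : ℕ} (hc : c < 2 ^ 24) (e : ℕ) :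
    sv (α * MulAut.conj (ps t c)) e = dt (sw c) e + sv α e := by
  unfold sv
  show (α (MulAut.conj (ps t c) (pc e))).s = _
  rw [conj_pc t hc, h.eq']
  rfl

theorem Sv.mul_conj {r : ℕ → ℕ} (h : Ind α r) {s : ℕ} (hs : Sv α s) (t : ZMod 2) {c : ℕ} (hc : c < 2 ^ 24) :
    Sv (α * MulAut.conj (ps t c)) (sw c ^^^ s) := by
  intro k hk
  rw [sv_mul_conj h t hc, dt_two_pow _ hk, hs k hk, bit_xor]

theorem ind_one : Ind 1 id := fun _ => rfl

theorem sv_one : Sv 1 0 := fun k _ => (bit_zero k).symm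

theorem sv_conj (t : ZMod 2) {c : ℕ} (hc : c < 2 ^ 24) : Sv (MulAut.conj (ps t c)) (sw c) := by
  have := sv_one.mul_conj ind_one t hc
  rwa [one_mul, Nat.xor_zero] at this

theorem exists_sv (α : Pauli 12 ≃* Pauli 12) : ∃ s < 2 ^ 24, Sv α s := by
  refine ⟨PauliBits.idx (n := 24) fun k => sv α (2 ^ k.val), PauliBits.idx_lt _, fun k hk => ?_⟩
  exact (PauliBits.bit_idx (n := 24) (fun k => sv α (2 ^ k.val)) ⟨k, hk⟩).symm

theorem ps_sq (t : ZMod 2) (c : ℕ) : ps t c * ps t c = ps (bt c c) 0 := by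
  rw [ps_mul, zmod2_add_self, zero_add, Nat.xor_self]

theorem ps_inj {t u : ZMod 2} {a b : ℕ} (ha : a < 2 ^ 24) (hb : b < 2 ^ 24) (h : ps t a = ps u b) : t = u ∧ a = b :=
  ⟨congrArg Pauli.s h, ab_pc_inj ha hb (show ab (ps t a) = ab (ps u b) from congrArg ab h)⟩

/-! ### the traces of `1` and `z` -/

theorem phi_one (c : ℕ) : phi 1 c = 1 := if_pos rfl

theorem cnt_XL : cnt XL = 98280 := by
  rw [← LaneVec.card_XL, card_filter]
  refine sum_congr rfl fun i _ => ?_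
  cases XL.testBit i <;> rfl

theorem sS_one : sS 1 = 98280 := by
  have h := sum_mask 0 XL
  rw [Nat.zero_and, cnt_zero, cnt_XL] at h
  unfold sS
  simp only [phi_one]
  simp only [bit_zero, sg_zero] at h
  rw [h]
  norm_num

theorem trace_mat_one : (mat (1 : Co0)).trace = 24 := by
  rw [map_one, Matrix.trace_one, H155.TC.Val.card_pt]
  rfl

theorem tr_one : tr (1 : (B 12 → ℚ) ≃ₗ[ℚ] (B 12 → ℚ)) = 4096 := by
  have h := tr_rho_ch (n := 12) 1 1
  rw [inv_one, mul_one, map_one, ch, if_pos rfl] at h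
  rw [h]
  norm_num

theorem tV_one : tV 1 = 196884 := by
  rw [Ac.tV (k := 1) Act.one, mul_one, trace_mat_one, sS_one, tr_one]
  norm_num

theorem conj_z : MulAut.conj (Pauli.z 12) = 1 := by
  ext1 x
  rw [MulAut.conj_apply, KInst.zc_comm, mul_inv_cancel_right]
  rfl

theorem tV_zz : tV zz = 276 := by
  rw [← io_z, (ac_io _).tV, mul_one, trace_mat_one, conj_z, sS_one, tr_rho_z]
  norm_num

end Cfsg.Agent.TAB.C2B
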