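import Cfsg.Agent.TAB.C2B.Snd

/-!
# The enumeration of a coset of `2^(1+24)` : the powers (helper47)

`LvOk` : the data of a power are correct; `LvI` : what is known after the power has been treated; `sgF_spec`.
-/

set_option autoImplicit false
set_option maxRecDepth 100000

namespace Cfsg.Agent.TAB.C2B

open Cfsg.Agent.Monster.PauliBasic Cfsg.Agent.Monster.PauliClif Cfsg.Agent.Monster.PauliRep
open Cfsg.Agent.Monster.PauliBits (bit bit_xor bit_and bit_shiftRight bit_zero bit_eq_zero_of_lt)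
open Cfsg.Agent.H123.Cls
open Cfsg.Agent.Lib.BitNetSimple (force force_eq)
open Cfsg.Agent.Lib.BitNet (value)
open Cfsg.Agent.H68.CoMdl (val_lt lenC)
open Cfsg.Agent.H264.TC.NoReal39 (CL)
open Cfsg.Agent.MonsterX.LaneLab (XL)
open Cfsg.Agent.H155.TC.Pau (tr)
open Finset

/-- default -/
def dL : LD := ⟨0, [], [], [], [], 0, 0, [], 0, 0, 0, 0, 0, [], false, 0, 0⟩

/-- the value of the trace on the spin space -/
def tv (τ h : ℕ) : ℤ := if τ = 1 then 2 ^ h else if τ = 2 then -2 ^ h else 0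

theorem tv_zero (h : ℕ) : tv 0 h = 0 := rfl
theorem tv_one (h : ℕ) : tv 1 h = 2 ^ h := rfl
theorem tv_two (h : ℕ) : tv 2 h = -2 ^ h := rfl

/-- the data are correct -/
structure LvOk (R b1 : List ℕ) (done : List LD) (L : LD) : Prop where
  bs : Bs (xc R)^[L.d] L.b L.us
  rl : L.Rd.length = 24
  rd : ∀ c < 2 ^ 24, (xc R)^[L.d] c = xc L.Rd c
  hb : L.b.length = 2 * L.h
  sg : ∀ (α : Pauli 12 ≃* Pauli 12) (s : ℕ), Ind α (xc R) → Sv α s → Sg (α ^ L.d) L.b (L.w ^^^ xc L.La (lam b1 s))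
  pw : 0 < L.pw
  pk : 2 ^ 17 ≤ L.pw * 2 ^ L.pk
  nl : L.n < 2 ^ L.pw - 1
  n : cnt (fxM CL XL L.Rd) = L.n
  md : (L.md = 0 ∧ L.d = 1) ∨
    (L.md = 2 ∧ L.pv < done.length ∧ (done.getD L.pv dL).d * 2 = L.d ∧ L.pb = (done.getD L.pv dL).b ∧
      L.pb.length ≤ 16) ∨
    (L.md ≠ 0 ∧ L.md ≠ 2 ∧ L.md.Prime ∧ L.pv < done.length ∧ (done.getD L.pv dL).d * L.md = L.d ∧
      ¬ (L.md : ℤ) ∣ 2 ^ L.h ∧ (L.same = true → ¬ (L.md : ℤ) ∣ 2 ^ L.h + 2 ^ (done.getD L.pv dL).h) ∧
      (L.same = false → ¬ (L.md : ℤ) ∣ 2 ^ L.h - 2 ^ (done.getD L.pv dL).h))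

/-- all data are correct -/
def AllOk (R b1 : List ℕ) : List LD → List LD → Prop
  | _, [] => True
  | done, L :: l => LvOk R b1 done L ∧ AllOk R b1 (L :: done) l

theorem AllOk_realised : True := by have := @AllOk.eq_def; trivial

/-- the result for one power -/
structure LvI (R : List ℕ) (α : Pauli 12 ≃* Pauli 12) (T : (B 12 → ℚ) ≃ₗ[ℚ] (B 12 → ℚ)) (L : LD) (e τ x : ℕ) :
    Prop where
  bs : Bs (xc R)^[L.d] L.b L.us
  rd : ∀ c < 2 ^ 24, (xc R)^[L.d] c = xc L.Rd c
  sg : Sg (α ^ L.d) L.b e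
  tr : tr (T ^ L.d) = tv τ L.h
  lt : τ < 3
  x1 : x % 4 = τ
  x2 : sS (α ^ L.d) = (L.n : ℚ) - 2 * (x / 4 : ℕ)

/-- the result for the powers treated -/
def Inv (R : List ℕ) (α : Pauli 12 ≃* Pauli 12) (T : (B 12 → ℚ) ≃ₗ[ℚ] (B 12 → ℚ)) (done : List LD)
    (es ts out : List ℕ) : Prop :=
  ∀ i < done.length, LvI R α T (done.getD i dL) (es.getD i 0) (ts.getD i 0) (out.getD i 0)

/-- the sign `η` is admissible -/
def Val (η : ℕ) (T : (B 12 → ℚ) ≃ₗ[ℚ] (B 12 → ℚ)) : Prop := (η = 1 ∧ 0 ≤ tr T) ∨ (η = 2 ∧ tr T ≤ 0)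

variable {R b1 : List ℕ} {α : Pauli 12 ≃* Pauli 12} {T : (B 12 → ℚ) ≃ₗ[ℚ] (B 12 → ℚ)} {s η : ℕ} {done : List LD}
  {L : LD} {es ts out : List ℕ}

theorem beq_false {a b : ℕ} (h : a ≠ b) : Nat.beq a b = false := by
  cases h1 : Nat.beq a b
  · rfl
  · exact absurd (Nat.eq_of_beq_eq_true h1) h

theorem pm_of_sq {x : ℚ} {h : ℕ} (hx : x * x = 2 ^ (2 * h)) : x = 2 ^ h ∨ x = -2 ^ h := by
  have h1 : (x - 2 ^ h) * (x + 2 ^ h) = 0 := by
    rw [mul_comm 2 h, pow_mul] at hx
    linear_combination hx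
  rcases mul_eq_zero.1 h1 with h2 | h2
  · left; linarith
  · right; linarith

theorem tau_spec (hL : LvOk R b1 done L) (h : Ind α (xc R)) (hT : Cl α T) (hη : Val η T)
    (hI : Inv R α T done es ts out) {e : ℕ} (he : Sg (α ^ L.d) L.b e) :
    tr (T ^ L.d) = tv (tauF (cmb 18 13) (mkPL CL XL L) η e es ts) L.h ∧
      tauF (cmb 18 13) (mkPL CL XL L) η e es ts < 3 := by
  have hsq := hL.bs.sq (h.pow L.d) he (hT.pow L.d)
  have hp : (0 : ℚ) < 2 ^ L.h := by positivity
  unfold tauF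
  rcases beq_zero_or e with ⟨h1, h2⟩ | ⟨h1, h2⟩
  swap
  · rw [h1, cnd_false, tv_zero]
    rw [if_neg h2] at hsq
    exact ⟨by simpa using hsq, by norm_num⟩
  rw [h1, cnd_true]
  rw [if_pos h2, hL.hb] at hsq
  have hpm := pm_of_sq hsq
  have hmd : (mkPL CL XL L).L = L := rfl
  rw [hmd]
  rcases hL.md with ⟨h3, h4⟩ | ⟨h3, h4, h5, h6, h7⟩ | ⟨h3, h3', h4, h5, h6, h7, h8, h9⟩
  · rw [h3, Nat.beq_refl, cnd_true]
    rw [h4, pow_one] at hpm ⊢
    rcases hη with ⟨rfl, h5⟩ | ⟨rfl, h5⟩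
    · refine ⟨?_, by norm_num⟩
      rw [tv_one]
      push_cast
      rcases hpm with h6 | h6
      · exact h6
      · linarith
    · refine ⟨?_, by norm_num⟩
      rw [tv_two]
      push_cast
      rcases hpm with h6 | h6
      · linarith
      · exact h6
  · rw [h3, show Nat.beq 2 0 = false from rfl, cnd_false, Nat.beq_refl, cnd_true, force_eq, nth_eq]
    have hP := hI _ h4
    have h8 := hP.bs.two (h.pow _) hP.sg (hT.pow _)
    rw [← pow_add, ← mul_two, h5] at h8
    have h9 := gP_eq (P := mkPL CL XL L) (b := (done.getD L.pv dL).b) (h6 ▸ h7) (by rw [← h6]; exact lenF_eq _)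
      (by rw [← h6, ← lenF_eq]; rfl) hP.sg.1
    rw [h9] at h8
    have h10 : (mkPL CL XL L).fb = (done.getD L.pv dL).b.length := by rw [← h6]; exact lenF_eq _
    rw [h10]
    generalize gP (cmb 18 13) (mkPL CL XL L) (es.getD L.pv 0) = g at h8 ⊢
    generalize (done.getD L.pv dL).b.length = m at h8 ⊢
    cases h11 : Nat.blt (Nat.mul 2 g) (Nat.pow 2 m)
    · rw [cnd_false, tv_two]
      refine ⟨?_, by norm_num⟩
      have h12 : 2 ^ m ≤ 2 * g := by
        by_contra hc
        have h13 : Nat.blt (Nat.mul 2 g) (Nat.pow 2 m) = true := Nat.blt_eq.mpr (not_le.1 hc)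
        rw [h13] at h11
        exact absurd h11 (by decide)
      have h13 : (2 : ℚ) ^ m ≤ 2 * g := by exact_mod_cast h12
      push_cast
      rcases hpm with h14 | h14
      · linarith
      · exact h14
    · rw [cnd_true, tv_one]
      refine ⟨?_, by norm_num⟩
      have h12 : 2 * g < 2 ^ m := Nat.blt_eq.mp h11
      have h13 : (2 : ℚ) * g < 2 ^ m := by exact_mod_cast h12
      push_cast
      rcases hpm with h14 | h14
      · exact h14
      · linarith
  · have e0 : Nat.beq L.md 0 = false := beq_false h3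
    have e2 : Nat.beq L.md 2 = false := beq_false h3'
    rw [e0, cnd_false, e2, cnd_false, nth_eq]
    have hP := hI _ h5
    have key : ∀ b : ℤ, tr (T ^ L.d) = b → (L.md : ℤ) ∣ b - tv (ts.getD L.pv 0) (done.getD L.pv dL).h := by
      intro b hb
      refine (hT.pow _).tr_congr h4 hP.tr ?_
      rw [← pow_mul, h6, hb]
    have hlt := hP.lt
    generalize ts.getD L.pv 0 = τ at key hlt ⊢
    generalize (done.getD L.pv dL).h = h' at key h8 h9
    have k1 : tr (T ^ L.d) = 2 ^ L.h → (L.md : ℤ) ∣ 2 ^ L.h - tv τ h' := fun hh => key _ (by rw [hh]; push_cast; rfl)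
    have k2 : tr (T ^ L.d) = -2 ^ L.h → (L.md : ℤ) ∣ 2 ^ L.h + tv τ h' := fun hh => by
      have := key (-2 ^ L.h) (by rw [hh]; push_cast; rfl)
      rw [← dvd_neg, show -(-2 ^ L.h - tv τ h') = 2 ^ L.h + tv τ h' by ring] at this
      exact this
    interval_cases τ
    · exfalso
      rw [tv_zero] at k1 k2
      rcases hpm with h10 | h10
      · exact h7 (by simpa using k1 h10)
      · exact h7 (by simpa using k2 h10)
    · rw [tv_one] at k1 k2
      cases h11 : L.same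
      · rw [cnd_false]
        refine ⟨?_, by decide⟩
        rw [show Nat.sub 3 1 = 2 from rfl, tv_two]
        push_cast
        exact hpm.resolve_left fun h10 => h9 h11 (k1 h10)
      · rw [cnd_true, tv_one]
        refine ⟨?_, by decide⟩
        push_cast
        exact hpm.resolve_right fun h10 => h8 h11 (k2 h10)
    · rw [tv_two] at k1 k2
      cases h11 : L.same
      · rw [cnd_false]
        refine ⟨?_, by decide⟩
        rw [show Nat.sub 3 2 = 1 from rfl, tv_one]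
        push_cast
        exact hpm.resolve_right fun h10 => h9 h11 (by simpa [sub_eq_add_neg] using k2 h10)
      · rw [cnd_true, tv_two]
        refine ⟨?_, by decide⟩
        push_cast
        exact hpm.resolve_left fun h10 => h8 h11 (by simpa using k1 h10)

theorem LvOk.fx (hL : LvOk R b1 done L) (j : ℕ) : (fxM CL XL L.Rd).testBit j = true ↔
    XL.testBit j = true ∧ (xc R)^[L.d] (value CL j) = value CL j := by
  rw [testBit_fxM hL.rl fun c hc => by rw [← hL.rd c hc]; exact hL.bs.r_lt c hc, hL.rd _ (val_lt j)]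

theorem XL_lt {j : ℕ} (h : XL.testBit j = true) : j < 2 ^ 17 :=
  lt_of_lt_of_eq (Cfsg.Agent.MonsterX.LaneVec.lt_of_XL h) (by norm_num)

theorem sN_spec (hL : LvOk R b1 done L) (h : Ind α (xc R)) {e : ℕ} (he : Sg (α ^ L.d) L.b e) :
    sS (α ^ L.d) = (L.n : ℚ) - 2 * sN CL (mkPL CL XL L) e := by
  have h1 := sum_sN (P := mkPL CL XL L) rfl hL.pw hL.pk (fun i hi => XL_lt ((hL.fx i).1 hi).1)
    (by show cnt (fxM CL XL L.Rd) < _; rw [hL.n]; exact hL.nl) e
  have h2 : cnt (mkPL CL XL L).Fx = L.n := hL.n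
  rw [h2] at h1
  rw [← h1, hL.bs.short (h.pow L.d) he]
  refine sum_congr rfl fun j _ => ?_
  have h3 : (mkPL CL XL L).Fx.testBit j = true ↔ _ := hL.fx j
  exact if_congr h3.symm rfl rfl

theorem sgF_spec (h : Ind α (xc R)) (hs : Sv α s) (hT : Cl α T) (hη : Val η T) : ∀ (l done : List LD)
    (es ts out : List ℕ), AllOk R b1 done l → Inv R α T done es ts out → ∃ es' ts' out',
      (∀ κ, sgF CL (cmb 18 13) η (lam b1 s) (l.map (mkPL CL XL)) es ts out κ = κ es' out') ∧
      Inv R α T (l.reverse ++ done) es' ts' out'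
  | [], done, es, ts, out, _, hI => ⟨es, ts, out, fun _ => rfl, hI⟩
  | L :: l, done, es, ts, out, hA, hI => by
    have hL : LvOk R b1 done L := hA.1
    have he := hL.sg α s h hs
    obtain ⟨h1, h2⟩ := tau_spec hL h hT hη hI he
    have h3 := sN_spec hL h he
    have hI' : Inv R α T (L :: done) ((L.w ^^^ xc L.La (lam b1 s)) :: es)
        (tauF (cmb 18 13) (mkPL CL XL L) η (L.w ^^^ xc L.La (lam b1 s)) es ts :: ts)
        ((4 * sN CL (mkPL CL XL L) (L.w ^^^ xc L.La (lam b1 s)) +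
          tauF (cmb 18 13) (mkPL CL XL L) η (L.w ^^^ xc L.La (lam b1 s)) es ts) :: out) := by
      intro i hi
      cases i with
      | zero =>
        simp only [List.getD_cons_zero]
        refine ⟨hL.bs, hL.rd, he, h1, h2, by omega, ?_⟩
        rw [h3]
        generalize sN CL (mkPL CL XL L) (L.w ^^^ xc L.La (lam b1 s)) = y
        generalize tauF (cmb 18 13) (mkPL CL XL L) η (L.w ^^^ xc L.La (lam b1 s)) es ts = τ at h2
        rw [show (4 * y + τ) / 4 = y by omega]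
      | succ i =>
        simp only [List.getD_cons_succ]
        exact hI i (by simpa using hi)
    obtain ⟨es', ts', out', h4, h5⟩ := sgF_spec h hs hT hη l (L :: done) _ _ _ hA.2 hI'
    refine ⟨es', ts', out', fun κ => ?_, by rwa [List.reverse_cons, List.append_assoc]⟩
    rw [← h4 κ]
    have e : sgF CL (cmb 18 13) η (lam b1 s) ((L :: l).map (mkPL CL XL)) es ts out κ =
      force (xF L.La (lam b1 s) L.w) fun e => force (tauF (cmb 18 13) (mkPL CL XL L) η e es ts) fun τ =>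
        force (Nat.add (Nat.mul 4 (sN CL (mkPL CL XL L) e)) τ) fun x =>
          sgF CL (cmb 18 13) η (lam b1 s) (l.map (mkPL CL XL)) (e :: es) (τ :: ts) (x :: out) κ := rfl
    rw [e, force_eq, force_eq, force_eq, xF_eq]
    rfl

end Cfsg.Agent.TAB.C2B
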