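import Cfsg.Agent.TAB.C2B.Chk

/-!
# Matrices of words in `Co0` and their traces (helper47)

`Rm A l` : the columns of `8 A` have the codes `l`; `chain_spec` : traces of powers; `evM_spec` : words.
-/

set_option autoImplicit false
set_option maxRecDepth 100000

namespace Cfsg.Agent.TAB.C2B

open Cfsg
open Cfsg.Agent.H123.Cls
open Cfsg.Agent.Lib.BitNetSimple (force force_eq)
open Cfsg.Agent.LeechMat.Code Cfsg.Agent.LeechMat.Elements Cfsg.Agent.LeechMat.Core
open Cfsg.Agent.SporadicStructure.Co0Base (e8 e8_coe eight_mul_co0)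
open Cfsg.Agent.H831.FF (mat)
open Cfsg.Agent.H68.CoGen (colA colB gA gB gA_spec gB_spec)
open Finset

theorem dig_sum : ∀ (m : ℕ) (f : ℕ → ℕ), (∀ j < m, f j < 32) → ∀ j < m, dig (∑ i ∈ range m, f i * 32 ^ i) j = f j
  | 0, _, _, j, hj => absurd hj (by simp)
  | m + 1, f, hf, j, hj => by
    have e : ∑ i ∈ range (m + 1), f i * 32 ^ i = f 0 + 32 * ∑ i ∈ range m, f (i + 1) * 32 ^ i := by
      rw [sum_range_succ', mul_sum, pow_zero, mul_one, add_comm]
      exact congrArg₂ (· + ·) rfl (sum_congr rfl fun i _ => by ring)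
    have h0 := hf 0 (by omega)
    rw [e]
    cases j with
    | zero => rw [dig_zero]; omega
    | succ j =>
      rw [← dig_shift, Nat.shiftRight_eq_div_pow,
        show (f 0 + 32 * ∑ i ∈ range m, f (i + 1) * 32 ^ i) / 2 ^ 5 = ∑ i ∈ range m, f (i + 1) * 32 ^ i by omega]
      exact dig_sum m (fun i => f (i + 1)) (fun i hi => hf _ (by omega)) j (by omega)

theorem sum_dig : ∀ (m n : ℕ), n < 32 ^ m → ∑ i ∈ range m, dig n i * 32 ^ i = n
  | 0, n, h => by simp at h; simp [h]
  | m + 1, n, h => by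
    have h1 : n >>> 5 < 32 ^ m := by
      rw [Nat.shiftRight_eq_div_pow, pow_succ] at *
      omega
    have h2 := sum_dig m _ h1
    rw [sum_range_succ', pow_zero, mul_one, dig_zero]
    have h3 : ∑ i ∈ range m, dig n (i + 1) * 32 ^ (i + 1) = 32 * (n >>> 5) := by
      rw [← h2, mul_sum]
      exact sum_congr rfl fun i _ => by rw [dig_shift]; ring
    rw [h3, Nat.shiftRight_eq_div_pow]
    omega

/-- entry of `8 A` -/
noncomputable def en (A : Co0) (j k : ℕ) : ℤ := ((A • e8 (pt k) : leechLattice) : GolayPt → ℤ) (pt j)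

theorem en_bd (A : Co0) (j k : ℕ) : -8 ≤ en A j k ∧ en A j k ≤ 8 := by
  have h1 := sq_le_sqNorm ((A • e8 (pt k) : leechLattice) : GolayPt → ℤ) (pt j)
  have h2 : sqNorm ((e8 (pt k) : leechLattice) : GolayPt → ℤ) = 64 := by
    rw [e8_coe, sqNorm, sum_eq_single (pt k)]
    · rw [Pi.single_eq_same]; norm_num
    · intro b _ hb
      rw [Pi.single_eq_of_ne hb]; norm_num
    · intro h
      exact absurd (mem_univ _) h
  rw [co0_sqNorm, h2] at h1
  unfold en
  constructor <;> nlinarith

theorem en_mul (A B : Co0) (j k : ℕ) : 8 * en (A * B) j k = ∑ i ∈ range 24, en B i k * en A j i := by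
  unfold en
  rw [mul_smul, eight_mul_co0, sum_points']

/-- the codes of the columns -/
def Rm (A : Co0) (l : List ℕ) : Prop :=
  l.length = 24 ∧ ∀ k < 24, (l.getD k 0 : ℤ) = ∑ j ∈ range 24, (en A j k + 16) * 32 ^ j

theorem Rm.dig {A : Co0} {l : List ℕ} (h : Rm A l) {k : ℕ} (hk : k < 24) {j : ℕ} (hj : j < 24) :
    (dig (l.getD k 0) j : ℤ) = en A j k + 16 := by
  have h1 : ∀ j, ((en A j k + 16).toNat : ℤ) = en A j k + 16 := fun j =>
    Int.toNat_of_nonneg (by have := en_bd A j k; omega)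
  have h2 : l.getD k 0 = ∑ j ∈ range 24, (en A j k + 16).toNat * 32 ^ j := by
    have := h.2 k hk
    zify
    simp only [h1]
    exact this
  rw [h2, dig_sum 24 _ (fun j _ => by have := en_bd A j k; omega) j hj, h1]

theorem rm_of_spec {A : Co0} {l : List ℕ} (hl : l.length = 24) (hlt : ∀ k < 24, l.getD k 0 < 32 ^ 24)
    (h : ∀ x : leechLattice, mv l (x : GolayPt → ℤ) = (8 : ℤ) • ((A • x : leechLattice) : GolayPt → ℤ)) : Rm A l := by
  refine ⟨hl, fun k hk => ?_⟩
  rw [← sum_dig 24 _ (hlt k hk)]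
  push_cast
  refine sum_congr rfl fun j hj => ?_
  have h1 := congrFun (h (e8 (pt k))) (pt j)
  have h2 : mv l ((e8 (pt k) : leechLattice) : GolayPt → ℤ) (pt j) = 8 * sdig (l.getD k 0) j := by
    unfold mv
    rw [e8_coe, sum_eq_single (pt k)]
    · rw [Pi.single_eq_same, vec_apply, pos_pt k hk, pos_pt j (mem_range.1 hj)]
    · intro b _ hb
      rw [Pi.single_eq_of_ne hb, zero_mul]
    · intro h
      exact absurd (mem_univ _) h
  rw [h2, Pi.smul_apply, smul_eq_mul] at h1
  have h3 : sdig (l.getD k 0) j = en A j k := by unfold en; omega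
  rw [← h3]
  unfold sdig
  ring

theorem rm_A : Rm gA colA := rm_of_spec rfl (by decide +kernel) gA_spec

theorem rm_B : Rm gB colB := rm_of_spec rfl (by decide +kernel) gB_spec

/-- the offset -/
def oS : ℕ := 0x842108421084210842108421084210

theorem oS_eq : (oS : ℤ) = ∑ j ∈ range 24, 16 * 32 ^ j := by decide +kernel

/-- sum of a list -/
noncomputable def sumL (l : List ℕ) : ℕ := List.rec 0 (fun x _ ih => force ih fun y => Nat.add x y) l

theorem sumL_eq : ∀ l : List ℕ, sumL l = ∑ i ∈ range l.length, l.getD i 0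
  | [] => rfl
  | x :: l => by
    have e : sumL (x :: l) = force (sumL l) fun y => Nat.add x y := rfl
    rw [e, force_eq, sumL_eq l, List.length_cons, sum_range_succ', add_comm]
    rfl

/-- the combination of the columns -/
noncomputable def comF (l : List ℕ) : ℕ → ℕ → ℕ → (ℕ → ℕ → ℕ) → ℕ :=
  List.rec (fun _ P D κ => κ P D) (fun x _ ih m P D κ => force (Nat.mod m 32) fun d =>
    force (Nat.shiftRight m 5) fun m' => force (Nat.add P (Nat.mul d x)) fun P' => force (Nat.add D d) fun D' =>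
      ih m' P' D' κ) l

theorem comF_eq : ∀ (l : List ℕ) (m P D : ℕ) (κ : ℕ → ℕ → ℕ), comF l m P D κ =
    κ (P + ∑ i ∈ range l.length, dig m i * l.getD i 0) (D + ∑ i ∈ range l.length, dig m i)
  | [], _, _, _, _ => rfl
  | x :: l, m, P, D, κ => by
    have e : comF (x :: l) m P D κ = force (Nat.mod m 32) fun d => force (Nat.shiftRight m 5) fun m' =>
      force (Nat.add P (Nat.mul d x)) fun P' => force (Nat.add D d) fun D' => comF l m' P' D' κ := rfl
    rw [e, force_eq, force_eq, force_eq, force_eq, comF_eq l, List.length_cons, sum_range_succ', sum_range_succ']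
    have e1 : ∀ i, dig (Nat.shiftRight m 5) i = dig m (i + 1) := fun i => dig_shift m i
    simp only [e1, List.getD_cons_succ, List.getD_cons_zero]
    congr 1
    · show P + dig m 0 * x + _ = _
      ring
    · show D + dig m 0 + _ = _
      ring

/-- a column of the product -/
noncomputable def colF (l : List ℕ) (S m : ℕ) : ℕ :=
  comF l m 0 0 fun P D => Nat.div (Nat.sub (Nat.add P (Nat.mul 392 oS)) (Nat.add (Nat.mul oS D) S)) 8

/-- the product -/
noncomputable def mulM (l l' : List ℕ) (κ : List ℕ → Bool) : Bool :=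
  force (Nat.mul 16 (sumL l)) fun S => mapF (colF l S) l' κ

theorem mulM_spec {A B : Co0} {l l' : List ℕ} (h : Rm A l) (h' : Rm B l') :
    ∃ n, Rm (A * B) n ∧ ∀ κ, mulM l l' κ = κ n := by
  refine ⟨l'.map (colF l (16 * sumL l)), ⟨by rw [List.length_map, h'.1], fun k hk => ?_⟩, fun κ => ?_⟩
  · rw [List.getD_eq_getElem _ _ (by rw [List.length_map, h'.1]; exact hk), List.getElem_map,
      ← List.getD_eq_getElem _ 0, colF, comF_eq, sumL_eq, h.1, zero_add, zero_add]
    have h0 : (0 : ℤ) ≤ ∑ j ∈ range 24, (en (A * B) j k + 16) * 32 ^ j :=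
      sum_nonneg fun j _ => mul_nonneg (by have := en_bd (A * B) j k; omega) (by positivity)
    obtain ⟨x, hx⟩ := Int.eq_ofNat_of_zero_le h0
    have h1 : ∑ i ∈ range 24, dig (l'.getD k 0) i * l.getD i 0 + 392 * oS =
        oS * ∑ i ∈ range 24, dig (l'.getD k 0) i + 16 * ∑ i ∈ range 24, l.getD i 0 + 8 * x := by
      zify
      rw [← hx]
      have e1 : ∀ i ∈ range 24, (dig (l'.getD k 0) i : ℤ) = en B i k + 16 := fun i hi => h'.dig hk (mem_range.1 hi)
      have e2 : ∀ i ∈ range 24, (l.getD i 0 : ℤ) = ∑ j ∈ range 24, en A j i * 32 ^ j + oS := fun i hi => by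
        rw [h.2 i (mem_range.1 hi), oS_eq, ← sum_add_distrib]
        exact sum_congr rfl fun j _ => by ring
      have e3 : 8 * ∑ j ∈ range 24, (en (A * B) j k + 16) * 32 ^ j =
          ∑ i ∈ range 24, en B i k * ∑ j ∈ range 24, en A j i * 32 ^ j + 8 * oS := by
        simp only [mul_sum]
        rw [sum_comm, oS_eq, mul_sum, ← sum_add_distrib]
        refine sum_congr rfl fun j _ => ?_
        have := en_mul A B j k
        simp only [← mul_assoc]
        rw [← sum_mul, ← this]
        ring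
      rw [e3, sum_congr rfl fun i hi => congrArg₂ (· * ·) (e1 i hi) (e2 i hi), sum_congr rfl e1, sum_congr rfl e2]
      generalize (oS : ℤ) = o
      have e4 : ∀ (b v : ℕ → ℤ), ∑ i ∈ range 24, (b i + 16) * (v i + o) + 392 * o =
          o * ∑ i ∈ range 24, (b i + 16) + 16 * ∑ i ∈ range 24, (v i + o) + (∑ i ∈ range 24, b i * v i + 8 * o) := by
        intro b v
        have : ∑ i ∈ range 24, (b i + 16) * (v i + o) = ∑ i ∈ range 24, (o * (b i + 16) + 16 * (v i + o) + b i * v i - 16 * o) :=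
          sum_congr rfl fun i _ => by ring
        rw [this, sum_sub_distrib, sum_add_distrib, sum_add_distrib, ← mul_sum, ← mul_sum, sum_const, card_range]
        ring
      exact e4 _ _
    rw [hx]
    show ((((_ + 392 * oS) - (oS * _ + 16 * _)) / 8 : ℕ) : ℤ) = _
    rw [h1, Nat.add_sub_cancel_left, Nat.mul_div_cancel_left _ (by norm_num)]
  · rw [mulM, force_eq, mapF_eq]
    rfl

/-- the sum of the diagonal digits -/
noncomputable def trF (l : List ℕ) : ℕ → ℕ :=
  List.rec (fun _ => 0) (fun x _ ih k => force (Nat.add k 5) fun k' => force (ih k') fun y =>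
    Nat.add (Nat.mod (Nat.shiftRight x k) 32) y) l

theorem trF_eq : ∀ (l : List ℕ) (k : ℕ), trF l (5 * k) = ∑ i ∈ range l.length, dig (l.getD i 0) (k + i)
  | [], _ => rfl
  | x :: l, k => by
    have e : trF (x :: l) (5 * k) = force (Nat.add (5 * k) 5) fun k' => force (trF l k') fun y =>
      Nat.add (Nat.mod (Nat.shiftRight x (5 * k)) 32) y := rfl
    have e2 : Nat.add (5 * k) 5 = 5 * (k + 1) := rfl
    rw [e, force_eq, force_eq, e2, trF_eq l, List.length_cons, sum_range_succ']
    simp only [List.getD_cons_succ, List.getD_cons_zero, add_assoc, add_comm 1]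
    exact Nat.add_comm _ _

theorem Rm.trace {A : Co0} {l : List ℕ} (h : Rm A l) : 8 * (mat A).trace + 384 = trF l 0 := by
  have h1 := trF_eq l 0
  rw [mul_zero, h.1] at h1
  have h2 : (trF l 0 : ℤ) = ∑ i ∈ range 24, en A i i + 384 := by
    rw [h1]
    push_cast
    rw [sum_congr rfl fun i hi => by rw [zero_add, h.dig (mem_range.1 hi) (mem_range.1 hi)], sum_add_distrib]
    simp
  have h3 : ∑ i ∈ range 24, en A i i = ∑ p : GolayPt, ((A • e8 p : leechLattice) : GolayPt → ℤ) p :=
    (sum_points' fun p => ((A • e8 p : leechLattice) : GolayPt → ℤ) p).symm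
  have h4 : ((trF l 0 : ℤ) : ℚ) = ((∑ p : GolayPt, ((A • e8 p : leechLattice) : GolayPt → ℤ) p + 384 : ℤ) : ℚ) := by
    rw [h2, h3]
  push_cast at h4
  rw [h4, Matrix.trace, mul_sum]
  refine congrArg₂ (· + ·) (sum_congr rfl fun p _ => ?_) rfl
  show 8 * ((((A • e8 p : leechLattice) : GolayPt → ℤ) p : ℚ) / 8) = _
  ring

/-- the matrix of a word -/
noncomputable def evM (w : List Bool) : Bool → (List ℕ → Bool) → Bool :=
  List.rec (fun x κ => κ (cnd x colB colA)) (fun y _ ih x κ => ih y fun l => mulM (cnd x colB colA) l κ) w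

theorem evM_spec : ∀ (w : List Bool) (x : Bool), ∃ l, Rm (wG gA gB x w) l ∧ ∀ κ, evM w x κ = κ l
  | [], x => ⟨cnd x colB colA, by cases x; exacts [rm_A, rm_B], fun _ => rfl⟩
  | y :: w, x => by
    obtain ⟨l, h1, h2⟩ := evM_spec w y
    have hx : Rm (cond x gB gA) (cnd x colB colA) := by cases x; exacts [rm_A, rm_B]
    obtain ⟨n, h3, h4⟩ := mulM_spec hx h1
    refine ⟨n, h3, fun κ => ?_⟩
    rw [← h4 κ]
    exact h2 _

/-- entry of a list of lists -/
noncomputable def nthM (l : List (List ℕ)) : ℕ → List ℕ :=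
  List.rec (fun _ => []) (fun x _ ih k => Nat.rec x (fun m _ => ih m) k) l

theorem nthM_eq : ∀ (l : List (List ℕ)) (k : ℕ), nthM l k = l.getD k []
  | [], _ => rfl
  | _ :: _, 0 => rfl
  | _ :: l, k + 1 => nthM_eq l k

/-- an addition chain -/
noncomputable def chain (ins : List (ℕ × ℕ)) : List ℕ → List (List ℕ) → List ℕ → (List ℕ → List ℕ → Bool) → Bool :=
  List.rec (fun es _ ts κ => κ es ts) (fun p _ ih es ms ts κ => band (Nat.blt p.1 (lenF es)) (band (Nat.blt p.2 (lenF es))
    (force (Nat.add (nth es p.1) (nth es p.2)) fun e => mulM (nthM ms p.1) (nthM ms p.2) fun n =>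
      force (trF n 0) fun t => ih (e :: es) (n :: ms) (t :: ts) κ))) ins

theorem chain_spec (A : Co0) : ∀ (ins : List (ℕ × ℕ)) (es : List ℕ) (ms : List (List ℕ)) (ts : List ℕ)
    (κ : List ℕ → List ℕ → Bool),
    (∀ i < es.length, Rm (A ^ es.getD i 0) (ms.getD i []) ∧ 8 * (mat (A ^ es.getD i 0)).trace + 384 = (ts.getD i 0 : ℕ)) →
    chain ins es ms ts κ = true → ∃ es' ts', κ es' ts' = true ∧
      ∀ i < es'.length, 8 * (mat (A ^ es'.getD i 0)).trace + 384 = (ts'.getD i 0 : ℕ)
  | [], es, _, ts, _, h, hc => ⟨es, ts, hc, fun i hi => (h i hi).2⟩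
  | p :: ins, es, ms, ts, κ, h, hc => by
    have e : chain (p :: ins) es ms ts κ = band (Nat.blt p.1 (lenF es)) (band (Nat.blt p.2 (lenF es))
      (force (Nat.add (nth es p.1) (nth es p.2)) fun e => mulM (nthM ms p.1) (nthM ms p.2) fun n =>
        force (trF n 0) fun t => chain ins (e :: es) (n :: ms) (t :: ts) κ)) := rfl
    rw [e, lenF_eq, force_eq, nthM_eq, nthM_eq, nth_eq, nth_eq] at hc
    obtain ⟨h1, hc⟩ := band_true hc
    obtain ⟨h2, hc⟩ := band_true hc
    obtain ⟨n, h3, h4⟩ := mulM_spec (h _ (Nat.blt_eq.mp h1)).1 (h _ (Nat.blt_eq.mp h2)).1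
    rw [h4, force_eq] at hc
    rw [← pow_add] at h3
    refine chain_spec A ins _ _ _ κ (fun i hi => ?_) hc
    cases i with
    | zero => exact ⟨h3, h3.trace⟩
    | succ i => exact h i (by simpa using hi)

/-- the trace of the power `d` is in the table -/
noncomputable def hasT (d : ℕ) (a : ℤ) (es : List ℕ) : List ℕ → Bool :=
  List.rec (fun _ => false) (fun e _ ih ts => List.rec false (fun t ts' _ =>
    cnd (Nat.beq e d) (decide (Int.ofNat t = 8 * a + 384)) (ih ts')) ts) es

theorem hasT_spec {A : Co0} {d : ℕ} {a : ℤ} : ∀ (es ts : List ℕ),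
    (∀ i < es.length, 8 * (mat (A ^ es.getD i 0)).trace + 384 = (ts.getD i 0 : ℕ)) → hasT d a es ts = true →
    (mat (A ^ d)).trace = a
  | [], _, _, h => absurd h (by show ¬ (false = true); simp)
  | _ :: _, [], _, h => absurd h (by show ¬ (false = true); simp)
  | e :: es, t :: ts, hI, h => by
    have e0 : hasT d a (e :: es) (t :: ts) = cnd (Nat.beq e d) (decide (Int.ofNat t = 8 * a + 384)) (hasT d a es ts) := rfl
    rw [e0] at h
    cases h1 : Nat.beq e d
    · rw [h1, cnd_false] at h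
      exact hasT_spec es ts (fun i hi => hI (i + 1) (by simpa using hi)) h
    · rw [h1, cnd_true, decide_eq_true_iff] at h
      have h2 := hI 0 (by simp)
      rw [List.getD_cons_zero, List.getD_cons_zero, Nat.eq_of_beq_eq_true h1] at h2
      have h3 : ((t : ℤ) : ℚ) = ((8 * a + 384 : ℤ) : ℚ) := congrArg _ h
      push_cast at h3
      linarith

end Cfsg.Agent.TAB.C2B
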