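import Cfsg.Agent.TAB.C2B.Defs
import Cfsg.Agent.TAB.C2B.Eng

/-!
# The enumeration of a coset of `2^(1+24)` : the masks (helper47)
-/

set_option autoImplicit false
set_option maxRecDepth 100000

namespace Cfsg.Agent.TAB.C2B

open Cfsg.Agent.Monster.PauliBasic Cfsg.Agent.Monster.PauliClif Cfsg.Agent.Monster.PauliRep
open Cfsg.Agent.Monster.PauliBits (bit bit_xor bit_and bit_shiftRight bit_zero bit_eq_zero_of_lt par32 bit_par32)
open Cfsg.Agent.H123.Cls
open Cfsg.Agent.Lib.BitNetSimple (force force_eq)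
open Cfsg.Agent.Lib.BitNet (value)
open Cfsg.Agent.H68.CoMdl (val_lt lenC)
open Cfsg.Agent.H264.TC.NoReal39 (CL)
open Cfsg.Agent.MonsterX.LaneLab (XL)
open Finset

/-- the number of bits -/
def cnt (x : ℕ) : ℕ := ∑ i ∈ range (2 ^ 17), (x.testBit i).toNat

theorem sum_bits {x m n : ℕ} (hx : ∀ i, x.testBit i = true → i < m) (h : m ≤ n) :
    ∑ i ∈ range n, (x.testBit i).toNat = ∑ i ∈ range m, (x.testBit i).toNat := by
  symm
  refine sum_subset (range_subset_range.2 h) fun i _ hi => ?_
  cases h2 : x.testBit i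
  · rfl
  · exact absurd (mem_range.2 (hx i h2)) hi

theorem popS_cnt {w k x : ℕ} (hw : 0 < w) (hk : 2 ^ 17 ≤ w * 2 ^ k) (hx : ∀ i, x.testBit i = true → i < 2 ^ 17)
    (h : cnt x < 2 ^ w - 1) : popS w (cmb w k) x = cnt x := by
  have e := sum_bits hx hk
  rw [popS_eq hw (by rw [e]; exact h), e, cnt]

theorem cnt_and_le (x y : ℕ) : cnt (x &&& y) ≤ cnt y := by
  refine sum_le_sum fun i _ => ?_
  rw [Nat.testBit_and]
  cases x.testBit i <;> cases y.testBit i <;> simp

theorem cnt_zero : cnt 0 = 0 := by simp [cnt]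

theorem sg_bit (x i : ℕ) : sg ℚ (bit x i) = 1 - 2 * ((x.testBit i).toNat : ℚ) := by
  unfold bit
  cases x.testBit i
  · simp [sg_zero]
  · simp only [if_true, sg_one, Bool.toNat_true]
    norm_num

theorem sum_mask (x F : ℕ) : ∑ j ∈ range (2 ^ 17), (if F.testBit j = true then sg ℚ (bit x j) else 0) =
    (cnt F : ℚ) - 2 * cnt (x &&& F) := by
  unfold cnt
  push_cast
  rw [mul_sum, ← sum_sub_distrib]
  refine sum_congr rfl fun j _ => ?_
  rw [Nat.testBit_and, sg_bit]
  cases F.testBit j <;> simp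

theorem bit_true {x k : ℕ} (h : x.testBit k = true) : bit x k = 1 := by
  unfold bit
  rw [h]
  rfl

theorem testBit_of_bit {x k : ℕ} (h : bit x k = 0) : x.testBit k = false := by
  have h2 : bit x k = bit 0 k := by rw [h, bit_zero]
  rw [bit_inj h2, Nat.zero_testBit]

/-! ### the fixed points -/

theorem testBit_orF (C Ns : List ℕ) (i : ℕ) : ∀ (l : List ℕ) (acc : ℕ), (orF C Ns l acc).testBit i = false ↔
    acc.testBit i = false ∧ ∀ j ∈ l, (xc C (value Ns j)).testBit i = false
  | [], acc => by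
    show acc.testBit i = false ↔ _
    simp
  | j :: l, acc => by
    have e : orF C Ns (j :: l) acc =
      force (cdF Ns j) fun u => fB (Nat.lor acc (xF C u 0)) (orF C Ns l) := rfl
    rw [e, force_eq, fB_eq, testBit_orF C Ns i l, xF_eq, Nat.zero_xor, cdF_eq]
    have e2 : (Nat.lor acc (xc C (value Ns j))).testBit i = (acc.testBit i || (xc C (value Ns j)).testBit i) :=
      Nat.testBit_or _ _ _
    rw [e2, Bool.or_eq_false_iff, List.forall_mem_cons, and_assoc]

theorem mem_r24 (j : ℕ) : j ∈ r24 ↔ j < 24 := by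
  have : r24 = List.range 24 := by decide
  rw [this, List.mem_range]

theorem testBit_fxM {Rd : List ℕ} (hl : Rd.length = 24) (hlt : ∀ c < 2 ^ 24, xc Rd c < 2 ^ 24) (i : ℕ) :
    (fxM CL XL Rd).testBit i = true ↔ XL.testBit i = true ∧ xc Rd (value CL i) = value CL i := by
  have hN : (List.zipWith (· ^^^ ·) Rd unL).length = 24 := by rw [List.length_zipWith, hl]; rfl
  have h1 : (orF CL (List.zipWith (· ^^^ ·) Rd unL) r24 0).testBit i = false ↔ xc Rd (value CL i) = value CL i := by
    rw [testBit_orF]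
    have h2 : ∀ j, bit (xc CL (value (List.zipWith (· ^^^ ·) Rd unL) j)) i =
        bit (xc Rd (value CL i)) j + bit (value CL i) j := by
      intro j
      rw [bit_xc_value lenC, dt_comm, ← bit_xc_value hN, xc_zip Rd unL _ (by rw [hl]; rfl),
        Mdl.xc_unL _ (val_lt i), bit_xor]
    constructor
    · intro h
      refine eq_of_bit (hlt _ (val_lt i)) (val_lt i) fun k hk => ?_
      have h3 := bit_false (h.2 k ((mem_r24 k).2 hk))
      rw [h2] at h3
      have := zmod2_add_self (bit (value CL i) k)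
      linear_combination h3 - this
    · intro h
      refine ⟨Nat.zero_testBit i, fun j _ => testBit_of_bit ?_⟩
      rw [h2, h, zmod2_add_self]
  unfold fxM
  rw [zipF_eq, fB_eq, ← h1]
  show (XL ^^^ (XL &&& _)).testBit i = true ↔ _
  rw [Nat.testBit_xor, Nat.testBit_and]
  cases XL.testBit i <;> cases (orF CL (List.zipWith (· ^^^ ·) Rd unL) r24 0).testBit i <;> simp

/-! ### linear and quadratic forms -/

theorem bit_linP (e : ℕ) : ∀ (f u : ℕ), bit (linP e f) u = if u < 2 ^ f then ∑ k ∈ range f, bit u k * bit e k else 0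
  | 0, u => by
    have e0 : linP e 0 = 0 := rfl
    rw [e0, bit_zero]
    simp
  | f + 1, u => by
    have e0 : linP e (f + 1) = fB (linP e f) fun x => Nat.lor x (Nat.shiftLeft
      (cnd (Nat.beq (Nat.land (Nat.shiftRight e f) 1) 0) x (Nat.xor x (Nat.sub (Nat.pow 2 (Nat.pow 2 f)) 1)))
      (Nat.pow 2 f)) := rfl
    rw [e0, fB_eq]
    obtain ⟨y, hy, hb⟩ : ∃ y, cnd (Nat.beq (Nat.land (Nat.shiftRight e f) 1) 0) (linP e f)
        (Nat.xor (linP e f) (Nat.sub (Nat.pow 2 (Nat.pow 2 f)) 1)) = y ∧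
        ∀ v, bit y v = bit (linP e f) v + if v < 2 ^ f then bit e f else 0 := by
      refine ⟨_, rfl, fun v => ?_⟩
      have h0 : (e >>> f).testBit 0 = e.testBit f := by rw [Nat.testBit_shiftRight, add_zero]
      rcases land_one (e >>> f) with ⟨h1, h2⟩ | ⟨h1, h2⟩
      · have h3 : Nat.beq (Nat.land (Nat.shiftRight e f) 1) 0 = true := h1
        rw [h3, cnd_true, bit_false (h0.symm.trans h2)]
        simp
      · have h3 : Nat.beq (Nat.land (Nat.shiftRight e f) 1) 0 = false := h1
        rw [h3, cnd_false, bit_true (h0.symm.trans h2)]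
        show bit (linP e f ^^^ (2 ^ 2 ^ f - 1)) v = _
        rw [bit_xor]
        congr 1
        unfold bit
        rw [Nat.testBit_two_pow_sub_one]
        simp
    rw [hy]
    have h4 : (Nat.lor (linP e f) (Nat.shiftLeft y (Nat.pow 2 f))).testBit u =
        ((linP e f).testBit u || (decide (u ≥ 2 ^ f) && y.testBit (u - 2 ^ f))) := by
      show (linP e f ||| (y <<< (2 ^ f))).testBit u = _
      rw [Nat.testBit_or, Nat.testBit_shiftLeft]
    rcases Nat.lt_or_ge u (2 ^ f) with hu | hu
    · have h5 : bit (Nat.lor (linP e f) (Nat.shiftLeft y (Nat.pow 2 f))) u = bit (linP e f) u := by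
        unfold bit
        rw [h4, decide_eq_false (by omega), Bool.false_and, Bool.or_false]
      rw [h5, bit_linP e f u, if_pos hu, if_pos (by rw [pow_succ]; omega), sum_range_succ, bit_eq_zero_of_lt hu,
        zero_mul, add_zero]
    · have h5 : (linP e f).testBit u = false := testBit_of_bit (by rw [bit_linP e f u, if_neg (by omega)])
      have h6 : bit (Nat.lor (linP e f) (Nat.shiftLeft y (Nat.pow 2 f))) u = bit y (u - 2 ^ f) := by
        unfold bit
        rw [h4, h5, decide_eq_true hu, Bool.true_and, Bool.false_or]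
      rw [h6, hb, bit_linP e f]
      obtain ⟨v, rfl⟩ := Nat.exists_eq_add_of_le hu
      rw [Nat.add_sub_cancel_left]
      by_cases hv : v < 2 ^ f
      · rw [if_pos hv, if_pos hv, if_pos (by rw [pow_succ]; omega), sum_range_succ]
        have h7 : bit (2 ^ f + v) f = 1 := by
          apply bit_true
          rw [Nat.testBit_two_pow_add_eq, Nat.testBit_eq_false_of_lt hv]
          rfl
        rw [h7, one_mul]
        congr 1
        refine sum_congr rfl fun k hk => ?_
        unfold bit
        rw [Nat.testBit_two_pow_add_gt (mem_range.1 hk)]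
      · rw [if_neg hv, if_neg hv, if_neg (by rw [pow_succ]; omega), add_zero]

theorem bit_qF (b : List ℕ) (f u : ℕ) : ∀ (l : List ℕ) (acc : ℕ), bit (qF b f l acc) u =
    bit acc u + (l.map fun j => bit (linP (value b j) f) u * bit (linP (value b (12 + j)) f) u).sum
  | [], acc => by
    show bit acc u = _
    simp
  | j :: l, acc => by
    have e : qF b f (j :: l) acc = force (cdF b j) fun u => force (cdF b (Nat.add 12 j)) fun v =>
      fB (Nat.xor acc (Nat.land (linP u f) (linP v f))) (qF b f l) := rfl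
    rw [e, force_eq, force_eq, fB_eq, bit_qF b f u l, cdF_eq, cdF_eq, List.map_cons, List.sum_cons, ← add_assoc]
    congr 1
    show bit (acc ^^^ (_ &&& _)) u = _
    rw [bit_xor, bit_and]
    rfl

theorem lenF_eq : ∀ l : List ℕ, lenF l = l.length
  | [] => rfl
  | _ :: l => congrArg Nat.succ (lenF_eq l)

theorem bit_linP_value (b : List ℕ) (j : ℕ) {u : ℕ} (hu : u < 2 ^ b.length) :
    bit (linP (value b j) b.length) u = bit (xc b u) j := by
  rw [bit_linP, if_pos hu, bit_xc]
  exact sum_congr rfl fun k _ => by rw [bit_value]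

theorem sum_list_range {M : Type*} [AddCommMonoid M] (f : ℕ → M) : ∀ n : ℕ,
    ((List.range n).map f).sum = ∑ k ∈ range n, f k
  | 0 => by simp
  | n + 1 => by rw [List.range_succ, List.map_append, List.sum_append, sum_list_range f n, sum_range_succ]; simp

theorem bit_Q (b : List ℕ) (u : ℕ) :
    bit (qF b b.length r12 0) u = if u < 2 ^ b.length then bt (xc b u) (xc b u) else 0 := by
  rw [bit_qF, bit_zero, zero_add]
  have e : r12 = List.range 12 := by decide
  rw [e, sum_list_range]
  split_ifs with hu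
  · unfold bt p12
    refine sum_congr rfl fun k _ => ?_
    rw [bit_linP_value b _ hu, bit_linP_value b _ hu, bit_and, bit_shiftRight]
  · refine sum_eq_zero fun k _ => ?_
    rw [bit_linP, if_neg hu, zero_mul]

theorem gP_eq {P : PL} {b : List ℕ} (hb : b.length ≤ 16) (hf : P.fb = b.length) (hQ : P.Qp = qF b b.length r12 0)
    {e : ℕ} (he : e < 2 ^ b.length) :
    ∑ u ∈ range (2 ^ b.length), sg ℚ (dt e u + bt (xc b u) (xc b u)) = 2 ^ b.length - 2 * (gP (cmb 18 13) P e : ℚ) := by
  have h1 : ∀ u, bit (linP e b.length ^^^ qF b b.length r12 0) u =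
      if u < 2 ^ b.length then dt e u + bt (xc b u) (xc b u) else 0 := by
    intro u
    rw [bit_xor, bit_linP, bit_Q, dt_of_lt (by omega) he]
    split_ifs
    · rfl
    · rw [add_zero]
  have h2 : ∀ i, (linP e b.length ^^^ qF b b.length r12 0).testBit i = true → i < 2 ^ b.length := by
    intro i hi
    by_contra h
    have h3 := bit_true hi
    rw [h1, if_neg h] at h3
    exact absurd h3 (by decide)
  have h16 : 2 ^ b.length ≤ 2 ^ 16 := Nat.pow_le_pow_right (by norm_num) hb
  have h17 : 2 ^ b.length ≤ 2 ^ 17 := le_trans h16 (by norm_num)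
  have h3 : cnt (linP e b.length ^^^ qF b b.length r12 0) =
      ∑ i ∈ range (2 ^ b.length), ((linP e b.length ^^^ qF b b.length r12 0).testBit i).toNat := sum_bits h2 h17
  have h4 : cnt (linP e b.length ^^^ qF b b.length r12 0) ≤ 2 ^ 16 := by
    rw [h3]
    refine le_trans (sum_le_card_nsmul _ _ 1 fun i _ => Bool.toNat_le _) ?_
    rw [card_range, smul_eq_mul, mul_one]
    exact h16
  have h5 : gP (cmb 18 13) P e = cnt (linP e b.length ^^^ qF b b.length r12 0) := by
    unfold gP
    rw [fB_eq, hf, hQ]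
    exact popS_cnt (by norm_num) (by norm_num) (fun i hi => lt_of_lt_of_le (h2 i hi) h17)
      (lt_of_le_of_lt h4 (by norm_num))
  rw [h5, h3]
  push_cast
  rw [mul_sum]
  have h6 : (2 : ℚ) ^ b.length = ∑ _i ∈ range (2 ^ b.length), (1 : ℚ) := by simp
  rw [h6, ← sum_sub_distrib]
  refine sum_congr rfl fun u hu => ?_
  rw [← sg_bit, h1, if_pos (mem_range.1 hu)]

theorem sN_eq {P : PL} (hM : P.M = cmb P.L.pw P.L.pk) (hw : 0 < P.L.pw) (hk : 2 ^ 17 ≤ P.L.pw * 2 ^ P.L.pk)
    (hx : ∀ i, P.Fx.testBit i = true → i < 2 ^ 17) (hn : cnt P.Fx < 2 ^ P.L.pw - 1) (e : ℕ) :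
    sN CL P e = cnt (xc CL (xc P.L.us e) &&& P.Fx) := by
  unfold sN
  rcases beq_zero_or P.Fx with ⟨h1, h2⟩ | ⟨h1, -⟩
  · rw [h1, cnd_true, h2, Nat.and_zero, cnt_zero]
  · rw [h1, cnd_false, force_eq, fB_eq, xF_eq, xF_eq, Nat.zero_xor, Nat.zero_xor, hM]
    refine popS_cnt hw hk (fun i hi => hx i ?_) (lt_of_le_of_lt (cnt_and_le _ _) hn)
    have h3 : (xc CL (xc P.L.us e) &&& P.Fx).testBit i = true := hi
    rw [Nat.testBit_and, Bool.and_eq_true] at h3
    exact h3.2

theorem sum_sN {P : PL} (hM : P.M = cmb P.L.pw P.L.pk) (hw : 0 < P.L.pw) (hk : 2 ^ 17 ≤ P.L.pw * 2 ^ P.L.pk)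
    (hx : ∀ i, P.Fx.testBit i = true → i < 2 ^ 17) (hn : cnt P.Fx < 2 ^ P.L.pw - 1) (e : ℕ) :
    ∑ j ∈ range (2 ^ 17), (if P.Fx.testBit j = true then sg ℚ (dt (xc P.L.us e) (value CL j)) else 0) =
      (cnt P.Fx : ℚ) - 2 * sN CL P e := by
  rw [sN_eq hM hw hk hx hn, ← sum_mask]
  exact sum_congr rfl fun j _ => by rw [bit_xc_value lenC]

theorem parK_eq (x : ℕ) : parK x = par32 x := by
  unfold parK
  simp only [force_eq]
  rfl

/-- the type of an element of `Q` -/
theorem qcF_spec (e : ℕ) : (e = 0 ∧ qcF e = 0) ∨ (e ≠ 0 ∧ bt e e = 0 ∧ qcF e = 1) ∨ (e ≠ 0 ∧ bt e e = 1 ∧ qcF e = 2) := by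
  unfold qcF
  rcases beq_zero_or e with ⟨h1, h2⟩ | ⟨h1, h2⟩
  · exact Or.inl ⟨h2, by rw [h1, cnd_true]⟩
  · right
    rw [h1, cnd_false, parK_eq]
    have h3 := bit_par32 (e &&& (e >>> 12) &&& 4095) 0
    rw [if_pos rfl] at h3
    have h4 : ∑ i ∈ range 32, bit (e &&& (e >>> 12) &&& 4095) i = bt e e := by
      unfold bt p12
      rw [← sum_subset (range_subset_range.2 (by norm_num : 12 ≤ 32))]
      · refine sum_congr rfl fun k hk => ?_
        have h5 : bit 4095 k = 1 := by
          apply bit_true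
          rw [show 4095 = 2 ^ 12 - 1 from rfl, Nat.testBit_two_pow_sub_one]
          simpa using hk
        rw [bit_and _ 4095, h5, mul_one]
      · intro k _ hk
        have h5 : bit 4095 k = 0 := by
          apply bit_false
          rw [show 4095 = 2 ^ 12 - 1 from rfl, Nat.testBit_two_pow_sub_one]
          simpa using hk
        rw [bit_and _ 4095, h5, mul_zero]
    rw [h4] at h3
    have h6 : par32 (e &&& (e >>> 12) &&& 4095) < 2 := by
      unfold par32
      simp only [Nat.and_one_is_mod]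
      omega
    have h7 : Nat.succ (par32 (Nat.land (Nat.land e (Nat.shiftRight e 12)) 4095)) =
      par32 (e &&& (e >>> 12) &&& 4095) + 1 := rfl
    rw [h7]
    generalize par32 (e &&& (e >>> 12) &&& 4095) = y at h3 h6
    interval_cases y
    · exact Or.inl ⟨h2, h3.symm, rfl⟩
    · exact Or.inr ⟨h2, h3.symm, rfl⟩

theorem eqL_false : ∀ {l l' : List ℕ}, eqL l l' = true ∨ eqL l l' = false := by
  intro l l'
  cases eqL l l' <;> simp

theorem idxF_spec (x : List ℕ) : ∀ l : List (List ℕ), idxF x l < l.length → l.getD (idxF x l) [] = x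
  | [], h => absurd h (by simp)
  | y :: l, h => by
    have e : idxF x (y :: l) = cnd (eqL y x) 0 (Nat.succ (idxF x l)) := rfl
    rw [e] at h ⊢
    rcases eqL_false (l := y) (l' := x) with h1 | h1
    · rw [h1, cnd_true, List.getD_cons_zero]
      exact eqL_eq h1
    · rw [h1, cnd_false] at h ⊢
      rw [List.getD_cons_succ]
      exact idxF_spec x l (by simpa using h)

theorem idxF_le (x : List ℕ) : ∀ l : List (List ℕ), idxF x l ≤ l.length
  | [] => le_rfl
  | y :: l => by
    have e : idxF x (y :: l) = cnd (eqL y x) 0 (Nat.succ (idxF x l)) := rfl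
    rw [e]
    have := idxF_le x l
    rcases eqL_false (l := y) (l' := x) with h1 | h1
    · rw [h1, cnd_true]
      exact Nat.zero_le _
    · rw [h1, cnd_false, List.length_cons]
      omega

theorem sumT_eq (g : ℕ → ℕ) : ∀ k b : ℕ, sumT g k b = ∑ i ∈ range (2 ^ k), g (b + i)
  | 0, b => by
    show g b = _
    simp
  | k + 1, b => by
    have e : sumT g (k + 1) b = force (sumT g k b) fun x => force (Nat.add b (Nat.pow 2 k)) fun b' =>
      Nat.add x (sumT g k b') := rfl
    rw [e, force_eq, force_eq, sumT_eq g k, sumT_eq g k, pow_succ, mul_two, sum_range_add]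
    show _ + ∑ i ∈ range (2 ^ k), g (b + 2 ^ k + i) = _
    simp only [add_assoc]

theorem prep_eq {α : Type} (C : List ℕ) (U : ℕ) : ∀ (l : List LD) (κ : List PL → α),
    prep C U l κ = κ (l.map (mkPL C U))
  | [], _ => rfl
  | L :: l, κ => by
    have e : prep C U (L :: l) κ = prep C U l fun ps => κ (mkPL C U L :: ps) := rfl
    rw [e, prep_eq C U l]
    rfl

end Cfsg.Agent.TAB.C2B
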