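import Cfsg.Agent.TAB.C2B.Cls

/-!
# From the signature to the type (helper47)
-/

set_option autoImplicit false
set_option maxRecDepth 100000

namespace Cfsg.Agent.TAB.C2B

open Cfsg Cfsg.Agent.Monster Cfsg.Agent.MonsterX
open Cfsg.Agent.Monster.PauliBasic Cfsg.Agent.Monster.PauliClif Cfsg.Agent.Monster.PauliRep
open Cfsg.Agent.H831.FF (mat)
open Cfsg.Agent.H155.TC.Pau (tr)
open Cfsg.Agent.H155.TC.Val (ι_inj)
open Cfsg.Agent.BpSpor.MBigModel (MG zz pi orderOf_zz zz_sq zz_ne)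
open Subgroup (centralizer mem_centralizer_singleton_iff)

variable {D : CD} {k : MG} {α : Pauli 12 ≃* Pauli 12} {T : (B 12 → ℚ) ≃ₗ[ℚ] (B 12 → ℚ)} {σ : List ℕ}

theorem getD_mem_rl {i : ℕ} (hi : i < D.rl.length) : D.rl.getD i dL ∈ D.rl := by
  rw [List.getD_eq_getElem _ _ hi]
  exact List.getElem_mem _

theorem Raw.val (hD : ClsOk D) (h : Ac k D.A α T) (hr : Raw D σ α T) {i : ℕ} (hi : i < D.rl.length) :
    2 * tV (k ^ (D.rl.getD i dL).d) = val2 (D.rl.getD i dL) (σ.getD (i + 2) 0) := by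
  obtain ⟨h1, h2⟩ := hr.lv i hi
  obtain ⟨h3, h4⟩ := hD.tr _ (getD_mem_rl hi)
  rw [(h.pow _).tV, ← pow_add, ← two_mul, h1, h2, h3, h4, val2]
  generalize σ.getD (i + 2) 0 / 4 = y
  push_cast
  ring

theorem Sv.eq {s s' : ℕ} (h : Sv α s) (h' : Sv α s') (hs : s < 2 ^ 24) (hs' : s' < 2 ^ 24) : s = s' :=
  eq_of_bit hs hs' fun k hk => (h k hk).symm.trans (h' k hk)

theorem io_ps_ne {t u : ZMod 2} {c : ℕ} (hc : c < 2 ^ 24) (h0 : c ≠ 0) : io (ps t c) ≠ io (ps u 0) := fun h =>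
  h0 (ps_inj hc (by norm_num) (ι_inj h)).2

theorem io_ps_ne_one {t : ZMod 2} {c : ℕ} (hc : c < 2 ^ 24) (h0 : c ≠ 0) : io (ps t c) ≠ 1 := by
  have := io_ps_ne (t := t) (u := 0) hc h0
  rwa [ps_zero_zero, map_one] at this

theorem io_ps_ne_zz {t : ZMod 2} {c : ℕ} (hc : c < 2 ^ 24) (h0 : c ≠ 0) : io (ps t c) ≠ zz := by
  have := io_ps_ne (t := t) (u := 1) hc h0
  rwa [ps_one_zero, io_z] at this

theorem io_sq (t : ZMod 2) (c : ℕ) : io (ps t c) ^ 2 = io (ps (bt c c) 0) := by rw [pow_two, ← map_mul, ps_sq]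

theorem ord_two {t : ZMod 2} {c : ℕ} (hc : c < 2 ^ 24) (h0 : c ≠ 0) (h : bt c c = 0) : orderOf (io (ps t c)) = 2 := by
  refine orderOf_eq_prime ?_ (io_ps_ne_one hc h0)
  rw [io_sq, h, ps_zero_zero, map_one]

theorem io_sq_zz {t : ZMod 2} {c : ℕ} (h : bt c c = 1) : io (ps t c) ^ 2 = zz := by rw [io_sq, h, ps_one_zero, io_z]

theorem ord_four {t : ZMod 2} {c : ℕ} (h : bt c c = 1) : orderOf (io (ps t c)) = 4 := by
  have h1 := io_sq_zz (t := t) h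
  refine orderOf_eq_prime_pow (p := 2) (n := 1) (by rw [pow_one, h1]; exact zz_ne) ?_
  rw [show 2 ^ (1 + 1) = 2 * 2 from rfl, pow_mul, h1, pow_two, zz_sq]

theorem Ac.ord_dvd {A : Co0} (h : Ac k A α T) : orderOf (QuotientGroup.mk A : Spor.Co1) ∣ orderOf k := by
  have h1 := orderOf_map_dvd BpSpor.MBigModel.pi (⟨k, mem_centralizer_singleton_iff.2 h.comm⟩ : centralizer ({zz} : Set MG))
  rwa [h.pi, ← Subgroup.orderOf_coe] at h1

/-- the power `o` -/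
theorem Raw.top (hD : ClsOk D) (h : Ac k D.A α T) (hr : Raw D σ α T) :
    ∃ t c, c < 2 ^ 24 ∧ k ^ D.o = io (ps t c) ∧ σ.getD 1 0 = qcF (sw c) := by
  obtain ⟨p, hp⟩ := (h.pow D.o).exists_io (by rw [QuotientGroup.mk_pow, ← hD.ord, pow_orderOf_eq_one])
  obtain ⟨c, hc, h1⟩ := exists_ps p
  obtain ⟨e, he, h2, h3⟩ := hr.q
  have h4 : α ^ D.o = MulAut.conj p := (h.pow D.o).alpha_eq (hp ▸ ac_io p)
  rw [h4, h1] at h2
  exact ⟨p.s, c, hc, by rw [← h1, hp], by rw [h3, h2.eq (sv_conj _ hc) he (sw_lt hc)]⟩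

theorem Raw.ord (hD : ClsOk D) (h : Ac k D.A α T) (hr : Raw D σ α T) :
    orderOf k = ocF D σ * D.o ∧ (ocF D σ = 4 → k ^ (2 * D.o) = zz) ∧
      (k ^ (ocF D σ * D.o / 2) = zz ↔ (σ.getD 1 0 = 0 ∧ ocF D σ = 2) ∨ σ.getD 1 0 = 2) := by
  obtain ⟨t, c, hc, h1, h2⟩ := hr.top hD h
  have h2o := hD.two
  have h3 : orderOf k = orderOf (k ^ D.o) * D.o := by
    have h4 : D.o ∣ orderOf k := hD.ord ▸ h.ord_dvd
    rw [orderOf_pow_of_dvd (by omega) h4, Nat.div_mul_cancel h4]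
  have h5 := hr.val hD h hD.top_lt
  rw [hD.top_d, h1] at h5
  have hs0 : sw c = 0 → c = 0 := fun h6 => by rw [← sw_sw hc, h6, sw_zero]
  have hs1 : sw c ≠ 0 → c ≠ 0 := fun h6 h7 => h6 (by rw [h7, sw_zero])
  rw [h3, h1]
  rcases qcF_spec (sw c) with ⟨a1, a2⟩ | ⟨a1, a2, a3⟩ | ⟨a1, a2, a3⟩
  · rw [a2] at h2
    rw [hs0 a1] at h1 h5 ⊢
    rcases zmod2_cases t with rfl | rfl
    · rw [ps_zero_zero, map_one] at h1 h5 ⊢
      rw [tV_one] at h5
      have e : ocF D σ = 1 := by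
        rw [ocF, if_pos h2, if_pos]
        have : ((val2 (D.rl.getD D.top dL) (σ.getD (D.top + 2) 0) : ℤ) : ℚ) = (393768 : ℤ) := by rw [← h5]; norm_num
        exact_mod_cast this
      rw [e, orderOf_one, h2]
      refine ⟨rfl, fun h6 => absurd h6 (by decide), ⟨fun h6 => ?_, fun h6 => absurd h6 (by decide)⟩⟩
      exfalso
      have h7 := h.pow (1 * D.o / 2)
      rw [h6, ← io_z] at h7
      have h8 := mk_of_io h7
      rw [QuotientGroup.mk_pow, ← orderOf_dvd_iff_pow_eq_one, hD.ord] at h8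
      have := Nat.le_of_dvd (by omega) h8
      omega
    · rw [ps_one_zero, io_z] at h1 h5 ⊢
      rw [tV_zz] at h5
      have e : ocF D σ = 2 := by
        rw [ocF, if_pos h2, if_neg]
        intro h6
        rw [h6] at h5
        norm_num at h5
      rw [e, orderOf_zz, h2, Nat.mul_div_cancel_left _ (by norm_num), h1]
      exact ⟨rfl, fun h6 => absurd h6 (by decide), by simp⟩
  · rw [a3] at h2
    rw [bt_sw hc] at a2
    have e : ocF D σ = 2 := by rw [ocF, h2]; rfl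
    rw [e, ord_two hc (hs1 a1) a2, h2, Nat.mul_div_cancel_left _ (by norm_num), h1]
    exact ⟨rfl, fun h6 => absurd h6 (by decide), ⟨fun h6 => absurd h6 (io_ps_ne_zz hc (hs1 a1)),
      fun h6 => absurd h6 (by decide)⟩⟩
  · rw [a3] at h2
    rw [bt_sw hc] at a2
    have e : ocF D σ = 4 := by rw [ocF, h2]; rfl
    have h6 : k ^ (2 * D.o) = zz := by rw [mul_comm, pow_mul, h1, io_sq_zz a2]
    rw [e, ord_four a2, h2, show 4 * D.o / 2 = 2 * D.o by omega]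
    exact ⟨rfl, fun _ => h6, by simp [h6]⟩

theorem mem_zip_drop {q : LD × ℕ} (h : q ∈ D.rl.zip (σ.drop 2)) :
    ∃ i < D.rl.length, q.1 = D.rl.getD i dL ∧ q.2 = σ.getD (i + 2) 0 := by
  obtain ⟨i, hi, rfl⟩ := List.getElem_of_mem h
  rw [List.length_zip, List.length_drop, lt_min_iff] at hi
  refine ⟨i, hi.1, ?_, ?_⟩
  · rw [List.getElem_zip, List.getD_eq_getElem _ _ hi.1]
  · rw [List.getElem_zip, List.getD_eq_getElem _ _ (by omega), List.getElem_drop]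
    simp only [add_comm 2 i]

theorem Raw.ty (hD : ClsOk D) (h : Ac k D.A α T) (hr : Raw D σ α T) {i : ℕ} {f : Bool} (hc : chkT D σ i f = true) :
    i < 129 ∧ HasTy k (TT.getD i dT) ∧ (k ^ ((TT.getD i dT).ord / 2) = zz ↔ f = true) := by
  obtain ⟨h1, h2, h3⟩ := hr.ord hD h
  simp only [chkT, Bool.and_eq_true, decide_eq_true_iff, beq_iff_eq, List.all_eq_true, Bool.or_eq_true,
    List.any_eq_true] at hc
  obtain ⟨⟨⟨c1, c2⟩, c3⟩, c4⟩ := hc
  refine ⟨c1, ⟨by rw [h1, c2], fun p hp => ?_⟩, ?_⟩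
  · rcases c3 p hp with ⟨⟨a1, a2⟩, a3⟩ | ⟨q, hq, a1, a2⟩
    · rw [a2, h2 a1, a3, tV_zz]
      norm_num
    · obtain ⟨j, hj, b1, b2⟩ := mem_zip_drop hq
      have h4 := hr.val hD h hj
      rw [← b1, ← b2, a1, a2] at h4
      push_cast at h4
      linarith
  · rw [c2, h3, c4]
    simp

end Cfsg.Agent.TAB.C2B
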